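import Mathlib

/-! Alternating bilinear forms have even rank. -/

set_option autoImplicit false

namespace Cfsg.Agent.Lib.KnownSimple

open Module

/-- An alternating bilinear form on a finite-dimensional vector space has even rank
(the rank being the dimension of the range of `B : V → V*`). -/
theorem even_finrank_range_of_alt {F : Type*} [Field F] {V : Type*} [AddCommGroup V] [Module F V]
    [FiniteDimensional F V] (B : V →ₗ[F] V →ₗ[F] F) (hB : ∀ v, B v v = 0) :
    Even (finrank F (LinearMap.range B)) := by
  classical
  induction' h : finrank F V using Nat.strong_induction_on with n ih generalizing V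
  by_cases hB0 : B = 0
  · rw [hB0, LinearMap.range_zero, finrank_bot]
    exact Even.zero
  -- find `u v` with `B u v = 1`
  obtain ⟨u, v, huv⟩ : ∃ u v, B u v = 1 := by
    by_contra hcon
    push Not at hcon
    apply hB0
    ext x y
    by_contra hne
    have hne' : B x y ≠ 0 := by simpa using hne
    apply hcon ((B x y)⁻¹ • x) y
    simp [hne']
  have hsk : ∀ x y, B x y = - B y x := by
    intro x y
    have h1 := hB (x + y)
    simp only [map_add, LinearMap.add_apply, hB, zero_add, add_zero] at h1
    exact eq_neg_of_add_eq_zero_right h1
  have hvu : B v u = -1 := by rw [hsk, huv]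
  -- the map `x ↦ (B u x, B v x)` and its kernel
  let π : V →ₗ[F] (F × F) := LinearMap.prod (B u) (B v)
  have hπ : Function.Surjective π := by
    rintro ⟨a, b⟩
    refine ⟨a • v - b • u, ?_⟩
    simp [π, huv, hvu, hB]
  let W : Submodule F V := LinearMap.ker π
  have hWmem : ∀ x, x ∈ W ↔ B u x = 0 ∧ B v x = 0 := by
    intro x
    simp [W, π, LinearMap.mem_ker]
  have hfin : finrank F W + 2 = finrank F V := by
    have h1 := LinearMap.finrank_range_add_finrank_ker π
    rw [LinearMap.range_eq_top.mpr hπ, finrank_top, finrank_prod, finrank_self] at h1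
    change finrank F (LinearMap.ker π) + 2 = _
    omega
  let B' : W →ₗ[F] W →ₗ[F] F := B.compl₁₂ W.subtype W.subtype
  have hB' : ∀ x, B' x x = 0 := fun x => hB x
  have hIH := ih (finrank F W) (by omega) B' hB' rfl
  -- the kernels agree
  have hkerle : LinearMap.ker B ≤ W := by
    intro x hx
    rw [LinearMap.mem_ker] at hx
    rw [hWmem, hsk u x, hsk v x, hx]
    simp
  have hker : Submodule.comap W.subtype (LinearMap.ker B) = LinearMap.ker B' := by
    ext x
    simp only [Submodule.mem_comap, LinearMap.mem_ker, Submodule.subtype_apply]
    constructor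
    · intro hx
      ext y
      simp [B', hx]
    · intro hx
      have hxW := (hWmem x).mp x.2
      ext y
      have h0 : B x (u) = 0 := by rw [hsk, hxW.1]; simp
      have h1 : B x (v) = 0 := by rw [hsk, hxW.2]; simp
      -- decompose y
      have hy : y - (B u y) • v + (B v y) • u ∈ W := by
        rw [hWmem]
        constructor
        · simp [huv, hB]
        · simp [hvu, hB]
      have h2 : B' x ⟨_, hy⟩ = 0 := by rw [hx]; simp
      have h3 : B x (y - (B u y) • v + (B v y) • u) = 0 := h2
      simp only [map_add, map_sub, map_smul, h0, h1, smul_eq_mul, mul_zero, sub_zero, add_zero] at h3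
      simpa using h3
  have hkercard : finrank F (LinearMap.ker B') = finrank F (LinearMap.ker B) := by
    rw [← hker]
    exact LinearEquiv.finrank_eq (Submodule.comapSubtypeEquivOfLe hkerle)
  have h1 := LinearMap.finrank_range_add_finrank_ker B
  have h2 := LinearMap.finrank_range_add_finrank_ker B'
  have h3 : finrank F (LinearMap.range B) = finrank F (LinearMap.range B') + 2 := by omega
  rw [h3]
  exact hIH.add (by decide)

end Cfsg.Agent.Lib.KnownSimple
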