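import Mathlib
import Cfsg.Agent.Lib.Transfer.Hall
import Cfsg.Prelude.Def_KGroupFacts

/-!
# Generic tools for stem extensions

Transfer to the preimage of a subgroup of index prime to the order of a central element, the
abelian case, and the dicyclic case.
-/

set_option autoImplicit false

universe u

namespace Cfsg.Agent.Lib.KnownSimple

open Subgroup
open scoped commutatorElement

section generic

variable {Γ G : Type*} [Group Γ] [Group G]

/-- A central element of `Γ'` lying in `U` with order prime to the index of `U` lies in `U'`. -/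
theorem mem_commutator_of_central [Finite Γ] (U : Subgroup Γ) {z : Γ} (hz : ∀ y : Γ, y * z = z * y)
    (hzU : z ∈ U) (hzc : z ∈ commutator Γ) (hco : Nat.Coprime (orderOf z) U.index) :
    z ∈ ⁅U, U⁆ := by
  have hmem : z ^ U.index ∈ U := pow_mem hzU _
  have h1 := Cfsg.Agent.Lib.Transfer.transfer_central (Abelianization.of (G := U)) z hz hmem
  have h2 : (Abelianization.of (G := U)).transfer z = 1 :=
    Abelianization.commutator_subset_ker _ hzc
  rw [h2] at h1
  have h3 : (⟨z ^ U.index, hmem⟩ : U) ∈ commutator U := by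
    have := h1.symm
    rwa [← MonoidHom.mem_ker, Abelianization.ker_of] at this
  have h4 : z ^ U.index ∈ ⁅U, U⁆ := by
    rw [← Subgroup.map_subtype_commutator]
    exact ⟨_, h3, rfl⟩
  obtain ⟨m, hm⟩ := exists_pow_eq_self_of_coprime (x := z) (n := U.index) hco.symm
  rw [← hm]
  exact pow_mem h4 _

/-- Transfer to the preimage of a subgroup. -/
theorem mem_commutator_comap [Finite Γ] {σ : Γ →* G} (hsurj : Function.Surjective σ)
    (hK : σ.ker ≤ center Γ) (hK' : σ.ker ≤ commutator Γ) (T : Subgroup G) {z : Γ} (hz : z ∈ σ.ker)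
    (hco : Nat.Coprime (orderOf z) T.index) : z ∈ ⁅T.comap σ, T.comap σ⁆ := by
  refine mem_commutator_of_central _ (fun y => ?_) ?_ (hK' hz) ?_
  · exact Subgroup.mem_center_iff.mp (hK hz) y
  · rw [Subgroup.mem_comap, MonoidHom.mem_ker.mp hz]; exact one_mem _
  · rwa [Subgroup.index_comap_of_surjective _ hsurj]

/-- A stem extension with no central `r`-element for prime `r` has trivial kernel. -/
theorem ker_eq_bot_of_prime [Finite Γ] (σ : Γ →* G)
    (h : ∀ z ∈ σ.ker, (orderOf z).Prime → False) : σ.ker = ⊥ := by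
  rw [Subgroup.eq_bot_iff_forall]
  intro z hz
  by_contra hne
  have h1 : orderOf z ≠ 1 := fun h1 => hne (orderOf_eq_one_iff.mp h1)
  obtain ⟨r, hr, hd⟩ := Nat.exists_prime_and_dvd h1
  have h0 : 0 < orderOf z := orderOf_pos z
  refine h (z ^ (orderOf z / r)) (pow_mem hz _) ?_
  rw [orderOf_pow' _ (Nat.div_pos (Nat.le_of_dvd h0 hd) hr.pos).ne',
    Nat.gcd_eq_right (Nat.div_dvd_of_dvd hd), Nat.div_div_self hd h0.ne']
  exact hr

/-- The trivial group extension witnesses the existence part of the trivial multiplier. -/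
theorem hasCyclicSchurMultiplier_one_of {H : Type u} [Group H] [Finite H]
    (h : ∀ (Γ : Type u) [Group Γ] [Finite Γ] (σ : Γ →* H), Cfsg.IsStemExtension σ → σ.ker = ⊥) :
    Cfsg.HasCyclicSchurMultiplier H 1 := by
  refine ⟨⟨H, inferInstance, inferInstance, MonoidHom.id H, ⟨Function.surjective_id, ?_, ?_⟩, ?_⟩, ?_⟩
  · rw [MonoidHom.ker_id]; exact bot_le
  · rw [MonoidHom.ker_id]; exact bot_le
  · have h1 : Subsingleton (MonoidHom.id H).ker := by
      rw [MonoidHom.ker_id]; infer_instance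
    have h2 : Subsingleton (Multiplicative (ZMod 1)) := inferInstanceAs (Subsingleton (ZMod 1))
    refine ⟨MulEquiv.ofBijective (1 : (MonoidHom.id H).ker →* Multiplicative (ZMod 1)) ⟨?_, ?_⟩⟩
    · intro a b _; exact Subsingleton.elim _ _
    · intro b; exact ⟨1, Subsingleton.elim _ _⟩
  · intro Γ _ _ σ hσ
    have := h Γ σ hσ
    refine ⟨1, fun x => ?_⟩
    refine ⟨1, ?_⟩
    apply Subtype.ext
    have hx : (x : Γ) ∈ (⊥ : Subgroup Γ) := by rw [← this]; exact x.2
    rw [Subgroup.mem_bot] at hx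
    simp [hx]

/-- Central kernel and cyclic subgroup: the preimage is abelian. -/
theorem commutator_comap_zpowers (σ : Γ →* G) (hsurj : Function.Surjective σ)
    (hK : σ.ker ≤ center Γ) (g : G) :
    ⁅(zpowers g).comap σ, (zpowers g).comap σ⁆ = ⊥ := by
  rw [eq_bot_iff, Subgroup.commutator_le]
  obtain ⟨g', rfl⟩ := hsurj g
  have key : ∀ u ∈ (zpowers (σ g')).comap σ, ∃ i : ℤ, ∃ k ∈ σ.ker, u = k * g' ^ i := by
    intro u hu
    obtain ⟨i, hi⟩ := Subgroup.mem_zpowers_iff.mp (Subgroup.mem_comap.mp hu)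
    refine ⟨i, u * (g' ^ i)⁻¹, ?_, by group⟩
    rw [MonoidHom.mem_ker, map_mul, map_inv, map_zpow, hi]
    group
  intro u hu v hv
  obtain ⟨i, k, hk, rfl⟩ := key u hu
  obtain ⟨j, l, hl, rfl⟩ := key v hv
  rw [Subgroup.mem_bot, commutatorElement_eq_one_iff_mul_comm]
  have h1 := Subgroup.mem_center_iff.mp (hK hk)
  have h2 := Subgroup.mem_center_iff.mp (hK hl)
  calc k * g' ^ i * (l * g' ^ j) = k * l * (g' ^ i * g' ^ j) := by
        rw [mul_assoc k, show g' ^ i * (l * g' ^ j) = (g' ^ i * l) * g' ^ j by group, h2 (g' ^ i)]; group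
    _ = l * k * (g' ^ j * g' ^ i) := by
        rw [h1 l, ← zpow_add, ← zpow_add, add_comm]
    _ = l * g' ^ j * (k * g' ^ i) := by
        rw [mul_assoc l (g' ^ j), show g' ^ j * (k * g' ^ i) = (g' ^ j * k) * g' ^ i by group, h1 (g' ^ j)]; group

/-- Commutators of a generated subgroup, modulo a subgroup normalized by the generators. -/
theorem commutator_closure_le (S : Set Γ) (N : Subgroup Γ) (hn : closure S ≤ normalizer (N : Set Γ))
    (hc : ∀ s ∈ S, ∀ t ∈ S, ⁅s, t⁆ ∈ N) : ⁅closure S, closure S⁆ ≤ N := by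
  rw [Subgroup.commutator_le]
  have hconj : ∀ x ∈ closure S, ∀ n ∈ N, x * n * x⁻¹ ∈ N := fun x hx n hnn =>
    (Subgroup.mem_normalizer_iff.mp (hn hx) n).mp hnn
  intro u hu v hv
  induction hu, hv using Subgroup.closure_induction₂ with
  | mem x y hx hy => exact hc x hx y hy
  | one_left x hx => simp
  | one_right x hx => simp
  | mul_left x y z hx hy hz h1 h2 =>
    have e : ⁅x * y, z⁆ = x * ⁅y, z⁆ * x⁻¹ * ⁅x, z⁆ := by
      simp only [commutatorElement_def]; group
    rw [e]
    exact mul_mem (hconj x hx _ h2) h1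
  | mul_right x y z hx hy hz h1 h2 =>
    have e : ⁅z, x * y⁆ = ⁅z, x⁆ * (x * ⁅z, y⁆ * x⁻¹) := by
      simp only [commutatorElement_def]; group
    rw [e]
    exact mul_mem h1 (hconj x hx _ h2)
  | inv_left x y hx hy h =>
    have e : ⁅x⁻¹, y⁆ = x⁻¹ * ⁅x, y⁆⁻¹ * x⁻¹⁻¹ := by
      simp only [commutatorElement_def]; group
    rw [e]
    exact hconj _ (inv_mem hx) _ (inv_mem h)
  | inv_right x y hx hy h =>
    have e : ⁅x, y⁻¹⁆ = y⁻¹ * ⁅x, y⁆⁻¹ * y⁻¹⁻¹ := by
      simp only [commutatorElement_def]; group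
    rw [e]
    exact hconj _ (inv_mem hy) _ (inv_mem h)

/-- The dicyclic case: for `T = ⟨g, b⟩` with `g` of order `2m`, `b g b⁻¹ = g⁻¹`, `b² = g^m`, the
derived subgroup of the preimage of `T` meets the kernel trivially. -/
theorem eq_one_of_dicyclic (σ : Γ →* G) (hsurj : Function.Surjective σ) (hK : σ.ker ≤ center Γ)
    (g b : G) (m : ℕ) (hg : orderOf g = 2 * m) (hb1 : b * g * b⁻¹ = g⁻¹) (hb2 : b ^ 2 = g ^ m)
    {z : Γ} (hz : z ∈ σ.ker)
    (hzU : z ∈ ⁅(closure {g, b}).comap σ, (closure {g, b}).comap σ⁆) : z = 1 := by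
  obtain ⟨a, rfl⟩ := hsurj g
  obtain ⟨d, rfl⟩ := hsurj b
  have hcen : ∀ k ∈ σ.ker, ∀ x : Γ, x * k = k * x := fun k hk x =>
    Subgroup.mem_center_iff.mp (hK hk) x
  -- `y`
  set y : Γ := d * a * d⁻¹ * a with hy
  have hyK : y ∈ σ.ker := by
    rw [MonoidHom.mem_ker, hy, map_mul, map_mul, map_mul, map_inv, hb1]
    group
  have hda : d * a * d⁻¹ = y * a⁻¹ := by rw [hy]; group
  have hda' : d * a⁻¹ * d⁻¹ = a * y⁻¹ := by
    have : d * a⁻¹ * d⁻¹ = (d * a * d⁻¹)⁻¹ := by group
    rw [this, hda, mul_inv_rev, inv_inv]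
  set c : Γ := ⁅a, d⁆ with hc
  have hc2 : c = a * (a * y⁻¹) := by
    rw [hc, commutatorElement_def, ← hda']; group
  have hyinv : y⁻¹ ∈ σ.ker := inv_mem hyK
  have hca : a * c = c * a := by
    rw [hc2]
    have := hcen _ hyinv a
    calc a * (a * (a * y⁻¹)) = a * a * (y⁻¹ * a) := by rw [← this]; group
      _ = a * (a * y⁻¹) * a := by group
  have hcd : d * c * d⁻¹ = c⁻¹ := by
    rw [hc2]
    have e : d * (a * (a * y⁻¹)) * d⁻¹ = (d * a * d⁻¹) * ((d * a * d⁻¹) * (d * y⁻¹ * d⁻¹)) := by group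
    rw [e, hda]
    have e2 : d * y⁻¹ * d⁻¹ = y⁻¹ := by
      rw [hcen _ hyinv d]; group
    rw [e2]
    have h1 := hcen _ hyK a⁻¹
    have h2 := hcen _ hyinv a⁻¹
    have h3 := hcen _ hyK a
    calc y * a⁻¹ * (y * a⁻¹ * y⁻¹) = a⁻¹ * a⁻¹ * y := by
          rw [show y * a⁻¹ * (y * a⁻¹ * y⁻¹) = y * (a⁻¹ * y) * a⁻¹ * y⁻¹ by group, h1]
          rw [show y * (y * a⁻¹) * a⁻¹ * y⁻¹ = y * y * (a⁻¹ * a⁻¹ * y⁻¹) by group]
          have h4 : (a⁻¹ * a⁻¹) * y⁻¹ = y⁻¹ * (a⁻¹ * a⁻¹) := hcen _ hyinv _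
          rw [h4]
          have h5 : (a⁻¹ * a⁻¹) * y = y * (a⁻¹ * a⁻¹) := hcen _ hyK _
          rw [h5]; group
      _ = (a * (a * y⁻¹))⁻¹ := by
          have h6 : (a * (a * y⁻¹))⁻¹ = y * a⁻¹ * a⁻¹ := by group
          rw [h6]
          have h5 : (a⁻¹ * a⁻¹) * y = y * (a⁻¹ * a⁻¹) := hcen _ hyK _
          rw [h5]; group
  have hcd' : d⁻¹ * c * d = c⁻¹ := by
    have : c = d⁻¹ * (d * c * d⁻¹) * d := by group
    calc d⁻¹ * c * d = (d⁻¹ * c⁻¹ * d)⁻¹ := by group
      _ = _ := by
        have e : d⁻¹ * c⁻¹ * d = c := by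
          rw [← hcd]; group
        rw [e]
  -- the normal subgroup
  set N : Subgroup Γ := zpowers c with hN
  set S : Set Γ := {a, d} ∪ (σ.ker : Set Γ) with hS
  have hnorm : closure S ≤ normalizer (N : Set Γ) := by
    rw [Subgroup.closure_le]
    have hle : ∀ x : Γ, (∃ e : ℤ, x * c * x⁻¹ = c ^ e) → (∃ e : ℤ, x⁻¹ * c * x = c ^ e) →
        x ∈ normalizer (N : Set Γ) := by
      rintro x ⟨e, he⟩ ⟨f, hf⟩
      rw [Subgroup.mem_normalizer_iff]
      intro n
      constructor
      · intro hn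
        obtain ⟨i, rfl⟩ := Subgroup.mem_zpowers_iff.mp hn
        have : x * c ^ i * x⁻¹ = (x * c * x⁻¹) ^ i := by
          rw [conj_zpow]
        rw [this, he]
        exact zpow_mem (zpow_mem (Subgroup.mem_zpowers c) _) _
      · intro hn
        obtain ⟨i, hi⟩ := Subgroup.mem_zpowers_iff.mp hn
        have e1 : n = (x⁻¹ * c * x) ^ i := by
          have : (x⁻¹ * c * x) ^ i = x⁻¹ * c ^ i * x := by
            have := conj_zpow (a := x⁻¹) (b := c) (i := i)
            simpa using this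
          rw [this, hi]; group
        rw [e1, hf]
        exact zpow_mem (zpow_mem (Subgroup.mem_zpowers c) _) _
    rintro x (hx | hx)
    · rcases hx with hx | hx
      · rw [hx]
        apply hle
        · exact ⟨1, by rw [hca]; group⟩
        · refine ⟨1, ?_⟩
          have : a⁻¹ * c * a = c := by
            have : c * a = a * c := hca.symm
            rw [mul_assoc, this]; group
          rw [this]; group
      · rw [Set.mem_singleton_iff.mp hx]
        apply hle
        · exact ⟨-1, by rw [hcd]; group⟩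
        · exact ⟨-1, by rw [hcd']; group⟩
    · have h := hcen x hx c
      apply hle
      · exact ⟨1, by rw [← h]; group⟩
      · refine ⟨1, ?_⟩
        have hx' := hcen x hx
        rw [show x⁻¹ * c * x = x⁻¹ * (c * x) by group, hx' c]
        group
  have hcomm : ⁅closure S, closure S⁆ ≤ N := by
    apply commutator_closure_le S N hnorm
    have hcs : ∀ s ∈ (σ.ker : Set Γ), ∀ t : Γ, ⁅s, t⁆ = 1 := by
      intro s hs t
      rw [commutatorElement_eq_one_iff_mul_comm]
      exact (hcen s hs t).symm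
    have hcs' : ∀ s ∈ (σ.ker : Set Γ), ∀ t : Γ, ⁅t, s⁆ = 1 := by
      intro s hs t
      rw [commutatorElement_eq_one_iff_mul_comm]
      exact (hcen s hs t)
    rintro s (hs | hs) t (ht | ht)
    · rcases hs with rfl | rfl <;> rcases ht with rfl | rfl
      · simp
      · exact Subgroup.mem_zpowers c
      · rw [← commutatorElement_inv]; exact inv_mem (Subgroup.mem_zpowers c)
      · simp
    · rw [hcs' _ ht]; exact one_mem _
    · rw [hcs _ hs]; exact one_mem _
    · rw [hcs _ hs]; exact one_mem _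
  -- the preimage is the closure
  have hU : (closure {σ a, σ d}).comap σ ≤ closure S := by
    have hmap : (closure S).map σ = closure {σ a, σ d} := by
      rw [MonoidHom.map_closure]
      apply le_antisymm
      · rw [Subgroup.closure_le]
        rintro _ ⟨x, (hx | hx), rfl⟩
        · rcases hx with rfl | rfl
          · exact Subgroup.subset_closure (by simp)
          · exact Subgroup.subset_closure (by simp)
        · have : σ x = 1 := hx
          simp only [this]; exact one_mem _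
      · apply Subgroup.closure_mono
        rintro _ (rfl | rfl)
        · exact ⟨a, Or.inl (by simp), rfl⟩
        · exact ⟨d, Or.inl (by simp), rfl⟩
    rw [← hmap]
    intro u hu
    obtain ⟨v, hv, hvu⟩ := Subgroup.mem_map.mp (Subgroup.mem_comap.mp hu)
    have h1 : v⁻¹ * u ∈ σ.ker := by
      rw [MonoidHom.mem_ker, map_mul, map_inv, hvu]; group
    have h2 : v⁻¹ * u ∈ closure S := Subgroup.subset_closure (Or.inr h1)
    have : u = v * (v⁻¹ * u) := by group
    rw [this]
    exact mul_mem hv h2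
  have hzN : z ∈ N := hcomm (Subgroup.commutator_mono hU hU hzU)
  obtain ⟨k, rfl⟩ := Subgroup.mem_zpowers_iff.mp hzN
  -- the image of `c`
  have hsc : σ c = σ a * σ a := by
    rw [hc2, map_mul, map_mul, map_inv, MonoidHom.mem_ker.mp hyK]
    simp
  -- `c ^ m = 1`
  have hcm : c ^ m = 1 := by
    have hw : (σ a ^ m)⁻¹ * σ d ^ 2 = 1 := by rw [hb2]; group
    set w : Γ := (a ^ m)⁻¹ * d ^ 2 with hw'
    have hwK : w ∈ σ.ker := by
      rw [MonoidHom.mem_ker, hw', map_mul, map_inv, map_pow, map_pow, hw]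
    have hd2 : d ^ 2 = a ^ m * w := by rw [hw']; group
    have hconj : d * d ^ 2 * d⁻¹ = d ^ 2 := by group
    have hpow : d * a ^ m * d⁻¹ = y ^ m * (a⁻¹) ^ m := by
      rw [← conj_pow, hda]
      have : Commute y a⁻¹ := (hcen y hyK a⁻¹).symm
      exact this.mul_pow m
    have h3 : d * (a ^ m * w) * d⁻¹ = y ^ m * a⁻¹ ^ m * w := by
      rw [← hpow, show d * (a ^ m * w) * d⁻¹ = d * a ^ m * d⁻¹ * (d * w * d⁻¹) by group]
      rw [hcen w hwK d]; group
    rw [hd2] at hconj
    rw [h3] at hconj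
    have h4 : y ^ m * a⁻¹ ^ m = a ^ m := mul_right_cancel hconj
    have h5 : a ^ (2 * m) = y ^ m := by
      rw [two_mul, pow_add]
      nth_rewrite 1 [← h4]
      rw [mul_assoc, inv_pow]
      simp
    have h6 : c = a ^ 2 * y⁻¹ := by
      rw [hc2, pow_two, mul_assoc]
    rw [h6]
    have h7 : Commute (a ^ 2) y⁻¹ := hcen _ hyinv _
    rw [h7.mul_pow, ← pow_mul, h5, inv_pow]
    simp
  -- conclude
  have h1 : σ a ^ (2 * k) = 1 := by
    have := MonoidHom.mem_ker.mp hz
    rw [map_zpow, hsc, ← pow_two, ← zpow_natCast, ← zpow_mul] at this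
    exact_mod_cast this
  have h2 : ((2 * m : ℕ) : ℤ) ∣ 2 * k := by
    rw [← hg]
    exact orderOf_dvd_iff_zpow_eq_one.mpr h1
  by_cases hm : m = 0
  · subst hm
    simp only [pow_zero, one_zpow] at *
    have hco : (2 * k : ℤ) = 0 := by simpa using h2
    have : k = 0 := by omega
    simp [this]
  have h3 : (m : ℤ) ∣ k := by
    have : ((2 : ℤ) * m) ∣ 2 * k := by exact_mod_cast h2
    exact (mul_dvd_mul_iff_left (by norm_num)).mp this
  obtain ⟨l, rfl⟩ := h3
  rw [zpow_mul, zpow_natCast, hcm, one_zpow]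

end generic

end Cfsg.Agent.Lib.KnownSimple
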