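import Mathlib
import Cfsg.Agent.Lib.KnownSimple.LabKit
import Cfsg.Agent.Lib.KnownSimple.Schur

/-!
# Labelled coset tables: the cyclic multiplier
-/

set_option autoImplicit false

universe u

namespace Cfsg.Agent.Lib.KnownSimple.Lab

open Subgroup Dat

theorem exists_surj_zmod {C : Type*} [Group C] (g0 : C) (M : ℕ) (hg : g0 ^ M = 1)
    (hgen : ∀ x : C, x ∈ zpowers g0) :
    ∃ π : Multiplicative (ZMod M) →* C, Function.Surjective π := by
  let h : ℤ →+ Additive C := zmultiplesHom (Additive C) (Additive.ofMul g0)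
  have hM : h (M : ℤ) = 0 := by
    show (M : ℤ) • Additive.ofMul g0 = 0
    rw [natCast_zsmul, ← ofMul_pow, hg]
    rfl
  let h' : ZMod M →+ Additive C := ZMod.lift M ⟨h, hM⟩
  refine ⟨AddMonoidHom.toMultiplicativeLeft h', ?_⟩
  intro x
  obtain ⟨z, hz⟩ := Subgroup.mem_zpowers_iff.mp (hgen x)
  refine ⟨Multiplicative.ofAdd ((z : ℤ) : ZMod M), ?_⟩
  show Additive.toMul (h' ((z : ℤ) : ZMod M)) = x
  have : h' ((z : ℤ) : ZMod M) = h z := ZMod.lift_coe M ⟨h, hM⟩ z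
  rw [this, ← hz]
  show Additive.toMul (z • Additive.ofMul g0) = g0 ^ z
  rfl

/-- A stem extension of a perfect finite group has no central elements of order `r`, when `r`
divides the order of the group only once. -/
theorem not_dvd_card_ker {Γ G : Type*} [Group Γ] [Group G] [Finite Γ] {σ : Γ →* G}
    (hσ : Cfsg.IsStemExtension σ) {r N : ℕ} (hr : r.Prime) (hN : Nat.card G = N) (hN0 : N ≠ 0)
    (hr2 : ¬ r ^ 2 ∣ N) (x : G) (hx : r ∣ orderOf x) : ¬ r ∣ Nat.card σ.ker := by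
  intro hd
  obtain ⟨hs, hK, hK'⟩ := hσ
  have : Fact r.Prime := ⟨hr⟩
  obtain ⟨w, hw⟩ := exists_prime_orderOf_dvd_card' (G := σ.ker) r hd
  have h1 : orderOf (w : Γ) = r := by
    rw [Subgroup.orderOf_coe, hw]
  have hco : Nat.Coprime (orderOf (w : Γ)) (zpowers x).index := by
    rw [h1]
    rw [hr.coprime_iff_not_dvd]
    intro hdvd
    apply hr2
    have h2 := Subgroup.card_mul_index (zpowers x)
    rw [Nat.card_zpowers, hN] at h2
    rw [← h2, pow_two]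
    exact mul_dvd_mul hx hdvd
  have h3 : (w : Γ) = 1 := by
    have h1' := Cfsg.Agent.Lib.KnownSimple.mem_commutator_comap hs hK hK' (zpowers x) w.2 hco
    rw [Cfsg.Agent.Lib.KnownSimple.commutator_comap_zpowers σ hs hK x, Subgroup.mem_bot] at h1'
    exact h1'
  rw [h3, orderOf_one] at h1
  exact hr.one_lt.ne h1

section final

variable {G : Type u} [Group G] [Finite G]

/-- The multiplier from a labelled table over a metacyclic subgroup. -/
theorem final_cyclic (D : Dat) (s : ℕ) (hk : D.k = 2 * s) (hn : 0 < D.n) (g : ℕ → G)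
    (hgi : ∀ a < s, g (a + s) = (g a)⁻¹) (hgen : closure (g '' {a | a < 2 * s}) = ⊤)
    (Uw Vw : List ℕ) (hUl : ∀ a ∈ Uw, a < 2 * s) (hVl : ∀ a ∈ Vw, a < 2 * s)
    (o o' κ : ℕ) (ho : orderOf (wval g Uw) = o) (ho' : orderOf (wval g Vw) = o')
    (hco : Nat.Coprime o o') (hcard : Nat.card G = D.n * (o * o'))
    (hVUG : wval g Vw * wval g Uw * (wval g Vw)⁻¹ * (wval g Uw ^ κ)⁻¹ = 1)
    (gw : ℕ → List ℕ) (hgw1 : ∀ a < s, ∀ b ∈ gw a, b < 2 * s) (hgw2 : ∀ a < s, wval g (gw a) = g a)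
    (hgw3 : ∀ a < s, balanced s (gw a) = true)
    (hT : ∀ a < D.k, ∀ i < D.n, D.T a i < D.n)
    (hR : ∀ ρ < D.r, ∀ a ∈ D.R ρ, a < D.k)
    (hp : ∀ j, 0 < j → j < D.n → D.par j < j ∧ D.gn j < D.k ∧ D.T (D.gn j) (D.par j) = j)
    (hrelG : ∀ ρ < D.r, wval g (D.R ρ) = 1)
    (hZ : ∀ ρ < D.r, D.Z ρ = true → ∃ a < s, D.R ρ = [a, a + s] ∨ D.R ρ = [a + s, a] ∨
      D.R ρ = (a + s) :: gw a)
    (hPk : ∀ t < D.m, ((D.P t).1 < D.k ∧ (D.P t).2 < D.n) ∨
      (D.k ≤ (D.P t).1 ∧ (D.P t).1 - D.k < D.r ∧ (D.P t).2 = 0))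
    (hPL : ∀ t < D.m, vbeq (D.L (D.P t).1 (D.P t).2) (vunit D.m t) = true)
    (hvar : ∀ a < D.k, ∀ i < D.n, varOK D a i = true)
    (hrv : ∀ ρ < D.r, relOK D ρ = true)
    (rels : List (ℕ × ℕ)) (hrels : ∀ x ∈ rels, relClosed D x.1 x.2 = true)
    (gv0 : List ℤ) (b W : ℕ → List ℤ)
    (hfin : ∀ u < D.m, vbeq (vunit D.m u) (vadd (lin (b u) [gv0])
      (lin (W u) (rels.map fun x => relRow D x.1 x.2))) = true)
    (N : ℕ) (wN : List ℤ)
    (hN : vbeq (vscale (N : ℤ) gv0) (lin wN (rels.map fun x => relRow D x.1 x.2)) = true)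
    (M P : ℕ) [NeZero M] (hNMP : N = M * P)
    (hcop : ∀ (Γ : Type u) [Group Γ] [Finite Γ] (σ : Γ →* G), Cfsg.IsStemExtension σ →
      Nat.Coprime (o * o') (Nat.card σ.ker) ∧ Nat.Coprime P (Nat.card σ.ker))
    (lN : ℕ → ℕ → ℕ)
    (hinv : ∀ a < 2 * s, ∀ i < D.n, D.T (invL s a) (D.T a i) = i ∧
      ((lN (invL s a) (D.T a i) : ℕ) : ZMod M) + ((lN a i : ℕ) : ZMod M) = 0)
    (vv : ℕ → ZMod M)
    (hRL : ∀ ρ < D.r, ∀ i < D.n, walk D.T (D.R ρ) i = i ∧
      pathSum (fun a j => ((lN a j : ℕ) : ZMod M)) D.T (D.R ρ) i = vv ρ)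
    (hvals : AddSubgroup.closure (vv '' {ρ | ρ < D.r}) = ⊤)
    (hgz : ∀ a < s, ∀ i < D.n, walk D.T (gw a) i = D.T a i ∧
      pathSum (fun a j => ((lN a j : ℕ) : ZMod M)) D.T (gw a) i = ((lN a i : ℕ) : ZMod M))
    (a0 b0 d0 : ZMod M)
    (hUo : ∀ i < D.n, walk D.T (powW Uw o) i = i ∧
      pathSum (fun a j => ((lN a j : ℕ) : ZMod M)) D.T (powW Uw o) i = a0)
    (hVo : ∀ i < D.n, walk D.T (powW Vw o') i = i ∧
      pathSum (fun a j => ((lN a j : ℕ) : ZMod M)) D.T (powW Vw o') i = b0)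
    (hVU : ∀ i < D.n,
      walk D.T (Vw ++ Uw ++ invW s Vw ++ invW s (powW Uw κ)) i = i ∧
      pathSum (fun a j => ((lN a j : ℕ) : ZMod M)) D.T
        (Vw ++ Uw ++ invW s Vw ++ invW s (powW Uw κ)) i = d0)
    (pr pe : ℕ → ℕ) (pc : ℕ → ZMod M)
    (hparG : ∀ u < D.m, (D.P u).1 < D.k →
      wval g (parWord s Uw Vw D.T D.par D.gn (D.P u).1 (D.P u).2 (pr u) (pe u)) = 1)
    (hparL : ∀ u < D.m, (D.P u).1 < D.k → ∀ i < D.n,
      walk D.T (parWord s Uw Vw D.T D.par D.gn (D.P u).1 (D.P u).2 (pr u) (pe u)) i = i ∧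
      pathSum (fun a j => ((lN a j : ℕ) : ZMod M)) D.T
        (parWord s Uw Vw D.T D.par D.gn (D.P u).1 (D.P u).2 (pr u) (pe u)) i = pc u) :
    Cfsg.HasCyclicSchurMultiplier G M := by
  have hT2 : ∀ a < 2 * s, ∀ i < D.n, D.T a i < D.n := by rw [← hk]; exact hT
  have hPn : ∀ u < D.m, (D.P u).1 < D.k → (D.P u).2 < D.n := by
    intro u hu h
    rcases hPk u hu with h1 | h1
    · exact h1.2
    · omega
  have ht1 : ∀ j < D.n, ∀ b ∈ tw D.par D.gn (j + 1) j, b < 2 * s := by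
    intro j hj b hb
    have := tw_letters D.par D.gn D.n D.k (fun j h0 hj => ⟨(hp j h0 hj).1, (hp j h0 hj).2.1⟩)
      (j + 1) j hj b hb
    omega
  set H : Subgroup G := closure ({wval g Uw, wval g Vw} : Set G) with hH
  have hparG' : ∀ u < D.m, (D.P u).1 < D.k →
      sE g (tree g D.par D.gn) D.T (D.P u).1 (D.P u).2 ∈ H := by
    intro u hu hu1
    have hu2 : (D.P u).1 < 2 * s := by rw [← hk]; exact hu1
    have h2 := sE_of_parWord g s hgi Uw Vw hUl hVl D.T D.par D.gn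
      (ht1 _ (hT2 _ hu2 _ (hPn u hu hu1))) (pr u) (pe u) (hparG u hu hu1)
    rw [h2, mul_one]
    exact mul_mem (pow_mem (subset_closure (by simp)) _) (pow_mem (subset_closure (by simp)) _)
  have hvu : wval g Vw * wval g Uw = wval g Uw ^ κ * wval g Vw := by
    have h1 : wval g Vw * wval g Uw * (wval g Vw)⁻¹ = wval g Uw ^ κ := by
      exact eq_of_mul_inv_eq_one hVUG
    rw [← h1]
    group
  have hcardH : Nat.card H = o * o' := card_meta _ _ o o' κ ho ho' hco hvu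
  have hcard' : Nat.card G = D.n * Nat.card H := by rw [hcardH]; exact hcard
  have hdist := dist_of_flags D s hk g hgi hgen H hcard' hT hR hn hp hrelG hparG' hvar
  refine ⟨?_, ?_⟩
  · -- the cover
    have hmain := lower_meta D s hk hn g hgi hgen (fun a j => ((lN a j : ℕ) : ZMod M)) hT2 hinv hR hp
      Uw Vw hUl hVl o o' κ ho ho' hco hdist hrelG vv hRL hvals gw hgw1 hgw2 hgw3 hgz a0 b0 d0 hUo hVo
      hVUG hVU pr pe pc hparG hparL hPn hvar
    exact hmain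
  · -- the bound
    intro Γ _ _ σ hσ
    obtain ⟨hc1, hc2⟩ := hcop Γ σ hσ
    obtain ⟨f, hf1, hf2⟩ := upper_main σ hσ D s hk g hgi hgen H (by rw [hcardH]; exact hc1) hcard' gw
      hgw1 hgw2 hgw3 hT hR hn hp hrelG hparG' hZ hPk hPL hvar hrv rels hrels [gv0] b W hfin
    set g0 := f gv0 with hg0
    have hgen0 : ∀ x : σ.ker, x ∈ zpowers g0 := by
      intro x
      have h1 := hf1 x
      have h2 : (f '' {v | v ∈ [gv0]}) = {g0} := by
        ext y
        simp [hg0]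
      rw [h2, ← Subgroup.zpowers_eq_closure] at h1
      exact h1
    have hpow : g0 ^ N = 1 := by
      have := hf2 gv0 (N : ℤ) wN hN
      rwa [zpow_natCast] at this
    have hM : g0 ^ M = 1 := by
      have h1 : (g0 ^ M) ^ P = 1 := by
        rw [← pow_mul, ← hNMP, hpow]
      have h2 := orderOf_dvd_of_pow_eq_one h1
      have h3 : orderOf (g0 ^ M) ∣ Nat.card σ.ker := orderOf_dvd_natCard _
      have h4 := Nat.dvd_gcd h2 h3
      rw [hc2.gcd_eq_one, Nat.dvd_one, orderOf_eq_one_iff] at h4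
      exact h4
    exact exists_surj_zmod g0 M hM hgen0

end final

end Cfsg.Agent.Lib.KnownSimple.Lab
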