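import Mathlib
import Cfsg.Agent.Lib.KnownSimple.LabFinal

/-!
# Labelled coset tables: a multiplier which need not be cyclic
-/

set_option autoImplicit false

universe u

namespace Cfsg.Agent.Lib.KnownSimple.Lab

open Subgroup Dat

section final

variable {G : Type u} [Group G] [Finite G]

/-- The multiplier from a labelled table over a metacyclic subgroup. -/
theorem final_A (D : Dat) (s : ℕ) (hk : D.k = 2 * s) (hn : 0 < D.n) (g : ℕ → G)
    (hgi : ∀ a < s, g (a + s) = (g a)⁻¹) (hgen : closure (g '' {a | a < 2 * s}) = ⊤)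
    (Uw Vw : List ℕ) (hUl : ∀ a ∈ Uw, a < 2 * s) (hVl : ∀ a ∈ Vw, a < 2 * s)
    (o o' κ : ℕ) (ho : orderOf (wval g Uw) = o) (ho' : orderOf (wval g Vw) = o')
    (hco : Nat.Coprime o o') (hcard : Nat.card G = D.n * (o * o'))
    (hVUG : wval g Vw * wval g Uw * (wval g Vw)⁻¹ * (wval g Uw ^ κ)⁻¹ = 1)
    (gw : ℕ → List ℕ) (hgw1 : ∀ a < s, ∀ b ∈ gw a, b < 2 * s) (hgw2 : ∀ a < s, wval g (gw a) = g a)
    (hgw3 : ∀ a < s, balanced s (gw a) = true)
    (hT : ∀ a < D.k, ∀ i < D.n, D.T a i < D.n)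
    (hR : ∀ ρ < D.r, ∀ a ∈ D.R ρ, a < D.k)
    (hp : ∀ j, 0 < j → j < D.n → D.par j < j ∧ D.gn j < D.k ∧ D.T (D.gn j) (D.par j) = j)
    (hrelG : ∀ ρ < D.r, wval g (D.R ρ) = 1)
    (hZ : ∀ ρ < D.r, D.Z ρ = true → ∃ a < s, D.R ρ = [a, a + s] ∨ D.R ρ = [a + s, a] ∨
      D.R ρ = (a + s) :: gw a)
    (hPk : ∀ t < D.m, ((D.P t).1 < D.k ∧ (D.P t).2 < D.n) ∨
      (D.k ≤ (D.P t).1 ∧ (D.P t).1 - D.k < D.r ∧ (D.P t).2 = 0))
    (hPL : ∀ t < D.m, vbeq (D.L (D.P t).1 (D.P t).2) (vunit D.m t) = true)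
    (hvar : ∀ a < D.k, ∀ i < D.n, varOK D a i = true)
    (hrv : ∀ ρ < D.r, relOK D ρ = true)
    (rels : List (ℕ × ℕ)) (hrels : ∀ x ∈ rels, relClosed D x.1 x.2 = true)
    (gvs : List (List ℤ)) (b W : ℕ → List ℤ)
    (hfin : ∀ u < D.m, vbeq (vunit D.m u) (vadd (lin (b u) gvs)
      (lin (W u) (rels.map fun x => relRow D x.1 x.2))) = true)
    (hcop : ∀ (Γ : Type u) [Group Γ] [Finite Γ] (σ : Γ →* G), Cfsg.IsStemExtension σ →
      Nat.Coprime (o * o') (Nat.card σ.ker))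
    {A : Type} [AddCommGroup A] [Finite A]
    (hSurj : ∀ (Γ : Type u) [Group Γ] [Finite Γ] (σ : Γ →* G), Cfsg.IsStemExtension σ →
      ∀ f : List ℤ → σ.ker, (∀ x : σ.ker, x ∈ closure (f '' {v | v ∈ gvs})) →
      (∀ (v : List ℤ) (N : ℤ) (w : List ℤ),
        vbeq (vscale N v) (lin w (rels.map fun x => relRow D x.1 x.2)) = true → f v ^ N = 1) →
      ∃ π : Multiplicative A →* σ.ker, Function.Surjective π)
    (ℓ : ℕ → ℕ → A)
    (hinv : ∀ a < 2 * s, ∀ i < D.n, D.T (invL s a) (D.T a i) = i ∧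
      ℓ (invL s a) (D.T a i) + ℓ a i = 0)
    (vv : ℕ → A)
    (hRL : ∀ ρ < D.r, ∀ i < D.n, walk D.T (D.R ρ) i = i ∧ pathSum ℓ D.T (D.R ρ) i = vv ρ)
    (hvals : AddSubgroup.closure (vv '' {ρ | ρ < D.r}) = ⊤)
    (hgz : ∀ a < s, ∀ i < D.n, walk D.T (gw a) i = D.T a i ∧ pathSum ℓ D.T (gw a) i = ℓ a i)
    (a0 b0 d0 : A)
    (hUo : ∀ i < D.n, walk D.T (powW Uw o) i = i ∧ pathSum ℓ D.T (powW Uw o) i = a0)
    (hVo : ∀ i < D.n, walk D.T (powW Vw o') i = i ∧ pathSum ℓ D.T (powW Vw o') i = b0)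
    (hVU : ∀ i < D.n,
      walk D.T (Vw ++ Uw ++ invW s Vw ++ invW s (powW Uw κ)) i = i ∧
      pathSum ℓ D.T (Vw ++ Uw ++ invW s Vw ++ invW s (powW Uw κ)) i = d0)
    (pr pe : ℕ → ℕ) (pc : ℕ → A)
    (hparG : ∀ u < D.m, (D.P u).1 < D.k →
      wval g (parWord s Uw Vw D.T D.par D.gn (D.P u).1 (D.P u).2 (pr u) (pe u)) = 1)
    (hparL : ∀ u < D.m, (D.P u).1 < D.k → ∀ i < D.n,
      walk D.T (parWord s Uw Vw D.T D.par D.gn (D.P u).1 (D.P u).2 (pr u) (pe u)) i = i ∧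
      pathSum ℓ D.T (parWord s Uw Vw D.T D.par D.gn (D.P u).1 (D.P u).2 (pr u) (pe u)) i = pc u) :
    Cfsg.HasSchurMultiplier G (Multiplicative A) := by
  have hT2 : ∀ a < 2 * s, ∀ i < D.n, D.T a i < D.n := by rw [← hk]; exact hT
  have hPn : ∀ u < D.m, (D.P u).1 < D.k → (D.P u).2 < D.n := by
    intro u hu h
    rcases hPk u hu with h1 | h1
    · exact h1.2
    · omega
  have ht1 : ∀ j < D.n, ∀ b ∈ tw D.par D.gn (j + 1) j, b < 2 * s := by
    intro j hj b hb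
    have := tw_letters D.par D.gn D.n D.k (fun j h0 hj => ⟨(hp j h0 hj).1, (hp j h0 hj).2.1⟩)
      (j + 1) j hj b hb
    omega
  set H : Subgroup G := closure ({wval g Uw, wval g Vw} : Set G) with hH
  have hparG' : ∀ u < D.m, (D.P u).1 < D.k →
      sE g (tree g D.par D.gn) D.T (D.P u).1 (D.P u).2 ∈ H := by
    intro u hu hu1
    have hu2 : (D.P u).1 < 2 * s := by rw [← hk]; exact hu1
    have h2 := sE_of_parWord g s hgi Uw Vw hUl hVl D.T D.par D.gn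
      (ht1 _ (hT2 _ hu2 _ (hPn u hu hu1))) (pr u) (pe u) (hparG u hu hu1)
    rw [h2, mul_one]
    exact mul_mem (pow_mem (subset_closure (by simp)) _) (pow_mem (subset_closure (by simp)) _)
  have hvu : wval g Vw * wval g Uw = wval g Uw ^ κ * wval g Vw := by
    have h1 : wval g Vw * wval g Uw * (wval g Vw)⁻¹ = wval g Uw ^ κ := by
      exact eq_of_mul_inv_eq_one hVUG
    rw [← h1]
    group
  have hcardH : Nat.card H = o * o' := card_meta _ _ o o' κ ho ho' hco hvu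
  have hcard' : Nat.card G = D.n * Nat.card H := by rw [hcardH]; exact hcard
  have hdist := dist_of_flags D s hk g hgi hgen H hcard' hT hR hn hp hrelG hparG' hvar
  refine ⟨?_, ?_⟩
  · exact lower_meta D s hk hn g hgi hgen ℓ hT2 hinv hR hp
      Uw Vw hUl hVl o o' κ ho ho' hco hdist hrelG vv hRL hvals gw hgw1 hgw2 hgw3 hgz a0 b0 d0 hUo hVo
      hVUG hVU pr pe pc hparG hparL hPn hvar
  · intro Γ _ _ σ hσ
    obtain ⟨f, hf1, hf2⟩ := upper_main σ hσ D s hk g hgi hgen H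
      (by rw [hcardH]; exact hcop Γ σ hσ) hcard' gw
      hgw1 hgw2 hgw3 hT hR hn hp hrelG hparG' hZ hPk hPL hvar hrv rels hrels gvs b W hfin
    exact hSurj Γ σ hσ f hf1 hf2

end final

/-! ### Shapes of the bound -/

section shapes

variable {C : Type*} [Group C]

/-- A surjection from a cyclic group. -/
theorem surj_one (M : ℕ) (g1 : C) (h1 : g1 ^ M = 1) (hgen : ∀ x : C, x ∈ closure ({g1} : Set C)) :
    ∃ π : Multiplicative (ZMod M) →* C, Function.Surjective π := by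
  refine exists_surj_zmod g1 M h1 ?_
  intro x
  have := hgen x
  rwa [← Subgroup.zpowers_eq_closure] at this

/-- The homomorphism determined by the image of a generator. -/
theorem exists_zmod_hom (M : ℕ) (g0 : C) (hg : g0 ^ M = 1) :
    ∃ π : Multiplicative (ZMod M) →* C, π.range = zpowers g0 := by
  obtain ⟨π, hπ⟩ := exists_surj_zmod (C := zpowers g0) ⟨g0, mem_zpowers g0⟩ M
    (Subtype.ext (by simpa using hg)) (by
      rintro ⟨x, hx⟩
      obtain ⟨z, rfl⟩ := Subgroup.mem_zpowers_iff.mp hx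
      refine Subgroup.mem_zpowers_iff.mpr ⟨z, ?_⟩
      apply Subtype.ext
      simp)
  refine ⟨(zpowers g0).subtype.comp π, ?_⟩
  rw [MonoidHom.range_comp, MonoidHom.range_eq_top.mpr hπ, ← MonoidHom.range_eq_map, Subgroup.range_subtype]

/-- The map from a product, when the images commute. -/
theorem surj_prod {A B : Type*} [AddCommGroup A] [AddCommGroup B] (hC : ∀ x y : C, x * y = y * x)
    (π₁ : Multiplicative A →* C) (π₂ : Multiplicative B →* C) :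
    ∃ π : Multiplicative (A × B) →* C, ∀ a b, π (Multiplicative.ofAdd (a, b)) =
      π₁ (Multiplicative.ofAdd a) * π₂ (Multiplicative.ofAdd b) := by
  let F : Multiplicative (A × B) → C := fun x =>
    π₁ (Multiplicative.ofAdd (Multiplicative.toAdd x).1) * π₂ (Multiplicative.ofAdd (Multiplicative.toAdd x).2)
  refine ⟨MonoidHom.mk' F ?_, fun a b => rfl⟩
  intro x y
  simp only [F, toAdd_mul, Prod.fst_add, Prod.snd_add, ofAdd_add, map_mul]
  generalize π₁ (Multiplicative.ofAdd (Multiplicative.toAdd x).1) = p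
  generalize π₁ (Multiplicative.ofAdd (Multiplicative.toAdd y).1) = q
  generalize π₂ (Multiplicative.ofAdd (Multiplicative.toAdd x).2) = r
  generalize π₂ (Multiplicative.ofAdd (Multiplicative.toAdd y).2) = t
  calc p * q * (r * t) = p * (q * r) * t := by group
    _ = p * (r * q) * t := by rw [hC q r]
    _ = p * r * (q * t) := by group

/-- Two generators. -/
theorem surj_two (hC : ∀ x y : C, x * y = y * x) (a b : ℕ) (g1 g2 : C) (h1 : g1 ^ a = 1) (h2 : g2 ^ b = 1)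
    (hgen : ∀ x : C, x ∈ closure ({g1, g2} : Set C)) :
    ∃ π : Multiplicative (ZMod a × ZMod b) →* C, Function.Surjective π := by
  obtain ⟨π₁, hπ₁⟩ := exists_zmod_hom a g1 h1
  obtain ⟨π₂, hπ₂⟩ := exists_zmod_hom b g2 h2
  obtain ⟨π, hπ⟩ := surj_prod hC π₁ π₂
  refine ⟨π, ?_⟩
  rw [← MonoidHom.range_eq_top, eq_top_iff]
  intro x _
  have hx := hgen x
  refine (show closure ({g1, g2} : Set C) ≤ π.range from ?_) hx
  rw [closure_le]
  rintro y (rfl | hy)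
  · have h3 : y ∈ π₁.range := by rw [hπ₁]; exact mem_zpowers y
    obtain ⟨z, rfl⟩ := h3
    refine ⟨Multiplicative.ofAdd (Multiplicative.toAdd z, 0), ?_⟩
    rw [hπ]
    simp
  · rw [Set.mem_singleton_iff] at hy
    subst hy
    have h3 : y ∈ π₂.range := by rw [hπ₂]; exact mem_zpowers y
    obtain ⟨z, rfl⟩ := h3
    refine ⟨Multiplicative.ofAdd (0, Multiplicative.toAdd z), ?_⟩
    rw [hπ]
    simp

/-- Three generators. -/
theorem surj_three (hC : ∀ x y : C, x * y = y * x) (a b c : ℕ) (g1 g2 g3 : C) (h1 : g1 ^ a = 1)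
    (h2 : g2 ^ b = 1) (h3 : g3 ^ c = 1)
    (hgen : ∀ x : C, x ∈ closure ({g1, g2, g3} : Set C)) :
    ∃ π : Multiplicative (ZMod a × ZMod b × ZMod c) →* C, Function.Surjective π := by
  obtain ⟨π₁, hπ₁⟩ := exists_zmod_hom a g1 h1
  obtain ⟨π₂, hπ₂⟩ := exists_zmod_hom b g2 h2
  obtain ⟨π₃, hπ₃⟩ := exists_zmod_hom c g3 h3
  obtain ⟨π', hπ'⟩ := surj_prod hC π₂ π₃
  obtain ⟨π, hπ⟩ := surj_prod hC π₁ π'
  refine ⟨π, ?_⟩
  rw [← MonoidHom.range_eq_top, eq_top_iff]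
  intro x _
  have hx := hgen x
  refine (show closure ({g1, g2, g3} : Set C) ≤ π.range from ?_) hx
  rw [closure_le]
  rintro y (rfl | rfl | hy)
  · have h3 : y ∈ π₁.range := by rw [hπ₁]; exact mem_zpowers y
    obtain ⟨z, rfl⟩ := h3
    refine ⟨Multiplicative.ofAdd (Multiplicative.toAdd z, 0, 0), ?_⟩
    rw [hπ, hπ']
    simp
  · have h3 : y ∈ π₂.range := by rw [hπ₂]; exact mem_zpowers y
    obtain ⟨z, rfl⟩ := h3
    refine ⟨Multiplicative.ofAdd (0, Multiplicative.toAdd z, 0), ?_⟩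
    rw [hπ, hπ']
    simp
  · rw [Set.mem_singleton_iff] at hy
    subst hy
    have h3 : y ∈ π₃.range := by rw [hπ₃]; exact mem_zpowers y
    obtain ⟨z, rfl⟩ := h3
    refine ⟨Multiplicative.ofAdd (0, 0, Multiplicative.toAdd z), ?_⟩
    rw [hπ, hπ']
    simp

/-- An element of order dividing `P` in a group whose order is coprime to `P` is trivial. -/
theorem eq_one_of_coprime [Finite C] {x : C} {P : ℕ} (h : x ^ P = 1) (hc : Nat.Coprime P (Nat.card C)) :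
    x = 1 := by
  have h1 := orderOf_dvd_of_pow_eq_one h
  have h2 : orderOf x ∣ Nat.card C := orderOf_dvd_natCard x
  have h3 := Nat.dvd_gcd h1 h2
  rw [hc.gcd_eq_one, Nat.dvd_one, orderOf_eq_one_iff] at h3
  exact h3

end shapes


/-! ### Checks with values in a general group -/

section gen

variable {A B : Type*} [AddCommGroup A] [AddCommGroup B]

theorem pathSum_pair (T : ℕ → ℕ → ℕ) (ℓ₁ : ℕ → ℕ → A) (ℓ₂ : ℕ → ℕ → B) (w : List ℕ) (i : ℕ) :
    pathSum (fun a j => (ℓ₁ a j, ℓ₂ a j)) T w i = (pathSum ℓ₁ T w i, pathSum ℓ₂ T w i) := by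
  induction w with
  | nil => rfl
  | cons a w ih => simp only [pathSum, ih, Prod.mk_add_mk]

theorem of_low_pair {T : ℕ → ℕ → ℕ} {ℓ₁ : ℕ → ℕ → A} {ℓ₂ : ℕ → ℕ → B} {w : List ℕ} {i : ℕ} {c₁ : A} {c₂ : B}
    (h₁ : walk T w i = i ∧ pathSum ℓ₁ T w i = c₁) (h₂ : walk T w i = i ∧ pathSum ℓ₂ T w i = c₂) :
    walk T w i = i ∧ pathSum (fun a j => (ℓ₁ a j, ℓ₂ a j)) T w i = (c₁, c₂) := by
  refine ⟨h₁.1, ?_⟩
  rw [pathSum_pair, h₁.2, h₂.2]

/-- Inverse letters, in a table with labels. -/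
theorem hinv_of_rel' {T : ℕ → ℕ → ℕ} {ℓ : ℕ → ℕ → A} {s n : ℕ}
    (h : ∀ a < 2 * s, ∀ i < n, walk T [invL s a, a] i = i ∧ pathSum ℓ T [invL s a, a] i = 0) :
    ∀ a < 2 * s, ∀ i < n, T (invL s a) (T a i) = i ∧ ℓ (invL s a) (T a i) + ℓ a i = 0 := by
  intro a ha i hi
  obtain ⟨h1, h2⟩ := h a ha i hi
  refine ⟨h1, ?_⟩
  simpa [Dat.pathSum] using h2

/-- The word of a generator in a table. -/
theorem hgz_of_rel' {T : ℕ → ℕ → ℕ} {ℓ : ℕ → ℕ → A} {s n : ℕ} {gw : List ℕ} {a : ℕ}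
    (hwalk : ∀ i < n, walk T gw i < n)
    (hinv1 : ∀ i < n, T a (T (a + s) i) = i ∧ ℓ a (T (a + s) i) + ℓ (a + s) i = 0)
    (hinv2 : ∀ i < n, T (a + s) (T a i) = i ∧ ℓ (a + s) (T a i) + ℓ a i = 0)
    (h : ∀ i < n, walk T ((a + s) :: gw) i = i ∧ pathSum ℓ T ((a + s) :: gw) i = 0) :
    ∀ i < n, walk T gw i = T a i ∧ pathSum ℓ T gw i = ℓ a i := by
  intro i hi
  obtain ⟨h1, h2⟩ := h i hi
  simp only [walk_cons, Dat.pathSum] at h1 h2
  have h3 : walk T gw i = T a i := by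
    have h4 := (hinv1 (walk T gw i) (hwalk i hi)).1
    rw [h1] at h4
    exact h4.symm
  refine ⟨h3, ?_⟩
  rw [h3] at h2
  have h5 := (hinv2 i hi).2
  have h6 : ℓ (a + s) (T a i) = - ℓ a i := eq_neg_of_add_eq_zero_left h5
  rw [h6] at h2
  have h7 : pathSum ℓ T gw i + - ℓ a i = 0 := by rw [add_comm]; exact h2
  exact eq_of_sub_eq_zero (by rw [sub_eq_add_neg]; exact h7)

end gen

theorem of_lowOK0 {T lN : ℕ → ℕ → ℕ} {M : ℕ} {w : List ℕ} {i : ℕ} (h : lowOK T lN M 0 w i = true) :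
    walk T w i = i ∧ pathSum (fun a j => ((lN a j : ℕ) : ZMod M)) T w i = 0 := by
  have := of_lowOK h
  simpa using this

theorem closure_top_one {M : ℕ} [NeZero M] (K : AddSubgroup (ZMod M)) (h : (1 : ZMod M) ∈ K) : K = ⊤ := by
  rw [eq_top_iff]
  intro x _
  have := AddSubgroup.nsmul_mem K h x.val
  simpa using this

theorem closure_top_two {a b : ℕ} [NeZero a] [NeZero b] (K : AddSubgroup (ZMod a × ZMod b))
    (h1 : ((1, 0) : ZMod a × ZMod b) ∈ K) (h2 : ((0, 1) : ZMod a × ZMod b) ∈ K) : K = ⊤ := by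
  rw [eq_top_iff]
  rintro ⟨x, y⟩ _
  have h3 := K.add_mem (AddSubgroup.nsmul_mem K h1 x.val) (AddSubgroup.nsmul_mem K h2 y.val)
  simpa using h3

theorem closure_top_three {a b c : ℕ} [NeZero a] [NeZero b] [NeZero c] (K : AddSubgroup (ZMod a × ZMod b × ZMod c))
    (h1 : ((1, 0, 0) : ZMod a × ZMod b × ZMod c) ∈ K) (h2 : ((0, 1, 0) : ZMod a × ZMod b × ZMod c) ∈ K)
    (h3 : ((0, 0, 1) : ZMod a × ZMod b × ZMod c) ∈ K) : K = ⊤ := by
  rw [eq_top_iff]
  rintro ⟨x, y, z⟩ _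
  have h4 := K.add_mem (K.add_mem (AddSubgroup.nsmul_mem K h1 x.val) (AddSubgroup.nsmul_mem K h2 y.val))
    (AddSubgroup.nsmul_mem K h3 z.val)
  simpa using h4

end Cfsg.Agent.Lib.KnownSimple.Lab
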