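import Mathlib
import Cfsg.Agent.Lib.KnownSimple.LabFinalA

/-!
# Labelled coset tables: subgroups given by a chain of cyclic extensions
-/

set_option autoImplicit false

universe u

namespace Cfsg.Agent.Lib.KnownSimple.Lab

open Subgroup Dat

section chain

variable {Y : Type*} [Group Y]

/-- The subgroups of a chain. -/
def chainSub (Z0 : Subgroup Y) : List Y → Subgroup Y
  | [] => Z0
  | u :: l => closure ({u} ∪ (chainSub Z0 l : Set Y))

theorem le_chainSub (Z0 : Subgroup Y) : ∀ l : List Y, Z0 ≤ chainSub Z0 l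
  | [] => le_refl _
  | u :: l => by
    refine le_trans (le_chainSub Z0 l) ?_
    intro x hx
    exact subset_closure (Or.inr hx)

theorem mem_chainSub (Z0 : Subgroup Y) : ∀ (l : List Y), ∀ v ∈ l, v ∈ chainSub Z0 l
  | [], _, h => by simp at h
  | u :: l, v, h => by
    rcases List.mem_cons.mp h with rfl | h1
    · exact subset_closure (Or.inl rfl)
    · exact subset_closure (Or.inr (mem_chainSub Z0 l v h1))

theorem chainSub_le (Z0 P : Subgroup Y) (h0 : Z0 ≤ P) : ∀ l : List Y, (∀ v ∈ l, v ∈ P) → chainSub Z0 l ≤ P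
  | [], _ => h0
  | u :: l, h => by
    rw [chainSub, closure_le]
    rintro x (rfl | hx)
    · exact h _ (by simp)
    · exact chainSub_le Z0 P h0 l (fun v hv => h v (by simp [hv])) hx

/-- One step of a chain. -/
theorem card_step [Finite Y] (P : Subgroup Y) (u : Y) (o : ℕ) (ho0 : 0 < o)
    (hu : ∀ x ∈ P, u * x * u⁻¹ ∈ P) (ho : u ^ o ∈ P) :
    Nat.card (closure ({u} ∪ (P : Set Y))) ≤ o * Nat.card P := by
  classical
  -- conjugation by the inverse also preserves `P`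
  have hinj : Function.Injective (fun x : P => (⟨u * x * u⁻¹, hu x x.2⟩ : P)) := by
    intro x y h
    have := congrArg Subtype.val h
    apply Subtype.ext
    simpa using this
  have hsurj := Finite.injective_iff_surjective.mp hinj
  have hu' : ∀ x ∈ P, u⁻¹ * x * u ∈ P := by
    intro x hx
    obtain ⟨y, hy⟩ := hsurj ⟨x, hx⟩
    have e : x = u * y * u⁻¹ := (congrArg Subtype.val hy).symm
    rw [e]
    simpa [mul_assoc] using y.2
  let S : Set Y := {q | ∃ (e : ℕ) (x : Y), x ∈ P ∧ q = u ^ e * x}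
  have h1 : (1 : Y) ∈ S := ⟨0, 1, P.one_mem, by simp⟩
  have hpowc : ∀ (e : ℕ), ∀ x ∈ P, (u ^ e)⁻¹ * x * u ^ e ∈ P := by
    intro e
    induction e with
    | zero => simp
    | succ e ih =>
      intro x hx
      have := hu' _ (ih x hx)
      have e2 : (u ^ (e + 1))⁻¹ * x * u ^ (e + 1) = u⁻¹ * ((u ^ e)⁻¹ * x * u ^ e) * u := by
        rw [pow_succ]; group
      rw [e2]
      exact this
  have hstep : ∀ g ∈ ({u} ∪ (P : Set Y)), ∀ s ∈ S, g * s ∈ S := by
    rintro g hg s ⟨e, x, hx, rfl⟩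
    rcases hg with rfl | hg
    · exact ⟨e + 1, x, hx, by rw [pow_succ']; group⟩
    · refine ⟨e, (u ^ e)⁻¹ * g * u ^ e * x, P.mul_mem (hpowc e g hg) hx, ?_⟩
      group
  let K : Submonoid Y :=
    { carrier := {x | ∀ s ∈ S, x * s ∈ S}
      one_mem' := by intro s hs; simpa using hs
      mul_mem' := by
        intro x y hx hy s hs
        rw [mul_assoc]
        exact hx _ (hy _ hs) }
  have hinvK : ∀ x ∈ K, x⁻¹ ∈ K := by
    intro x hx
    have h2 : x⁻¹ = x ^ (orderOf x - 1) := by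
      rw [eq_comm, ← mul_one (x ^ _), ← mul_inv_cancel x, ← mul_assoc, ← pow_succ,
        Nat.sub_add_cancel (orderOf_pos x), pow_orderOf_eq_one, one_mul]
    rw [h2]
    exact pow_mem hx _
  have hK : ∀ x ∈ closure ({u} ∪ (P : Set Y)), x ∈ K := by
    intro x hx
    induction hx using closure_induction with
    | mem x hx => exact fun s hs => hstep x hx s hs
    | one => exact one_mem _
    | mul x y _ _ h3 h4 => exact mul_mem h3 h4
    | inv x _ h3 => exact hinvK x h3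
  have hshape : ∀ q ∈ closure ({u} ∪ (P : Set Y)), ∃ (e : ℕ) (x : Y), x ∈ P ∧ q = u ^ e * x := by
    intro q hq
    have := hK q hq 1 h1
    rwa [mul_one] at this
  -- reduce the exponent
  have hmod : ∀ e : ℕ, ∃ x ∈ P, u ^ e = u ^ (e % o) * x := by
    intro e
    refine ⟨(u ^ o) ^ (e / o), P.pow_mem ho _, ?_⟩
    rw [← pow_mul, ← pow_add, Nat.mod_add_div]
  have huC : u ∈ closure ({u} ∪ (P : Set Y)) := subset_closure (Or.inl rfl)
  have hPC : ∀ x ∈ P, x ∈ closure ({u} ∪ (P : Set Y)) := fun x hx => subset_closure (Or.inr hx)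
  let f : Fin o × P → closure ({u} ∪ (P : Set Y)) := fun x =>
    ⟨u ^ (x.1 : ℕ) * x.2, mul_mem (pow_mem huC _) (hPC _ x.2.2)⟩
  have hf : Function.Surjective f := by
    rintro ⟨q, hq⟩
    obtain ⟨e, x, hx, rfl⟩ := hshape q hq
    obtain ⟨y, hy, e2⟩ := hmod e
    refine ⟨(⟨e % o, Nat.mod_lt _ ho0⟩, ⟨y * x, P.mul_mem hy hx⟩), ?_⟩
    apply Subtype.ext
    simp only [f]
    rw [e2, mul_assoc]
  have := Nat.card_le_card_of_surjective f hf
  simpa [Nat.card_prod] using this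

/-- The chain condition. -/
def ChainOK (Z0 : Subgroup Y) : List (Y × ℕ) → Prop
  | [] => True
  | p :: l => 0 < p.2 ∧ p.1 ^ p.2 ∈ chainSub Z0 (l.map Prod.fst) ∧
      (∀ x ∈ chainSub Z0 (l.map Prod.fst), p.1 * x * p.1⁻¹ ∈ chainSub Z0 (l.map Prod.fst)) ∧ ChainOK Z0 l

theorem card_chain [Finite Y] (Z0 : Subgroup Y) : ∀ l : List (Y × ℕ), ChainOK Z0 l →
    Nat.card (chainSub Z0 (l.map Prod.fst)) ≤ (l.map Prod.snd).prod * Nat.card Z0
  | [], _ => by simp [chainSub]
  | p :: l, ⟨h1, h2, h3, h4⟩ => by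
    have h5 := card_step (chainSub Z0 (l.map Prod.fst)) p.1 p.2 h1 h3 h2
    have h6 := card_chain Z0 l h4
    calc Nat.card (chainSub Z0 ((p :: l).map Prod.fst))
        ≤ p.2 * Nat.card (chainSub Z0 (l.map Prod.fst)) := h5
      _ ≤ p.2 * ((l.map Prod.snd).prod * Nat.card Z0) := Nat.mul_le_mul_left _ h6
      _ = ((p :: l).map Prod.snd).prod * Nat.card Z0 := by simp [mul_assoc]

/-- Conjugation preserves a chain, when it preserves generators. -/
theorem conj_chain (Z0 P : Subgroup Y) (u : Y) (h0 : ∀ z ∈ Z0, u * z * u⁻¹ ∈ P) :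
    ∀ l : List Y, (∀ v ∈ l, u * v * u⁻¹ ∈ P) → ∀ x ∈ chainSub Z0 l, u * x * u⁻¹ ∈ P := by
  intro l hl x hx
  have hle : chainSub Z0 l ≤ P.comap (MulAut.conj u).toMonoidHom :=
    chainSub_le Z0 _ (fun z hz => by simpa using h0 z hz) l (fun v hv => by simpa using hl v hv)
  simpa using hle hx

end chain

/-- One step of a polycyclic sequence. -/
structure PC where
  /-- the word -/
  u : List ℕ
  /-- the relative order -/
  o : ℕ
  /-- the power, in the later elements -/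
  pw : List ℕ
  /-- the conjugates of the later elements, in these -/
  cj : List (List ℕ)

/-- A normal form. -/
def nfWord : List (List ℕ) → List ℕ → List ℕ
  | u :: us, e :: es => powW u e ++ nfWord us es
  | _, _ => []

/-- The relations of a polycyclic sequence. -/
def relWords (s : ℕ) : List PC → List (List ℕ)
  | [] => []
  | p :: l =>
    (powW p.u p.o ++ invW s (nfWord (l.map PC.u) p.pw)) ::
      (List.zipWith (fun (t : PC) (e : List ℕ) => p.u ++ t.u ++ invW s p.u ++ invW s (nfWord (l.map PC.u) e))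
        l p.cj ++ relWords s l)

/-- The shape of a polycyclic sequence. -/
def pcWF : List PC → Bool
  | [] => true
  | p :: l => Nat.beq p.cj.length l.length && Nat.blt 0 p.o && pcWF l

section words

variable {Y : Type*} [Group Y] (γ : ℕ → Y) (s : ℕ) (hγ : ∀ a < s, γ (a + s) = (γ a)⁻¹)

theorem nf_letters {m : ℕ} : ∀ (us : List (List ℕ)) (es : List ℕ), (∀ u ∈ us, ∀ a ∈ u, a < m) →
    ∀ a ∈ nfWord us es, a < m
  | [], _, _, a, h => by simp [nfWord] at h
  | _ :: _, [], _, a, h => by simp [nfWord] at h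
  | u :: us, e :: es, hu, a, h => by
    simp only [nfWord, List.mem_append] at h
    rcases h with h | h
    · exact powW_letters u e m (hu u (by simp)) a h
    · exact nf_letters us es (fun v hv => hu v (by simp [hv])) a h

theorem nf_mem (Z0 : Subgroup Y) : ∀ (us : List (List ℕ)) (es : List ℕ),
    wval γ (nfWord us es) ∈ chainSub Z0 (us.map (wval γ))
  | [], _ => by simp [nfWord, wval, one_mem]
  | _ :: _, [] => by simp [nfWord, wval, one_mem]
  | u :: us, e :: es => by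
    simp only [nfWord, wval_append, wval_powW, List.map_cons]
    show _ ∈ closure ({wval γ u} ∪ (chainSub Z0 (us.map (wval γ)) : Set Y))
    have h1 : wval γ u ∈ closure ({wval γ u} ∪ (chainSub Z0 (us.map (wval γ)) : Set Y)) :=
      subset_closure (Or.inl rfl)
    have h2 : wval γ (nfWord us es) ∈ closure ({wval γ u} ∪ (chainSub Z0 (us.map (wval γ)) : Set Y)) :=
      subset_closure (Or.inr (nf_mem Z0 us es))
    exact Subgroup.mul_mem _ (Subgroup.pow_mem _ h1 _) h2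

include hγ

theorem chain_of_pc (Z0 : Subgroup Y) :
    ∀ pc : List PC, pcWF pc = true → (∀ p ∈ pc, ∀ a ∈ p.u, a < 2 * s) →
    (∀ p ∈ pc, ∀ z ∈ Z0, wval γ p.u * z * (wval γ p.u)⁻¹ = z) →
    (∀ w ∈ relWords s pc, wval γ w ∈ Z0) →
    ChainOK Z0 (pc.map fun p => (wval γ p.u, p.o))
  | [], _, _, _, _ => trivial
  | p :: l, hwf, hlet, hZc, hrel => by
    simp only [pcWF, Bool.and_eq_true, Nat.beq_eq, Nat.blt_eq] at hwf
    obtain ⟨⟨h1, h2⟩, h3⟩ := hwf
    have hlet' : ∀ p' ∈ l, ∀ a ∈ p'.u, a < 2 * s := fun p' hp' => hlet p' (by simp [hp'])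
    have hus : ∀ u ∈ l.map PC.u, ∀ a ∈ u, a < 2 * s := by
      intro u hu
      obtain ⟨q, hq, rfl⟩ := List.mem_map.mp hu
      exact hlet' q hq
    have hp : ∀ a ∈ p.u, a < 2 * s := hlet p (by simp)
    have hmap : (l.map fun p => (wval γ p.u, p.o)).map Prod.fst = (l.map PC.u).map (wval γ) := by
      simp [List.map_map, Function.comp_def]
    refine ⟨h2, ?_, ?_, ?_⟩
    · -- the power
      have h4 := hrel _ (List.mem_cons_self)
      rw [wval_append, wval_invW γ s hγ _ (nf_letters _ _ hus), wval_powW] at h4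
      show wval γ p.u ^ p.o ∈ _
      rw [hmap]
      have h5 := nf_mem γ Z0 (l.map PC.u) p.pw
      have h6 := le_chainSub Z0 ((l.map PC.u).map (wval γ)) h4
      have h7 := mul_mem h6 h5
      simpa using h7
    · -- conjugates
      rw [hmap]
      show ∀ x ∈ _, wval γ p.u * x * (wval γ p.u)⁻¹ ∈ _
      apply conj_chain
      · intro z hz
        rw [hZc p (by simp) z hz]
        exact le_chainSub _ _ hz
      · intro v hv
        obtain ⟨q, hq, rfl⟩ := List.mem_map.mp hv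
        obtain ⟨t, ht, rfl⟩ := List.mem_map.mp hq
        obtain ⟨k, hk, rfl⟩ := List.mem_iff_getElem.mp ht
        have hk2 : k < p.cj.length := by rw [h1]; exact hk
        have hmem : p.u ++ l[k].u ++ invW s p.u ++ invW s (nfWord (l.map PC.u) p.cj[k]) ∈
            List.zipWith (fun (t : PC) (e : List ℕ) => p.u ++ t.u ++ invW s p.u ++ invW s (nfWord (l.map PC.u) e))
              l p.cj := by
          rw [List.mem_iff_getElem]
          exact ⟨k, by simp [hk, hk2], by simp⟩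
        have h4 := hrel _ (List.mem_cons_of_mem _ (List.mem_append_left _ hmem))
        simp only [wval_append] at h4
        rw [wval_invW γ s hγ _ hp, wval_invW γ s hγ _ (nf_letters _ _ hus)] at h4
        have h5 := nf_mem γ Z0 (l.map PC.u) p.cj[k]
        have h6 := le_chainSub Z0 ((l.map PC.u).map (wval γ)) h4
        have h7 := mul_mem h6 h5
        simpa using h7
    · exact chain_of_pc Z0 l h3 hlet' (fun p' hp' => hZc p' (by simp [hp']))
        (fun w hw => hrel w (List.mem_cons_of_mem _ (List.mem_append_right _ hw)))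

end words

/-! ### The subgroup of a polycyclic sequence -/

theorem map_chainSub {Y Y' : Type*} [Group Y] [Group Y'] (f : Y →* Y') (Z0 : Subgroup Y) :
    ∀ l : List Y, (chainSub Z0 l).map f = chainSub (Z0.map f) (l.map f)
  | [] => rfl
  | u :: l => by
    show (closure ({u} ∪ (chainSub Z0 l : Set Y))).map f =
      closure ({f u} ∪ (chainSub (Z0.map f) (l.map f) : Set Y'))
    rw [MonoidHom.map_closure, ← map_chainSub f Z0 l, Set.image_union, Set.image_singleton]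
    rfl

/-- A word for a Schreier element, with a normal form in the sequence. -/
def parP (s : ℕ) (us : List (List ℕ)) (T : ℕ → ℕ → ℕ) (par gn : ℕ → ℕ) (a i : ℕ) (es : List ℕ) : List ℕ :=
  let j := T a i
  invW s (nfWord us es) ++ invW s (tw par gn (j + 1) j) ++ a :: tw par gn (i + 1) i

theorem sE_of_parP {M : Type*} [Group M] (γ : ℕ → M) (s : ℕ) (hγ : ∀ a < s, γ (a + s) = (γ a)⁻¹)
    (us : List (List ℕ)) (hus : ∀ u ∈ us, ∀ a ∈ u, a < 2 * s)
    (T : ℕ → ℕ → ℕ) (par gn : ℕ → ℕ) {a i : ℕ} (hj : ∀ b ∈ tw par gn (T a i + 1) (T a i), b < 2 * s)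
    (es : List ℕ) {x : M} (h : wval γ (parP s us T par gn a i es) = x) :
    sE γ (tree γ par gn) T a i = wval γ (nfWord us es) * x := by
  simp only [parP, wval_append, wval_cons] at h
  rw [wval_invW γ s hγ _ (nf_letters us es hus), wval_invW γ s hγ _ hj] at h
  subst h
  simp only [sE, tree]
  group

/-- The subgroup generated by a polycyclic sequence. -/
def pcH {M : Type*} [Group M] (γ : ℕ → M) (Z0 : Subgroup M) (pc : List PC) : Subgroup M :=
  chainSub Z0 ((pc.map PC.u).map (wval γ))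

theorem relWords_letters (s : ℕ) (pc : List PC) (hlet : ∀ p ∈ pc, ∀ a ∈ p.u, a < 2 * s) :
    ∀ w ∈ relWords s pc, ∀ a ∈ w, a < 2 * s := by
  induction pc with
  | nil => simp [relWords]
  | cons p l ih =>
    have hlet' : ∀ p' ∈ l, ∀ a ∈ p'.u, a < 2 * s := fun p' hp' => hlet p' (by simp [hp'])
    have hus : ∀ u ∈ l.map PC.u, ∀ a ∈ u, a < 2 * s := by
      intro u hu
      obtain ⟨q, hq, rfl⟩ := List.mem_map.mp hu
      exact hlet' q hq
    have hp : ∀ a ∈ p.u, a < 2 * s := hlet p (by simp)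
    intro w hw a ha
    simp only [relWords, List.mem_cons, List.mem_append] at hw
    rcases hw with rfl | hw | hw
    · simp only [List.mem_append] at ha
      rcases ha with ha | ha
      · exact powW_letters p.u p.o _ hp a ha
      · exact invW_letters s _ (nf_letters _ _ hus) a ha
    · obtain ⟨k, hk, e⟩ := List.mem_iff_getElem.mp hw
      simp only [List.getElem_zipWith] at e
      subst e
      simp only [List.mem_append] at ha
      rcases ha with ((ha | ha) | ha) | ha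
      · exact hp a ha
      · exact hlet' _ (List.getElem_mem _) a ha
      · exact invW_letters s _ hp a ha
      · exact invW_letters s _ (nf_letters _ _ hus) a ha
    · exact ih hlet' w hw a ha

section poly

variable {G : Type u} [Group G] [Finite G]

/-- Coset counting, from the deductions. -/
theorem card_le_of_flags (D : Dat) (s : ℕ) (hk : D.k = 2 * s) (g : ℕ → G)
    (hgi : ∀ a < s, g (a + s) = (g a)⁻¹) (hgen : closure (g '' {a | a < 2 * s}) = ⊤)
    (H : Subgroup G)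
    (hT : ∀ a < D.k, ∀ i < D.n, D.T a i < D.n)
    (hR : ∀ ρ < D.r, ∀ a ∈ D.R ρ, a < D.k)
    (hn : 0 < D.n)
    (hp : ∀ j, 0 < j → j < D.n → D.par j < j ∧ D.gn j < D.k ∧ D.T (D.gn j) (D.par j) = j)
    (hrelG : ∀ ρ < D.r, wval g (D.R ρ) = 1)
    (hparG : ∀ u < D.m, (D.P u).1 < D.k →
      sE g (tree g D.par D.gn) D.T (D.P u).1 (D.P u).2 ∈ H)
    (hvar : ∀ a < D.k, ∀ i < D.n, varOK D a i = true) :
    Nat.card G ≤ D.n * Nat.card H := by
  have hp' : ∀ j, 0 < j → j < D.n → D.par j < j := fun j h0 hj => (hp j h0 hj).1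
  have hflag := flags g (tree g D.par D.gn) D H hT hR
    (fun ρ hρ i _ _ => by rw [hrelG ρ hρ]; simp [H.one_mem])
    (fun a ha i hi h => by
      have := tree_edge g D hp' hT ha hi h
      simp only [sE]
      rw [this]
      simp [H.one_mem])
    hparG hvar
  have hcov : ∀ x : G, ∃ i < D.n, ∃ q ∈ H, x = tree g D.par D.gn i * q := by
    intro x
    obtain ⟨w, hw, rfl⟩ := exists_word g s hgi (x := x) (by rw [hgen]; trivial)
    have hw' : ∀ a ∈ w, a < D.k := by rw [hk]; exact hw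
    obtain ⟨h1, q, hq, e⟩ := cover_words g (tree g D.par D.gn) D H hT hflag w hw' hn
    refine ⟨_, h1, q, hq, ?_⟩
    rw [← e, tree_zero, mul_one]
  let f : Fin D.n × H → G := fun x => tree g D.par D.gn x.1 * x.2
  have hs : Function.Surjective f := by
    intro x
    obtain ⟨i, hi, q, hq, rfl⟩ := hcov x
    exact ⟨(⟨i, hi⟩, ⟨q, hq⟩), rfl⟩
  have := Nat.card_le_card_of_surjective f hs
  simpa [Nat.card_prod] using this

/-- The order of the subgroup of a polycyclic sequence. -/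
theorem card_pcH (D : Dat) (s : ℕ) (hk : D.k = 2 * s) (g : ℕ → G)
    (hgi : ∀ a < s, g (a + s) = (g a)⁻¹) (hgen : closure (g '' {a | a < 2 * s}) = ⊤)
    (pc : List PC) (hpc : pcWF pc = true) (hlet : ∀ p ∈ pc, ∀ a ∈ p.u, a < 2 * s)
    (hpcG : ∀ w ∈ relWords s pc, wval g w = 1)
    (hcard : Nat.card G = D.n * (pc.map PC.o).prod)
    (hT : ∀ a < D.k, ∀ i < D.n, D.T a i < D.n)
    (hR : ∀ ρ < D.r, ∀ a ∈ D.R ρ, a < D.k)
    (hn : 0 < D.n)
    (hp : ∀ j, 0 < j → j < D.n → D.par j < j ∧ D.gn j < D.k ∧ D.T (D.gn j) (D.par j) = j)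
    (hrelG : ∀ ρ < D.r, wval g (D.R ρ) = 1)
    (hparG : ∀ u < D.m, (D.P u).1 < D.k →
      sE g (tree g D.par D.gn) D.T (D.P u).1 (D.P u).2 ∈ pcH g ⊥ pc)
    (hvar : ∀ a < D.k, ∀ i < D.n, varOK D a i = true) :
    Nat.card (pcH g ⊥ pc) = (pc.map PC.o).prod := by
  have h1 := card_le_of_flags D s hk g hgi hgen (pcH g ⊥ pc) hT hR hn hp hrelG hparG hvar
  rw [hcard] at h1
  have h2 := Nat.le_of_mul_le_mul_left h1 hn
  have h3 := chain_of_pc g s hgi (⊥ : Subgroup G) pc hpc hlet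
    (fun p _ z hz => by
      rw [Subgroup.mem_bot.mp hz]
      simp)
    (fun w hw => Subgroup.mem_bot.mpr (hpcG w hw))
  have h4 := card_chain (⊥ : Subgroup G) _ h3
  have e1 : ((pc.map fun p => (wval g p.u, p.o)).map Prod.fst) = (pc.map PC.u).map (wval g) := by
    simp [List.map_map, Function.comp_def]
  have e2 : ((pc.map fun p => (wval g p.u, p.o)).map Prod.snd) = pc.map PC.o := by
    simp [List.map_map, Function.comp_def]
  rw [e1, e2] at h4
  simp only [Subgroup.card_bot, mul_one] at h4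
  exact le_antisymm h4 h2

end poly

section lowerPoly

variable {G : Type u} [Group G] [Finite G]

/-- The lower bound, for the subgroup of a polycyclic sequence. -/
theorem lower_P (D : Dat) (s : ℕ) (hk : D.k = 2 * s) (hn : 0 < D.n) (g : ℕ → G)
    (hgi : ∀ a < s, g (a + s) = (g a)⁻¹) (hgen : closure (g '' {a | a < 2 * s}) = ⊤)
    {A : Type} [AddCommGroup A] [Finite A] (ℓ : ℕ → ℕ → A)
    (hT : ∀ a < 2 * s, ∀ i < D.n, D.T a i < D.n)
    (hinv : ∀ a < 2 * s, ∀ i < D.n, D.T (invL s a) (D.T a i) = i ∧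
      ℓ (invL s a) (D.T a i) + ℓ a i = 0)
    (hR : ∀ ρ < D.r, ∀ a ∈ D.R ρ, a < D.k)
    (hp : ∀ j, 0 < j → j < D.n → D.par j < j ∧ D.gn j < D.k ∧ D.T (D.gn j) (D.par j) = j)
    (pc : List PC) (hpc : pcWF pc = true) (hlet : ∀ p ∈ pc, ∀ a ∈ p.u, a < 2 * s)
    (hpcG : ∀ w ∈ relWords s pc, wval g w = 1)
    (hcardH : Nat.card (pcH g ⊥ pc) = (pc.map PC.o).prod)
    (hdist : ∀ j < D.n, tree g D.par D.gn j ∈ pcH g ⊥ pc → j = 0)
    (hrelG : ∀ ρ < D.r, wval g (D.R ρ) = 1)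
    (vv : ℕ → A)
    (hRL : ∀ ρ < D.r, ∀ i < D.n, walk D.T (D.R ρ) i = i ∧ pathSum ℓ D.T (D.R ρ) i = vv ρ)
    (hvals : AddSubgroup.closure (vv '' {ρ | ρ < D.r}) = ⊤)
    (gw : ℕ → List ℕ) (hgw1 : ∀ a < s, ∀ b ∈ gw a, b < 2 * s) (hgw2 : ∀ a < s, wval g (gw a) = g a)
    (hgw3 : ∀ a < s, balanced s (gw a) = true)
    (hgz : ∀ a < s, ∀ i < D.n, walk D.T (gw a) i = D.T a i ∧ pathSum ℓ D.T (gw a) i = ℓ a i)
    (hpcL : ∀ w ∈ relWords s pc, ∃ c : A, ∀ i < D.n, walk D.T w i = i ∧ pathSum ℓ D.T w i = c)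
    (pe : ℕ → List ℕ) (pv : ℕ → A)
    (hparG : ∀ u < D.m, (D.P u).1 < D.k →
      wval g (parP s (pc.map PC.u) D.T D.par D.gn (D.P u).1 (D.P u).2 (pe u)) = 1)
    (hparL : ∀ u < D.m, (D.P u).1 < D.k → ∀ i < D.n,
      walk D.T (parP s (pc.map PC.u) D.T D.par D.gn (D.P u).1 (D.P u).2 (pe u)) i = i ∧
      pathSum ℓ D.T (parP s (pc.map PC.u) D.T D.par D.gn (D.P u).1 (D.P u).2 (pe u)) i = pv u)
    (hPn : ∀ u < D.m, (D.P u).1 < D.k → (D.P u).2 < D.n)
    (hvar : ∀ a < D.k, ∀ i < D.n, varOK D a i = true) :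
    ∃ (Γ : Type u) (_ : Group Γ) (_ : Finite Γ) (σ : Γ →* G),
      Cfsg.IsStemExtension σ ∧ Nonempty (σ.ker ≃* Multiplicative A) := by
  classical
  set γ : ℕ → G × Equiv.Perm (Fin D.n × A) := fun a => (g a, monP D s ℓ hT hinv a) with hγdef
  have hγinv : ∀ a < s, γ (a + s) = (γ a)⁻¹ := by
    intro a ha
    exact Prod.ext (hgi a ha) (monP_add hT hinv a ha)
  have hfst : ∀ w : List ℕ, (wval γ w).1 = wval g w := by
    intro w
    exact map_wval (MonoidHom.fst G (Equiv.Perm (Fin D.n × A))) γ w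
  have hsnd : ∀ w : List ℕ, (wval γ w).2 = wval (monP D s ℓ hT hinv) w := by
    intro w
    exact map_wval (MonoidHom.snd G (Equiv.Perm (Fin D.n × A))) γ w
  let C : Multiplicative A →* G × Equiv.Perm (Fin D.n × A) :=
    { toFun := fun c => ((1 : G), scal D.n (Multiplicative.toAdd c))
      map_one' := by
        refine Prod.ext rfl ?_
        simp only [toAdd_one, scal_zero]
        rfl
      map_mul' := by
        intro c c'
        refine Prod.ext (by simp) ?_
        simp only [toAdd_mul, scal_add, Prod.snd_mul] }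
  have hCdef : ∀ c : A, C (Multiplicative.ofAdd c) = ((1 : G), scal D.n c) := fun c => rfl
  have hword : ∀ w : List ℕ, (∀ a ∈ w, a < 2 * s) → wval g w = 1 → ∀ c : A,
      (∀ i < D.n, walk D.T w i = i ∧ pathSum ℓ D.T w i = c) → wval γ w = C (Multiplicative.ofAdd c) := by
    intro w hw h1 c h2
    refine Prod.ext (by rw [hfst, h1]; rfl) ?_
    rw [hsnd]
    exact wval_monP_eq_scal hT hinv w hw c h2
  have hCcomm : ∀ w : List ℕ, (∀ a ∈ w, a < 2 * s) → ∀ c : A,
      wval γ w * C (Multiplicative.ofAdd c) = C (Multiplicative.ofAdd c) * wval γ w := by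
    intro w hw c
    refine Prod.ext (by simp [hCdef]) ?_
    simp only [Prod.snd_mul, hCdef, hsnd]
    induction w with
    | nil => simp
    | cons a w ih =>
      simp only [wval_cons]
      rw [mul_assoc, ih (fun b hb => hw b (by simp [hb])), ← mul_assoc, ← scal_comm hT hinv a c, mul_assoc]
  set Z0 : Subgroup (G × Equiv.Perm (Fin D.n × A)) := C.range with hZ0
  have hZc : ∀ p ∈ pc, ∀ z ∈ Z0, wval γ p.u * z * (wval γ p.u)⁻¹ = z := by
    rintro p hp' _ ⟨c, rfl⟩
    have := hCcomm p.u (hlet p hp') (Multiplicative.toAdd c)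
    rw [ofAdd_toAdd] at this
    rw [this]
    group
  have hrelZ : ∀ w ∈ relWords s pc, wval γ w ∈ Z0 := by
    intro w hw
    obtain ⟨c, hc⟩ := hpcL w hw
    rw [hword w (relWords_letters s pc hlet w hw) (hpcG w hw) c hc]
    exact ⟨_, rfl⟩
  have hchain := chain_of_pc γ s hγinv Z0 pc hpc hlet hZc hrelZ
  have hbound := card_chain Z0 _ hchain
  have e1 : ((pc.map fun p => (wval γ p.u, p.o)).map Prod.fst) = (pc.map PC.u).map (wval γ) := by
    simp [List.map_map, Function.comp_def]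
  have e2 : ((pc.map fun p => (wval γ p.u, p.o)).map Prod.snd) = pc.map PC.o := by
    simp [List.map_map, Function.comp_def]
  rw [e1, e2] at hbound
  set Q : Subgroup (G × Equiv.Perm (Fin D.n × A)) := chainSub Z0 ((pc.map PC.u).map (wval γ)) with hQ
  have hZQ : Z0 ≤ Q := le_chainSub _ _
  -- the projection of `Q`
  let fst' : G × Equiv.Perm (Fin D.n × A) →* G := MonoidHom.fst G _
  have hmapQ : Q.map fst' = pcH g ⊥ pc := by
    rw [hQ, map_chainSub]
    have e3 : Z0.map fst' = ⊥ := by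
      rw [eq_bot_iff]
      rintro _ ⟨_, ⟨c, rfl⟩, rfl⟩
      exact Subgroup.mem_bot.mpr rfl
    have e4 : ((pc.map PC.u).map (wval γ)).map fst' = (pc.map PC.u).map (wval g) := by
      simp only [List.map_map]
      apply List.map_congr_left
      intro w _
      exact hfst w.u
    rw [e3, e4]
    rfl
  let f : Q →* G := fst'.comp Q.subtype
  have hrange : f.range = pcH g ⊥ pc := by
    rw [← hmapQ, MonoidHom.range_comp, Subgroup.range_subtype]
  have hcount : Nat.card f.ker * (pc.map PC.o).prod = Nat.card Q := by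
    have h1 := Subgroup.card_mul_index f.ker
    rw [Subgroup.index_ker, hrange, hcardH] at h1
    exact h1
  have hpos : 0 < (pc.map PC.o).prod := by
    rw [← hcardH]
    exact Nat.card_pos
  have hker_le : Nat.card f.ker ≤ Nat.card Z0 := by
    have h1 : Nat.card f.ker * (pc.map PC.o).prod ≤ (pc.map PC.o).prod * Nat.card Z0 := by
      rw [hcount]; exact hbound
    rw [mul_comm] at h1
    exact Nat.le_of_mul_le_mul_left h1 hpos
  have hZker : ∀ z : Z0, (⟨z.1, hZQ z.2⟩ : Q) ∈ f.ker := by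
    rintro ⟨_, ⟨c, rfl⟩⟩
    rfl
  let inc : Z0 → f.ker := fun z => ⟨⟨z.1, hZQ z.2⟩, hZker z⟩
  have hinc : Function.Injective inc := by
    intro x y h
    have := congrArg (fun t : f.ker => ((t : Q) : G × Equiv.Perm (Fin D.n × A))) h
    exact Subtype.ext this
  have hbij := hinc.bijective_of_nat_card_le hker_le
  have hQ1 : ∀ q ∈ Q, q.1 = 1 → ∃ c : A, q.2 = scal D.n c := by
    intro q hq h1
    obtain ⟨⟨z, hz⟩, e⟩ := hbij.2 ⟨⟨q, hq⟩, h1⟩
    obtain ⟨c, rfl⟩ := hz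
    refine ⟨Multiplicative.toAdd c, ?_⟩
    have h2 := congrArg (fun t : f.ker => ((t : Q) : G × Equiv.Perm (Fin D.n × A))) e
    exact (congrArg Prod.snd h2).symm
  have hQH : ∀ q ∈ Q, q.1 ∈ pcH g ⊥ pc := by
    intro q hq
    rw [← hmapQ]
    exact ⟨q, hq, rfl⟩
  have hus : ∀ u ∈ pc.map PC.u, ∀ a ∈ u, a < 2 * s := by
    intro u hu
    obtain ⟨q, hq, rfl⟩ := List.mem_map.mp hu
    exact hlet q hq
  refine lower_main D s hk hn g hgi hgen ℓ hT hinv hR hp (pcH g ⊥ pc)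
    hdist hrelG vv hRL hvals gw hgw1 hgw2 hgw3 hgz Q (fun c => hZQ ⟨Multiplicative.ofAdd c, rfl⟩)
    hQ1 hQH ?_ hvar
  intro u hu hu1
  have hi := hPn u hu hu1
  have ht1 : ∀ j < D.n, ∀ b ∈ tw D.par D.gn (j + 1) j, b < 2 * s := by
    intro j hj b hb
    have := tw_letters D.par D.gn D.n D.k (fun j h0 hj => ⟨(hp j h0 hj).1, (hp j h0 hj).2.1⟩)
      (j + 1) j hj b hb
    omega
  have hu2 : (D.P u).1 < 2 * s := by rw [← hk]; exact hu1
  have hT2 := hT _ hu2 _ hi
  have hlet2 : ∀ a ∈ parP s (pc.map PC.u) D.T D.par D.gn (D.P u).1 (D.P u).2 (pe u), a < 2 * s := by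
    intro a ha
    simp only [parP, List.mem_append, List.mem_cons] at ha
    rcases ha with (ha | ha) | ha | ha
    · exact invW_letters s _ (nf_letters _ _ hus) a ha
    · exact invW_letters s _ (ht1 _ hT2) a ha
    · rw [ha]; exact hu2
    · exact ht1 _ hi a ha
  have h1 := hword _ hlet2 (hparG u hu hu1) (pv u) (hparL u hu hu1)
  have h2 := sE_of_parP γ s hγinv (pc.map PC.u) hus D.T D.par D.gn (ht1 _ hT2) (pe u) h1
  rw [h2]
  exact mul_mem (nf_mem γ Z0 (pc.map PC.u) (pe u)) (hZQ ⟨_, rfl⟩)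

end lowerPoly

section polyFinal

variable {G : Type u} [Group G] [Finite G]

/-- The multiplier from a labelled table over the subgroup of a polycyclic sequence. -/
theorem final_P (D : Dat) (s : ℕ) (hk : D.k = 2 * s) (hn : 0 < D.n) (g : ℕ → G)
    (hgi : ∀ a < s, g (a + s) = (g a)⁻¹) (hgen : closure (g '' {a | a < 2 * s}) = ⊤)
    (pc : List PC) (hpc : pcWF pc = true) (hlet : ∀ p ∈ pc, ∀ a ∈ p.u, a < 2 * s)
    (hpcG : ∀ w ∈ relWords s pc, wval g w = 1)
    (hcard : Nat.card G = D.n * (pc.map PC.o).prod)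
    (gw : ℕ → List ℕ) (hgw1 : ∀ a < s, ∀ b ∈ gw a, b < 2 * s) (hgw2 : ∀ a < s, wval g (gw a) = g a)
    (hgw3 : ∀ a < s, balanced s (gw a) = true)
    (hT : ∀ a < D.k, ∀ i < D.n, D.T a i < D.n)
    (hR : ∀ ρ < D.r, ∀ a ∈ D.R ρ, a < D.k)
    (hp : ∀ j, 0 < j → j < D.n → D.par j < j ∧ D.gn j < D.k ∧ D.T (D.gn j) (D.par j) = j)
    (hrelG : ∀ ρ < D.r, wval g (D.R ρ) = 1)
    (hZ : ∀ ρ < D.r, D.Z ρ = true → ∃ a < s, D.R ρ = [a, a + s] ∨ D.R ρ = [a + s, a] ∨
      D.R ρ = (a + s) :: gw a)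
    (hPk : ∀ t < D.m, ((D.P t).1 < D.k ∧ (D.P t).2 < D.n) ∨
      (D.k ≤ (D.P t).1 ∧ (D.P t).1 - D.k < D.r ∧ (D.P t).2 = 0))
    (hPL : ∀ t < D.m, vbeq (D.L (D.P t).1 (D.P t).2) (vunit D.m t) = true)
    (hvar : ∀ a < D.k, ∀ i < D.n, varOK D a i = true)
    (hrv : ∀ ρ < D.r, relOK D ρ = true)
    (rels : List (ℕ × ℕ)) (hrels : ∀ x ∈ rels, relClosed D x.1 x.2 = true)
    (gvs : List (List ℤ)) (b W : ℕ → List ℤ)
    (hfin : ∀ u < D.m, vbeq (vunit D.m u) (vadd (lin (b u) gvs)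
      (lin (W u) (rels.map fun x => relRow D x.1 x.2))) = true)
    (hcop : ∀ (Γ : Type u) [Group Γ] [Finite Γ] (σ : Γ →* G), Cfsg.IsStemExtension σ →
      Nat.Coprime (pc.map PC.o).prod (Nat.card σ.ker))
    {A : Type} [AddCommGroup A] [Finite A]
    (hSurj : ∀ (Γ : Type u) [Group Γ] [Finite Γ] (σ : Γ →* G), Cfsg.IsStemExtension σ →
      ∀ f : List ℤ → σ.ker, (∀ x : σ.ker, x ∈ closure (f '' {v | v ∈ gvs})) →
      (∀ (v : List ℤ) (N : ℤ) (w : List ℤ),
        vbeq (vscale N v) (lin w (rels.map fun x => relRow D x.1 x.2)) = true → f v ^ N = 1) →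
      ∃ π : Multiplicative A →* σ.ker, Function.Surjective π)
    (ℓ : ℕ → ℕ → A)
    (hinv : ∀ a < 2 * s, ∀ i < D.n, D.T (invL s a) (D.T a i) = i ∧
      ℓ (invL s a) (D.T a i) + ℓ a i = 0)
    (vv : ℕ → A)
    (hRL : ∀ ρ < D.r, ∀ i < D.n, walk D.T (D.R ρ) i = i ∧ pathSum ℓ D.T (D.R ρ) i = vv ρ)
    (hvals : AddSubgroup.closure (vv '' {ρ | ρ < D.r}) = ⊤)
    (hgz : ∀ a < s, ∀ i < D.n, walk D.T (gw a) i = D.T a i ∧ pathSum ℓ D.T (gw a) i = ℓ a i)
    (hpcL : ∀ w ∈ relWords s pc, ∃ c : A, ∀ i < D.n, walk D.T w i = i ∧ pathSum ℓ D.T w i = c)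
    (pe : ℕ → List ℕ) (pv : ℕ → A)
    (hparG : ∀ u < D.m, (D.P u).1 < D.k →
      wval g (parP s (pc.map PC.u) D.T D.par D.gn (D.P u).1 (D.P u).2 (pe u)) = 1)
    (hparL : ∀ u < D.m, (D.P u).1 < D.k → ∀ i < D.n,
      walk D.T (parP s (pc.map PC.u) D.T D.par D.gn (D.P u).1 (D.P u).2 (pe u)) i = i ∧
      pathSum ℓ D.T (parP s (pc.map PC.u) D.T D.par D.gn (D.P u).1 (D.P u).2 (pe u)) i = pv u) :
    Cfsg.HasSchurMultiplier G (Multiplicative A) := by
  have hT2 : ∀ a < 2 * s, ∀ i < D.n, D.T a i < D.n := by rw [← hk]; exact hT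
  have hPn : ∀ u < D.m, (D.P u).1 < D.k → (D.P u).2 < D.n := by
    intro u hu h
    rcases hPk u hu with h1 | h1
    · exact h1.2
    · omega
  have ht1 : ∀ j < D.n, ∀ b ∈ tw D.par D.gn (j + 1) j, b < 2 * s := by
    intro j hj b hb
    have := tw_letters D.par D.gn D.n D.k (fun j h0 hj => ⟨(hp j h0 hj).1, (hp j h0 hj).2.1⟩)
      (j + 1) j hj b hb
    omega
  have hus : ∀ u ∈ pc.map PC.u, ∀ a ∈ u, a < 2 * s := by
    intro u hu
    obtain ⟨q, hq, rfl⟩ := List.mem_map.mp hu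
    exact hlet q hq
  set H : Subgroup G := pcH g ⊥ pc with hH
  have hparG' : ∀ u < D.m, (D.P u).1 < D.k →
      sE g (tree g D.par D.gn) D.T (D.P u).1 (D.P u).2 ∈ H := by
    intro u hu hu1
    have hu2 : (D.P u).1 < 2 * s := by rw [← hk]; exact hu1
    have h2 := sE_of_parP g s hgi (pc.map PC.u) hus D.T D.par D.gn
      (ht1 _ (hT2 _ hu2 _ (hPn u hu hu1))) (pe u) (hparG u hu hu1)
    rw [h2, mul_one]
    exact nf_mem g ⊥ (pc.map PC.u) (pe u)
  have hcardH : Nat.card H = (pc.map PC.o).prod :=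
    card_pcH D s hk g hgi hgen pc hpc hlet hpcG hcard hT hR hn hp hrelG hparG' hvar
  have hcard' : Nat.card G = D.n * Nat.card H := by rw [hcardH]; exact hcard
  have hdist := dist_of_flags D s hk g hgi hgen H hcard' hT hR hn hp hrelG hparG' hvar
  refine ⟨?_, ?_⟩
  · exact lower_P D s hk hn g hgi hgen ℓ hT2 hinv hR hp pc hpc hlet hpcG hcardH hdist hrelG vv hRL hvals
      gw hgw1 hgw2 hgw3 hgz hpcL pe pv hparG hparL hPn hvar
  · intro Γ _ _ σ hσ
    obtain ⟨f, hf1, hf2⟩ := upper_main σ hσ D s hk g hgi hgen H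
      (by rw [hcardH]; exact hcop Γ σ hσ) hcard' gw
      hgw1 hgw2 hgw3 hT hR hn hp hrelG hparG' hZ hPk hPL hvar hrv rels hrels gvs b W hfin
    exact hSurj Γ σ hσ f hf1 hf2

end polyFinal

/-! ### The `r`-part of a stem extension -/

section rpart

variable {Γ G : Type*} [Group Γ] [Group G] [Finite Γ]

/-- A stem extension whose kernel is a nontrivial `r`-group, when `r` divides the kernel. -/
theorem exists_r_quotient (σ : Γ →* G) (hσ : Cfsg.IsStemExtension σ) (r : ℕ) (hr : r.Prime)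
    (hd : r ∣ Nat.card σ.ker) :
    ∃ (W : Subgroup Γ) (_ : W.Normal) (hW : W ≤ σ.ker),
      Cfsg.IsStemExtension (QuotientGroup.lift W σ hW) ∧
      IsPGroup r (QuotientGroup.lift W σ hW).ker ∧ Nontrivial (QuotientGroup.lift W σ hW).ker := by
  classical
  obtain ⟨hs, hK, hK'⟩ := hσ
  have hN : Nat.card σ.ker ≠ 0 := Nat.card_pos.ne'
  obtain ⟨a, m, hm, hNe⟩ := Nat.exists_eq_pow_mul_and_not_dvd hN r hr.ne_one
  have hcomm : ∀ x ∈ σ.ker, ∀ y : Γ, y * x = x * y := fun x hx y =>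
    Subgroup.mem_center_iff.mp (hK hx) y
  let W : Subgroup Γ :=
    { carrier := {z | z ∈ σ.ker ∧ z ^ m = 1}
      one_mem' := ⟨one_mem _, one_pow _⟩
      mul_mem' := by
        rintro x y ⟨h1, h2⟩ ⟨h3, h4⟩
        refine ⟨mul_mem h1 h3, ?_⟩
        have hc : Commute x y := (hcomm x h1 y).symm
        rw [hc.mul_pow, h2, h4, one_mul]
      inv_mem' := by
        rintro x ⟨h1, h2⟩
        exact ⟨inv_mem h1, by rw [inv_pow, h2, inv_one]⟩ }
  have hWn : W.Normal := by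
    refine ⟨fun z hz y => ?_⟩
    have e : y * z * y⁻¹ = z := by
      rw [hcomm z hz.1 y]
      group
    rw [e]
    exact hz
  have hWk : W ≤ σ.ker := fun z hz => hz.1
  refine ⟨W, hWn, hWk, ⟨?_, ?_, ?_⟩, ?_, ?_⟩
  · intro y
    obtain ⟨x, rfl⟩ := hs y
    exact ⟨QuotientGroup.mk x, rfl⟩
  · intro y hy
    obtain ⟨x, rfl⟩ := QuotientGroup.mk_surjective y
    have hx : x ∈ σ.ker := hy
    rw [Subgroup.mem_center_iff]
    intro t
    obtain ⟨t, rfl⟩ := QuotientGroup.mk_surjective t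
    rw [← QuotientGroup.mk_mul, ← QuotientGroup.mk_mul, hcomm x hx t]
  · intro y hy
    obtain ⟨x, rfl⟩ := QuotientGroup.mk_surjective y
    have hx : x ∈ σ.ker := hy
    have h1 : (QuotientGroup.mk x : Γ ⧸ W) ∈ (commutator Γ).map (QuotientGroup.mk' W) :=
      ⟨x, hK' hx, rfl⟩
    rw [commutator_def, Subgroup.map_commutator] at h1
    rw [commutator_def]
    exact Subgroup.commutator_mono le_top le_top h1
  · intro y
    obtain ⟨y, hy⟩ := y
    obtain ⟨x, rfl⟩ := QuotientGroup.mk_surjective y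
    have hx : x ∈ σ.ker := hy
    refine ⟨a, Subtype.ext ?_⟩
    show (QuotientGroup.mk x : Γ ⧸ W) ^ (r ^ a) = 1
    rw [← QuotientGroup.mk_pow, QuotientGroup.eq_one_iff]
    refine ⟨pow_mem hx _, ?_⟩
    rw [← pow_mul, ← hNe]
    have h2 : (⟨x, hx⟩ : σ.ker) ^ Nat.card σ.ker = 1 := pow_card_eq_one'
    exact congrArg Subtype.val h2
  · have : Fact r.Prime := ⟨hr⟩
    obtain ⟨w, hw⟩ := exists_prime_orderOf_dvd_card' (G := σ.ker) r hd
    have h1 : orderOf (w : Γ) = r := by rw [Subgroup.orderOf_coe, hw]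
    have hnot : (w : Γ) ∉ W := by
      intro h
      have h2 := orderOf_dvd_of_pow_eq_one h.2
      rw [h1] at h2
      exact hm h2
    refine ⟨⟨⟨(QuotientGroup.mk (w : Γ) : Γ ⧸ W), w.2⟩, 1, ?_⟩⟩
    intro e
    have h2 := congrArg Subtype.val e
    exact hnot ((QuotientGroup.eq_one_iff _).mp h2)

end rpart

section rtable

variable {G : Type u} [Group G] [Finite G]

/-- A table over a subgroup of order prime to `r`, whose relator lattice has no `r`-torsion in the
relevant generators, shows that `r` does not divide the kernel of a stem extension. -/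
theorem not_dvd_of_table (D : Dat) (s : ℕ) (hk : D.k = 2 * s) (hn : 0 < D.n) (g : ℕ → G)
    (hgi : ∀ a < s, g (a + s) = (g a)⁻¹) (hgen : closure (g '' {a | a < 2 * s}) = ⊤)
    (pc : List PC) (hpc : pcWF pc = true) (hlet : ∀ p ∈ pc, ∀ a ∈ p.u, a < 2 * s)
    (hpcG : ∀ w ∈ relWords s pc, wval g w = 1)
    (hcard : Nat.card G = D.n * (pc.map PC.o).prod)
    (gw : ℕ → List ℕ) (hgw1 : ∀ a < s, ∀ b ∈ gw a, b < 2 * s) (hgw2 : ∀ a < s, wval g (gw a) = g a)
    (hgw3 : ∀ a < s, balanced s (gw a) = true)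
    (hT : ∀ a < D.k, ∀ i < D.n, D.T a i < D.n)
    (hR : ∀ ρ < D.r, ∀ a ∈ D.R ρ, a < D.k)
    (hp : ∀ j, 0 < j → j < D.n → D.par j < j ∧ D.gn j < D.k ∧ D.T (D.gn j) (D.par j) = j)
    (hrelG : ∀ ρ < D.r, wval g (D.R ρ) = 1)
    (hZ : ∀ ρ < D.r, D.Z ρ = true → ∃ a < s, D.R ρ = [a, a + s] ∨ D.R ρ = [a + s, a] ∨
      D.R ρ = (a + s) :: gw a)
    (hPk : ∀ t < D.m, ((D.P t).1 < D.k ∧ (D.P t).2 < D.n) ∨
      (D.k ≤ (D.P t).1 ∧ (D.P t).1 - D.k < D.r ∧ (D.P t).2 = 0))
    (hPL : ∀ t < D.m, vbeq (D.L (D.P t).1 (D.P t).2) (vunit D.m t) = true)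
    (hvar : ∀ a < D.k, ∀ i < D.n, varOK D a i = true)
    (hrv : ∀ ρ < D.r, relOK D ρ = true)
    (rels : List (ℕ × ℕ)) (hrels : ∀ x ∈ rels, relClosed D x.1 x.2 = true)
    (gvs : List (List ℤ)) (b W : ℕ → List ℤ)
    (hfin : ∀ u < D.m, vbeq (vunit D.m u) (vadd (lin (b u) gvs)
      (lin (W u) (rels.map fun x => relRow D x.1 x.2))) = true)
    (pe : ℕ → List ℕ)
    (hparG : ∀ u < D.m, (D.P u).1 < D.k →
      wval g (parP s (pc.map PC.u) D.T D.par D.gn (D.P u).1 (D.P u).2 (pe u)) = 1)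
    (r : ℕ) (hr : r.Prime) (hrH : ¬ r ∣ (pc.map PC.o).prod)
    (hgv : ∀ v ∈ gvs, ∃ (N : ℕ) (w : List ℤ), ¬ r ∣ N ∧
      vbeq (vscale (N : ℤ) v) (lin w (rels.map fun x => relRow D x.1 x.2)) = true)
    (Γ : Type u) [Group Γ] [Finite Γ] (σ : Γ →* G) (hσ : Cfsg.IsStemExtension σ) :
    ¬ r ∣ Nat.card σ.ker := by
  intro hd
  have hT2 : ∀ a < 2 * s, ∀ i < D.n, D.T a i < D.n := by rw [← hk]; exact hT
  have hPn : ∀ u < D.m, (D.P u).1 < D.k → (D.P u).2 < D.n := by
    intro u hu h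
    rcases hPk u hu with h1 | h1
    · exact h1.2
    · omega
  have ht1 : ∀ j < D.n, ∀ b ∈ tw D.par D.gn (j + 1) j, b < 2 * s := by
    intro j hj b hb
    have := tw_letters D.par D.gn D.n D.k (fun j h0 hj => ⟨(hp j h0 hj).1, (hp j h0 hj).2.1⟩)
      (j + 1) j hj b hb
    omega
  have hus : ∀ u ∈ pc.map PC.u, ∀ a ∈ u, a < 2 * s := by
    intro u hu
    obtain ⟨q, hq, rfl⟩ := List.mem_map.mp hu
    exact hlet q hq
  have hparG' : ∀ u < D.m, (D.P u).1 < D.k →
      sE g (tree g D.par D.gn) D.T (D.P u).1 (D.P u).2 ∈ pcH g ⊥ pc := by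
    intro u hu hu1
    have hu2 : (D.P u).1 < 2 * s := by rw [← hk]; exact hu1
    have h2 := sE_of_parP g s hgi (pc.map PC.u) hus D.T D.par D.gn
      (ht1 _ (hT2 _ hu2 _ (hPn u hu hu1))) (pe u) (hparG u hu hu1)
    rw [h2, mul_one]
    exact nf_mem g ⊥ (pc.map PC.u) (pe u)
  have hcardH : Nat.card (pcH g ⊥ pc) = (pc.map PC.o).prod :=
    card_pcH D s hk g hgi hgen pc hpc hlet hpcG hcard hT hR hn hp hrelG hparG' hvar
  have hcard' : Nat.card G = D.n * Nat.card (pcH g ⊥ pc) := by rw [hcardH]; exact hcard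
  obtain ⟨W', hWn, hWk, hst, hpg, hnt⟩ := exists_r_quotient σ hσ r hr hd
  have : Fact r.Prime := ⟨hr⟩
  set σ' := QuotientGroup.lift W' σ hWk with hσ'
  obtain ⟨k, hk'⟩ := IsPGroup.iff_card.mp hpg
  have hco : Nat.Coprime (Nat.card (pcH g ⊥ pc)) (Nat.card σ'.ker) := by
    rw [hcardH, hk']
    exact Nat.Coprime.pow_right k ((Nat.Prime.coprime_iff_not_dvd hr).mpr hrH).symm
  obtain ⟨f, hf1, hf2⟩ := upper_main σ' hst D s hk g hgi hgen (pcH g ⊥ pc) hco hcard' gw
    hgw1 hgw2 hgw3 hT hR hn hp hrelG hparG' hZ hPk hPL hvar hrv rels hrels gvs b W hfin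
  have hone : ∀ v ∈ gvs, f v = 1 := by
    intro v hv
    obtain ⟨N, w, hN, hw⟩ := hgv v hv
    have h1 := hf2 v (N : ℤ) w hw
    rw [zpow_natCast] at h1
    have h2 : f v ^ (r ^ k) = 1 := by
      rw [← hk']
      exact pow_card_eq_one'
    have h3 := Nat.dvd_gcd (orderOf_dvd_of_pow_eq_one h1) (orderOf_dvd_of_pow_eq_one h2)
    have h4 : Nat.Coprime N (r ^ k) :=
      Nat.Coprime.pow_right k ((Nat.Prime.coprime_iff_not_dvd hr).mpr hN).symm
    rw [h4.gcd_eq_one, Nat.dvd_one, orderOf_eq_one_iff] at h3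
    exact h3
  obtain ⟨x, y, hxy⟩ := hnt
  apply hxy
  have htriv : ∀ z : σ'.ker, z = 1 := by
    intro z
    have h5 : closure (f '' {v | v ∈ gvs}) ≤ ⊥ := by
      rw [closure_le]
      rintro _ ⟨v, hv, rfl⟩
      rw [hone v hv]
      exact one_mem _
    exact Subgroup.mem_bot.mp (h5 (hf1 z))
  rw [htriv x, htriv y]

end rtable

end Cfsg.Agent.Lib.KnownSimple.Lab
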