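import Mathlib
import Cfsg.Agent.Lib.KnownSimple.LabPoly

/-!
# Labelled coset tables over a subgroup which is itself given by a table
-/

set_option autoImplicit false

universe u

namespace Cfsg.Agent.Lib.KnownSimple.Lab

open Subgroup Dat
open scoped commutatorElement

/-- Substitution of words into a word. -/
def subW (hw : ℕ → List ℕ) : List ℕ → List ℕ
  | [] => []
  | b :: w => hw b ++ subW hw w

theorem wval_subW {M : Type*} [Monoid M] (γ : ℕ → M) (hw : ℕ → List ℕ) (w : List ℕ) :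
    wval γ (subW hw w) = wval (fun b => wval γ (hw b)) w := by
  induction w with
  | nil => rfl
  | cons b w ih => simp only [subW, wval_append, wval_cons, ih]

theorem subW_letters {hw : ℕ → List ℕ} {k m : ℕ} (h : ∀ b < k, ∀ a ∈ hw b, a < m) :
    ∀ w : List ℕ, (∀ b ∈ w, b < k) → ∀ a ∈ subW hw w, a < m := by
  intro w
  induction w with
  | nil => simp [subW]
  | cons b w ih =>
    intro hb a ha
    simp only [subW, List.mem_append] at ha
    rcases ha with ha | ha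
    · exact h b (hb b (by simp)) a ha
    · exact ih (fun c hc => hb c (by simp [hc])) a ha

/-- A word for a Schreier element, with a word in the letters of the subgroup. -/
def parH (s : ℕ) (hw : ℕ → List ℕ) (T : ℕ → ℕ → ℕ) (par gn : ℕ → ℕ) (a i : ℕ) (ws : List ℕ) : List ℕ :=
  let j := T a i
  invW s (subW hw ws) ++ invW s (tw par gn (j + 1) j) ++ a :: tw par gn (i + 1) i

theorem sE_of_parH {M : Type*} [Group M] (γ : ℕ → M) (s : ℕ) (hγ : ∀ a < s, γ (a + s) = (γ a)⁻¹)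
    (hw : ℕ → List ℕ) (ws : List ℕ) (hl : ∀ a ∈ subW hw ws, a < 2 * s)
    (T : ℕ → ℕ → ℕ) (par gn : ℕ → ℕ) {a i : ℕ} (hj : ∀ b ∈ tw par gn (T a i + 1) (T a i), b < 2 * s)
    {x : M} (h : wval γ (parH s hw T par gn a i ws) = x) :
    sE γ (tree γ par gn) T a i = wval γ (subW hw ws) * x := by
  simp only [parH, wval_append, wval_cons] at h
  rw [wval_invW γ s hγ _ hl, wval_invW γ s hγ _ hj] at h
  subst h
  simp only [sE, tree]
  group

section count

variable {Y : Type*} [Group Y] [Finite Y]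

/-- The closure of the letters of a table over a chain and a central part is small. -/
theorem tower_count (E : Dat) (s : ℕ) (hE : E.k = 2 * s) (ĥ : ℕ → Y)
    (hĥ : ∀ b < s, ĥ (b + s) = (ĥ b)⁻¹) (Z0 : Subgroup Y)
    (hcomm : ∀ z ∈ Z0, ∀ b < 2 * s, ĥ b * z = z * ĥ b)
    (pc : List PC) (hpc : pcWF pc = true) (hlet : ∀ p ∈ pc, ∀ a ∈ p.u, a < 2 * s)
    (hrelpc : ∀ w ∈ relWords s pc, wval ĥ w ∈ Z0)
    (hT : ∀ a < E.k, ∀ i < E.n, E.T a i < E.n)
    (hR : ∀ ρ < E.r, ∀ a ∈ E.R ρ, a < E.k)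
    (hn : 0 < E.n)
    (hp : ∀ j, 0 < j → j < E.n → E.par j < j ∧ E.gn j < E.k ∧ E.T (E.gn j) (E.par j) = j)
    (hrel : ∀ ρ < E.r, wval ĥ (E.R ρ) ∈ Z0)
    (pe : ℕ → List ℕ)
    (hpar : ∀ u < E.m, (E.P u).1 < E.k →
      wval ĥ (parP s (pc.map PC.u) E.T E.par E.gn (E.P u).1 (E.P u).2 (pe u)) ∈ Z0)
    (hPn : ∀ u < E.m, (E.P u).1 < E.k → (E.P u).2 < E.n)
    (hvar : ∀ a < E.k, ∀ i < E.n, varOK E a i = true) :
    Nat.card (closure ((ĥ '' {b | b < 2 * s}) ∪ (Z0 : Set Y))) ≤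
      E.n * ((pc.map PC.o).prod * Nat.card Z0) := by
  classical
  have hT2 : ∀ a < 2 * s, ∀ i < E.n, E.T a i < E.n := by rw [← hE]; exact hT
  have ht1 : ∀ j < E.n, ∀ b ∈ tw E.par E.gn (j + 1) j, b < 2 * s := by
    intro j hj b hb
    have := tw_letters E.par E.gn E.n E.k (fun j h0 hj => ⟨(hp j h0 hj).1, (hp j h0 hj).2.1⟩)
      (j + 1) j hj b hb
    omega
  have hus : ∀ u ∈ pc.map PC.u, ∀ a ∈ u, a < 2 * s := by
    intro u hu
    obtain ⟨q, hq, rfl⟩ := List.mem_map.mp hu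
    exact hlet q hq
  -- words commute with the central part
  have hwcomm : ∀ w : List ℕ, (∀ a ∈ w, a < 2 * s) → ∀ z ∈ Z0, wval ĥ w * z = z * wval ĥ w := by
    intro w
    induction w with
    | nil => simp
    | cons a w ih =>
      intro hw z hz
      simp only [wval_cons]
      rw [mul_assoc, ih (fun b hb => hw b (by simp [hb])) z hz, ← mul_assoc, hcomm z hz a (hw a (by simp)),
        mul_assoc]
  set Q₁ : Subgroup Y := chainSub Z0 ((pc.map PC.u).map (wval ĥ)) with hQ₁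
  have hZQ : Z0 ≤ Q₁ := le_chainSub _ _
  have hchain := chain_of_pc ĥ s hĥ Z0 pc hpc hlet
    (fun p hp' z hz => by
      rw [hwcomm p.u (hlet p hp') z hz]
      group) hrelpc
  have hbound := card_chain Z0 _ hchain
  have e1 : ((pc.map fun p => (wval ĥ p.u, p.o)).map Prod.fst) = (pc.map PC.u).map (wval ĥ) := by
    simp [List.map_map, Function.comp_def]
  have e2 : ((pc.map fun p => (wval ĥ p.u, p.o)).map Prod.snd) = pc.map PC.o := by
    simp [List.map_map, Function.comp_def]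
  rw [e1, e2] at hbound
  set t : ℕ → Y := tree ĥ E.par E.gn with ht
  have hp' : ∀ j, 0 < j → j < E.n → E.par j < j := fun j h0 hj => (hp j h0 hj).1
  have hRs : ∀ ρ < E.r, ∀ a ∈ E.R ρ, a < 2 * s := by
    rw [← hE]; exact hR
  have htcomm : ∀ j < E.n, ∀ z ∈ Z0, t j * z = z * t j := fun j hj z hz =>
    hwcomm _ (ht1 j hj) z hz
  have hflag := flags ĥ t E Q₁ hT hR
    (fun ρ hρ i hi _ => by
      have h1 := hrel ρ hρ
      have h2 := htcomm i hi _ h1
      have h3 : (t i)⁻¹ * wval ĥ (E.R ρ) * t i = wval ĥ (E.R ρ) := by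
        rw [mul_assoc, ← h2]
        group
      rw [h3]
      exact hZQ h1)
    (fun a ha i hi h => by
      have := tree_edge ĥ E hp' hT ha hi h
      simp only [sE, ht]
      rw [this]
      simp [Q₁.one_mem])
    (fun u hu hu1 => by
      have hu2 : (E.P u).1 < 2 * s := by rw [← hE]; exact hu1
      have h2 := sE_of_parP ĥ s hĥ (pc.map PC.u) hus E.T E.par E.gn
        (ht1 _ (hT2 _ hu2 _ (hPn u hu hu1))) (pe u) rfl
      show sE ĥ (tree ĥ E.par E.gn) E.T (E.P u).1 (E.P u).2 ∈ Q₁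
      rw [h2]
      exact mul_mem (nf_mem ĥ Z0 (pc.map PC.u) (pe u)) (hZQ (hpar u hu hu1)))
    hvar
  -- the union of the cosets
  let S : Set Y := {q | ∃ j < E.n, ∃ x ∈ Q₁, q = t j * x}
  have h1S : (1 : Y) ∈ S := ⟨0, hn, 1, one_mem _, by simp [ht, tree_zero]⟩
  have hstep : ∀ g ∈ ((ĥ '' {b | b < 2 * s}) ∪ (Z0 : Set Y)), ∀ q ∈ S, g * q ∈ S := by
    rintro g hg q ⟨j, hj, x, hx, rfl⟩
    rcases hg with ⟨b, hb, rfl⟩ | hg
    · have hb2 : b < E.k := by rw [hE]; exact hb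
      refine ⟨E.T b j, hT b hb2 j hj, sE ĥ t E.T b j * x, mul_mem (hflag b hb2 j hj) hx, ?_⟩
      simp only [sE]
      group
    · refine ⟨j, hj, g * x, mul_mem (hZQ hg) hx, ?_⟩
      rw [← mul_assoc, ← mul_assoc, htcomm j hj g hg]
  let K : Submonoid Y :=
    { carrier := {x | ∀ q ∈ S, x * q ∈ S}
      one_mem' := by intro q hq; simpa using hq
      mul_mem' := by
        intro x y hx hy q hq
        rw [mul_assoc]
        exact hx _ (hy _ hq) }
  have hinvK : ∀ x ∈ K, x⁻¹ ∈ K := by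
    intro x hx
    have h2 : x⁻¹ = x ^ (orderOf x - 1) := by
      rw [eq_comm, ← mul_one (x ^ _), ← mul_inv_cancel x, ← mul_assoc, ← pow_succ,
        Nat.sub_add_cancel (orderOf_pos x), pow_orderOf_eq_one, one_mul]
    rw [h2]
    exact pow_mem hx _
  have hK : ∀ x ∈ closure ((ĥ '' {b | b < 2 * s}) ∪ (Z0 : Set Y)), x ∈ K := by
    intro x hx
    induction hx using closure_induction with
    | mem x hx => exact fun q hq => hstep x hx q hq
    | one => exact one_mem _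
    | mul x y _ _ h3 h4 => exact mul_mem h3 h4
    | inv x _ h3 => exact hinvK x h3
  have hshape : ∀ q ∈ closure ((ĥ '' {b | b < 2 * s}) ∪ (Z0 : Set Y)), q ∈ S := by
    intro q hq
    have := hK q hq 1 h1S
    rwa [mul_one] at this
  have htC : ∀ j < E.n, t j ∈ closure ((ĥ '' {b | b < 2 * s}) ∪ (Z0 : Set Y)) := by
    intro j hj
    have key : ∀ w : List ℕ, (∀ a ∈ w, a < 2 * s) → wval ĥ w ∈ closure ((ĥ '' {b | b < 2 * s}) ∪ (Z0 : Set Y)) := by
      intro w
      induction w with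
      | nil => intro _; exact one_mem _
      | cons a w ih =>
        intro hw
        exact mul_mem (subset_closure (Or.inl ⟨a, hw a (by simp), rfl⟩))
          (ih (fun b hb => hw b (by simp [hb])))
    exact key _ (ht1 j hj)
  let f : Fin E.n × Q₁ → Set.range (fun x : Fin E.n × Q₁ => t x.1 * (x.2 : Y)) := fun x => ⟨_, x, rfl⟩
  have hcl : ∀ q : closure ((ĥ '' {b | b < 2 * s}) ∪ (Z0 : Set Y)), ∃ x : Fin E.n × Q₁, t x.1 * (x.2 : Y) = q := by
    rintro ⟨q, hq⟩
    obtain ⟨j, hj, x, hx, rfl⟩ := hshape q hq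
    exact ⟨(⟨j, hj⟩, ⟨x, hx⟩), rfl⟩
  choose c hc using hcl
  have hinj : Function.Injective c := by
    intro x y h
    apply Subtype.ext
    rw [← hc x, ← hc y, h]
  have h3 := Nat.card_le_card_of_injective c hinj
  rw [Nat.card_prod, Nat.card_fin] at h3
  exact h3.trans (Nat.mul_le_mul_left _ hbound)

end count

/-! ### A subgroup with trivial multiplier splits in a central extension -/

section split

variable {Γ G : Type u} [Group Γ] [Group G] [Finite Γ]

/-- A complement over a perfect subgroup with trivial multiplier. -/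
theorem split_of_trivial (σ : Γ →* G) (hσ : Cfsg.IsStemExtension σ) (H : Subgroup G)
    (hperf : ∀ x : H, x ∈ commutator H)
    (htriv : ∀ (Γ' : Type u) [Group Γ'] [Finite Γ'] (σ' : Γ' →* H), Cfsg.IsStemExtension σ' →
      Nat.card σ'.ker = 1) :
    ∃ U : Subgroup Γ, (∀ z ∈ σ.ker, z ∈ U → z = 1) ∧ (∀ h ∈ H, ∃ u ∈ U, σ u = h) ∧
      (∀ u ∈ U, σ u ∈ H) := by
  classical
  obtain ⟨hs, hK, hK'⟩ := hσ
  have hc : ∀ z ∈ σ.ker, ∀ y : Γ, y * z = z * y := fun z hz y =>
    Subgroup.mem_center_iff.mp (hK hz) y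
  set Ht : Subgroup Γ := H.comap σ with hHt
  set D : Subgroup Γ := ⁅Ht, Ht⁆ with hD
  have hDH : D ≤ Ht := by
    rw [hD, Subgroup.commutator_le]
    intro x hx y hy
    rw [commutatorElement_def]
    exact mul_mem (mul_mem (mul_mem hx hy) (inv_mem hx)) (inv_mem hy)
  have hmapHt : Ht.map σ = H := Subgroup.map_comap_eq_self_of_surjective hs H
  have hHperf : ⁅H, H⁆ = H := by
    apply le_antisymm
    · rw [Subgroup.commutator_le]
      intro x hx y hy
      rw [commutatorElement_def]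
      exact mul_mem (mul_mem (mul_mem hx hy) (inv_mem hx)) (inv_mem hy)
    intro x hx
    have h1 := hperf ⟨x, hx⟩
    have h2 : ((⟨x, hx⟩ : H) : G) ∈ (commutator H).map H.subtype := ⟨_, h1, rfl⟩
    rw [_root_.commutator_def, Subgroup.map_commutator, ← MonoidHom.range_eq_map, Subgroup.range_subtype] at h2
    exact h2
  have hmapD : D.map σ = H := by
    rw [hD, Subgroup.map_commutator, hmapHt, hHperf]
  have hlift : ∀ h ∈ H, ∃ u ∈ D, σ u = h := by
    intro h hh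
    rw [← hmapD] at hh
    obtain ⟨u, hu, e⟩ := hh
    exact ⟨u, hu, e⟩
  -- `D` is perfect
  have hDD : D ≤ ⁅D, D⁆ := by
    rw [hD, Subgroup.commutator_le]
    intro x hx y hy
    obtain ⟨d, hd, e⟩ := hlift (σ x) hx
    obtain ⟨d', hd', e'⟩ := hlift (σ y) hy
    have hz : d⁻¹ * x ∈ σ.ker := by
      rw [MonoidHom.mem_ker, map_mul, map_inv, e]; group
    have hz' : d'⁻¹ * y ∈ σ.ker := by
      rw [MonoidHom.mem_ker, map_mul, map_inv, e']; group
    obtain ⟨z, hzz, rfl⟩ : ∃ z ∈ σ.ker, x = d * z := ⟨_, hz, by group⟩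
    obtain ⟨z', hzz', rfl⟩ : ∃ z ∈ σ.ker, y = d' * z := ⟨_, hz', by group⟩
    have h5 : ⁅d * z, d' * z'⁆ = ⁅d, d'⁆ := by
      rw [commutatorElement_def, commutatorElement_def]
      have c1 : ∀ u : Γ, u * z = z * u := hc z hzz
      have c2 : ∀ u : Γ, u * z' = z' * u := hc z' hzz'
      have c3 : ∀ u : Γ, u * z⁻¹ = z⁻¹ * u := hc _ (inv_mem hzz)
      have c4 : ∀ u : Γ, u * z'⁻¹ = z'⁻¹ * u := hc _ (inv_mem hzz')
      have e1 : (d * z)⁻¹ = d⁻¹ * z⁻¹ := by
        rw [mul_inv_rev, c3]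
      have e2 : (d' * z')⁻¹ = d'⁻¹ * z'⁻¹ := by
        rw [mul_inv_rev, c4]
      rw [e1, e2]
      calc d * z * (d' * z') * (d⁻¹ * z⁻¹) * (d'⁻¹ * z'⁻¹)
          = d * (z * (d' * z' * d⁻¹)) * z⁻¹ * d'⁻¹ * z'⁻¹ := by group
        _ = d * ((d' * z' * d⁻¹) * z) * z⁻¹ * d'⁻¹ * z'⁻¹ := by rw [← c1 (d' * z' * d⁻¹)]
        _ = d * d' * (z' * d⁻¹) * d'⁻¹ * z'⁻¹ := by group
        _ = d * d' * (d⁻¹ * z') * d'⁻¹ * z'⁻¹ := by rw [← c2 d⁻¹]
        _ = d * d' * d⁻¹ * (z' * d'⁻¹) * z'⁻¹ := by group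
        _ = d * d' * d⁻¹ * (d'⁻¹ * z') * z'⁻¹ := by rw [← c2 d'⁻¹]
        _ = d * d' * d⁻¹ * d'⁻¹ := by group
    rw [h5]
    exact Subgroup.commutator_mem_commutator hd hd'
  -- the restriction
  let f : D →* H := (σ.comp D.subtype).codRestrict H (fun x => hDH x.2)
  have hfs : Function.Surjective f := by
    rintro ⟨h, hh⟩
    obtain ⟨u, hu, e⟩ := hlift h hh
    exact ⟨⟨u, hu⟩, Subtype.ext e⟩
  have hfk : ∀ x : D, x ∈ f.ker ↔ (x : Γ) ∈ σ.ker := by
    intro x
    simp only [MonoidHom.mem_ker]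
    constructor
    · intro h
      exact congrArg Subtype.val h
    · intro h
      exact Subtype.ext h
  have hst : Cfsg.IsStemExtension f := by
    refine ⟨hfs, ?_, ?_⟩
    · intro x hx
      rw [Subgroup.mem_center_iff]
      intro y
      apply Subtype.ext
      exact hc _ ((hfk x).mp hx) _
    · intro x _
      have h1 : (x : Γ) ∈ ⁅D, D⁆ := hDD x.2
      have h2 : (x : Γ) ∈ (commutator D).map D.subtype := by
        rw [_root_.commutator_def, Subgroup.map_commutator, ← MonoidHom.range_eq_map, Subgroup.range_subtype]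
        exact h1
      obtain ⟨y, hy, e⟩ := h2
      have : y = x := Subtype.ext e
      rwa [← this]
  have h1 := htriv D f hst
  refine ⟨D, ?_, hlift, fun u hu => hDH hu⟩
  intro z hz hzD
  have h2 : (⟨⟨z, hzD⟩, (hfk _).mpr hz⟩ : f.ker) = 1 :=
    (Nat.card_eq_one_iff_unique.mp h1).1.elim _ _
  have h3 := congrArg (fun t : f.ker => ((t : D) : Γ)) h2
  exact h3

end split

/-- Perfectness, from balanced words. -/
theorem perfect_of_balanced {X : Type*} [Group X] (s : ℕ) (g : ℕ → X)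
    (hgi : ∀ a < s, g (a + s) = (g a)⁻¹) (hgen : closure (g '' {a | a < 2 * s}) = ⊤)
    (gw : ℕ → List ℕ) (hgw1 : ∀ a < s, ∀ b ∈ gw a, b < 2 * s) (hgw2 : ∀ a < s, wval g (gw a) = g a)
    (hgw3 : ∀ a < s, balanced s (gw a) = true) (x : X) : x ∈ commutator X := by
  have hcomm1 : ∀ a < s, g a ∈ commutator X := by
    intro a ha
    rw [← hgw2 a ha, ← Abelianization.ker_of, MonoidHom.mem_ker, map_wval]
    apply wval_balanced s _ _ _ (hgw1 a ha) (hgw3 a ha)
    intro b hb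
    rw [← map_inv, hgi b hb]
  have hle : closure (g '' {a | a < 2 * s}) ≤ commutator X := by
    rw [closure_le]
    rintro _ ⟨a, ha, rfl⟩
    by_cases h1 : a < s
    · exact hcomm1 a h1
    · have ha' : a < 2 * s := ha
      obtain ⟨c, hc, rfl⟩ : ∃ c, c < s ∧ a = c + s := ⟨a - s, by omega, by omega⟩
      rw [hgi c hc]
      exact inv_mem (hcomm1 c hc)
  rw [hgen] at hle
  exact hle (mem_top x)

/-- The kernel of a stem extension is trivial when no prime divides its order. -/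
theorem card_eq_one_of_primes {n : ℕ} (h : ∀ r : ℕ, r.Prime → ¬ r ∣ n) : n = 1 := by
  by_contra hne
  obtain ⟨r, hr, hd⟩ := Nat.exists_prime_and_dvd hne
  exact h r hr hd

section upperSplit

/-- The upper bound on the kernel of a stem extension coming from a labelled table. -/
theorem upper_split {Γ G : Type*} [Group Γ] [Group G] [Finite Γ] [Finite G] (σ : Γ →* G) (hσ : Cfsg.IsStemExtension σ)
    (D : Dat) (s : ℕ) (hk : D.k = 2 * s) (g : ℕ → G) (hgi : ∀ a < s, g (a + s) = (g a)⁻¹)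
    (hgen : closure (g '' {a | a < 2 * s}) = ⊤)
    (H : Subgroup G) (U : Subgroup Γ) (hU1 : ∀ z ∈ σ.ker, z ∈ U → z = 1) (hU2 : ∀ h ∈ H, ∃ u ∈ U, σ u = h)
    (hU3 : ∀ u ∈ U, σ u ∈ H)
    (hcard : Nat.card G = D.n * Nat.card H)
    (gw : ℕ → List ℕ) (hgw1 : ∀ a < s, ∀ b ∈ gw a, b < 2 * s) (hgw2 : ∀ a < s, wval g (gw a) = g a)
    (hgw3 : ∀ a < s, balanced s (gw a) = true)
    (hT : ∀ a < D.k, ∀ i < D.n, D.T a i < D.n)
    (hR : ∀ ρ < D.r, ∀ a ∈ D.R ρ, a < D.k)
    (hn : 0 < D.n)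
    (hp : ∀ j, 0 < j → j < D.n → D.par j < j ∧ D.gn j < D.k ∧ D.T (D.gn j) (D.par j) = j)
    (hrelG : ∀ ρ < D.r, wval g (D.R ρ) = 1)
    (hparG : ∀ u < D.m, (D.P u).1 < D.k →
      sE g (tree g D.par D.gn) D.T (D.P u).1 (D.P u).2 ∈ H)
    (hZ : ∀ ρ < D.r, D.Z ρ = true → ∃ a < s, D.R ρ = [a, a + s] ∨ D.R ρ = [a + s, a] ∨
      D.R ρ = (a + s) :: gw a)
    (hPk : ∀ t < D.m, ((D.P t).1 < D.k ∧ (D.P t).2 < D.n) ∨
      (D.k ≤ (D.P t).1 ∧ (D.P t).1 - D.k < D.r ∧ (D.P t).2 = 0))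
    (hPL : ∀ t < D.m, vbeq (D.L (D.P t).1 (D.P t).2) (vunit D.m t) = true)
    (hvar : ∀ a < D.k, ∀ i < D.n, varOK D a i = true)
    (hrv : ∀ ρ < D.r, relOK D ρ = true)
    (rels : List (ℕ × ℕ)) (hrels : ∀ x ∈ rels, relClosed D x.1 x.2 = true)
    (gv : List (List ℤ)) (b W : ℕ → List ℤ)
    (hfin : ∀ u < D.m, vbeq (vunit D.m u) (vadd (lin (b u) gv)
      (lin (W u) (rels.map fun x => relRow D x.1 x.2))) = true) :
    ∃ f : List ℤ → σ.ker,
      (∀ x : σ.ker, x ∈ closure (f '' {v | v ∈ gv})) ∧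
      (∀ (v : List ℤ) (N : ℤ) (w : List ℤ),
        vbeq (vscale N v) (lin w (rels.map fun x => relRow D x.1 x.2)) = true → f v ^ N = 1) := by
  classical
  obtain ⟨hs, hK, hK'⟩ := hσ
  let _ : CommGroup σ.ker := kerComm σ hK
  -- the lifts
  choose lift hlift using hs
  let γ1 : ℕ → Γ := fun a => if a < s then lift (g a) else (lift (g (a - s)))⁻¹
  have hγ1 : ∀ a < 2 * s, σ (γ1 a) = g a := by
    intro a ha
    by_cases h1 : a < s
    · simp [γ1, h1, hlift]
    · obtain ⟨c, hc, rfl⟩ : ∃ c, c < s ∧ a = c + s := ⟨a - s, by omega, by omega⟩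
      simp [γ1, hlift, hgi c hc]
  let hg : ℕ → Γ := fun a => if a < s then wval γ1 (gw a) else (wval γ1 (gw (a - s)))⁻¹
  have hsig1 : ∀ a < s, σ (wval γ1 (gw a)) = g a := by
    intro a ha
    rw [map_wval, ← hgw2 a ha]
    exact wval_congr (fun c hc => hγ1 c (hgw1 a ha c hc))
  have hσg : ∀ a < 2 * s, σ (hg a) = g a := by
    intro a ha
    by_cases h1 : a < s
    · simp only [hg, h1, if_true]
      exact hsig1 a h1
    · obtain ⟨c, hc, rfl⟩ : ∃ c, c < s ∧ a = c + s := ⟨a - s, by omega, by omega⟩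
      simp only [hg, show ¬ c + s < s by omega, if_false, Nat.add_sub_cancel, map_inv, hsig1 c hc,
        hgi c hc]
  have hginv : ∀ a < s, hg (a + s) = (hg a)⁻¹ := by
    intro a ha
    simp [hg, ha]
  -- the central differences
  let ζ : ℕ → σ.ker := fun a =>
    if h : a < 2 * s then ⟨(γ1 a)⁻¹ * hg a, by
      rw [MonoidHom.mem_ker, map_mul, map_inv, hγ1 a h, hσg a h]; group⟩ else 1
  have hζ1 : ∀ a < 2 * s, hg a = γ1 a * (ζ a : Γ) := by
    intro a ha
    simp [ζ, ha]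
  have hζ2 : ∀ b < s, ζ (b + s) = (ζ b)⁻¹ := by
    intro b hb
    apply Subtype.ext
    have h1 : b + s < 2 * s := by omega
    have h2 : b < 2 * s := by omega
    have e1 : ((ζ (b + s) : σ.ker) : Γ) = (γ1 (b + s))⁻¹ * hg (b + s) := by simp [ζ, h1]
    have e2 : ((ζ b : σ.ker) : Γ) = (γ1 b)⁻¹ * hg b := by simp [ζ, h2]
    have e3 : γ1 (b + s) = (γ1 b)⁻¹ := by
      simp [γ1, hb]
    have c : ∀ y : Γ, y * (ζ b : Γ) = (ζ b : Γ) * y := Subgroup.mem_center_iff.mp (hK (ζ b).2)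
    rw [e1, e3, hginv b hb, Subgroup.coe_inv, inv_inv]
    have e4 : hg b = γ1 b * (ζ b : Γ) := hζ1 b h2
    rw [e4]
    simp only [mul_inv_rev]
    have c2 : ∀ y : Γ, y * ((ζ b : Γ))⁻¹ = ((ζ b : Γ))⁻¹ * y :=
      Subgroup.mem_center_iff.mp (hK (inv_mem (ζ b).2))
    rw [← c2]
    group
  have hbal : ∀ a < s, wval hg (gw a) = hg a := by
    intro a ha
    have h1 := wval_shift σ hK hg γ1 ζ (gw a) (fun c hc => hζ1 c (hgw1 a ha c hc))
    rw [wval_balanced s ζ hζ2 (gw a) (hgw1 a ha) (hgw3 a ha)] at h1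
    simp only [Subgroup.coe_one, mul_one] at h1
    rw [h1]
    simp [hg, ha]
  -- tree
  have hp' : ∀ j, 0 < j → j < D.n → D.par j < j := fun j h0 hj => (hp j h0 hj).1
  let t : ℕ → Γ := tree hg D.par D.gn
  let tG : ℕ → G := tree g D.par D.gn
  have htσ : ∀ j < D.n, σ (t j) = tG j := by
    intro j hj
    simp only [t, tG, tree]
    rw [map_wval]
    apply wval_congr
    intro c hc
    have := tw_letters D.par D.gn D.n D.k (fun j h0 hj => ⟨(hp j h0 hj).1, (hp j h0 hj).2.1⟩)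
      (j + 1) j hj c hc
    exact hσg c (by omega)
  have ht0 : t 0 = 1 := tree_zero _ _ _
  have htG0 : tG 0 = 1 := tree_zero _ _ _
  -- all Schreier elements of `G` lie in `H`
  have hflag := flags g tG D H hT hR
    (fun ρ hρ i _ _ => by rw [hrelG ρ hρ]; simp [H.one_mem])
    (fun a ha i hi h => by
      have := tree_edge g D hp' hT ha hi h
      simp only [sE, tG]
      rw [this]
      simp [H.one_mem])
    hparG hvar
  -- cosets are distinct
  have hgw_G : ∀ x : G, ∃ w : List ℕ, (∀ a ∈ w, a < 2 * s) ∧ wval g w = x := by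
    intro x
    exact exists_word g s hgi (by rw [hgen]; trivial)
  have hcov : ∀ x : G, ∃ i < D.n, ∃ q ∈ H, x = tG i * q := by
    intro x
    obtain ⟨w, hw, rfl⟩ := hgw_G x
    have hw' : ∀ a ∈ w, a < D.k := by rw [hk]; exact hw
    obtain ⟨h1, q, hq, e⟩ := cover_words g tG D H hT hflag w hw' hn
    refine ⟨_, h1, q, hq, ?_⟩
    rw [← e, htG0, mul_one]
  have hdist : ∀ j < D.n, tG j ∈ H → j = 0 := fun j hj h =>
    eq_zero_of_mem H D.n hcard tG htG0 hcov hj h
  -- the labels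
  have hH' : ∀ a < D.k, ∀ i < D.n, (σ (t (D.T a i)))⁻¹ * σ (hg a) * σ (t i) ∈ H := by
    intro a ha i hi
    rw [htσ _ (hT a ha i hi), htσ i hi, hσg a (by omega)]
    exact hflag a ha i hi
  have hsurj : Function.Surjective σ := fun y => ⟨lift y, hlift y⟩
  obtain ⟨lab, hlab⟩ := exists_lab σ hsurj U H hU2 hg t D.T D.k D.n hH'
  have hlabtree : ∀ a < D.k, ∀ i < D.n, isTree D a i = true → lab a i = 1 := by
    intro a ha i hi h
    obtain ⟨u, hu, e⟩ := hlab a ha i hi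
    have e2 : hg a * t i = t (D.T a i) := (tree_edge hg D hp' hT ha hi h).symm
    have := central_unique σ hK U hU1 (lab a i).2 (one_mem _) (τ := t (D.T a i)) hu U.one_mem
      (by rw [← e, e2]; simp)
    exact Subtype.ext this
  -- relators
  have hmemker : ∀ w : List ℕ, (∀ a ∈ w, a < 2 * s) → wval g w = 1 → wval hg w ∈ σ.ker := by
    intro w hw h
    rw [MonoidHom.mem_ker, map_wval, ← h]
    exact wval_congr (fun c hc => hσg c (hw c hc))
  have hRs : ∀ ρ < D.r, ∀ a ∈ D.R ρ, a < 2 * s := by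
    intro ρ hρ a ha
    rw [← hk]
    exact hR ρ hρ a ha
  let c : ℕ → ℕ → Additive σ.ker := fun a i => Additive.ofMul (lab a i)
  let z : ℕ → Additive σ.ker := fun ρ =>
    if h : ρ < D.r then Additive.ofMul ⟨wval hg (D.R ρ), hmemker _ (hRs ρ h) (hrelG ρ h)⟩ else 0
  have hpath : ∀ w i, pathSum c D.T w i = Additive.ofMul (pp lab D.T w i) := by
    intro w i
    induction w with
    | nil => rfl
    | cons a w ih =>
      simp only [pathSum, pp, ih, c]
      rfl
  have hclosedword : ∀ w : List ℕ, (∀ a ∈ w, a < D.k) → ∀ (hm : wval hg w ∈ σ.ker), ∀ i < D.n,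
      walk D.T w i = i → (⟨wval hg w, hm⟩ : σ.ker) = pp lab D.T w i := by
    intro w hw hm i hi h
    obtain ⟨_, u, hu, e⟩ := word_eq hK U hg t D.T D.k D.n hT lab hlab w hw hi
    rw [h] at e
    apply Subtype.ext
    apply central_unique σ hK U hU1 hm (pp lab D.T w i).2 (τ := t i) U.one_mem hu
    simpa using e
  have hrel' : ∀ ρ < D.r, ∀ i < D.n, walk D.T (D.R ρ) i = i → pathSum c D.T (D.R ρ) i = z ρ := by
    intro ρ hρ i hi h
    rw [hpath]
    simp only [z, hρ, dif_pos]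
    congr 1
    exact (hclosedword _ (hR ρ hρ) _ i hi h).symm
  have htree' : ∀ a < D.k, ∀ i < D.n, isTree D a i = true → c a i = 0 := by
    intro a ha i hi h
    simp only [c, hlabtree a ha i hi h]
    rfl
  have hzero : ∀ ρ < D.r, D.Z ρ = true → z ρ = 0 := by
    intro ρ hρ h
    simp only [z, hρ, dif_pos]
    obtain ⟨a, ha, h1⟩ := hZ ρ hρ h
    have : wval hg (D.R ρ) = 1 := by
      rcases h1 with h1 | h1 | h1
      · rw [h1]; simp [hginv a ha]
      · rw [h1]; simp [hginv a ha]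
      · rw [h1, wval_cons, hbal a ha, hginv a ha]; simp
    have e : (⟨wval hg (D.R ρ), hmemker _ (hRs ρ hρ) (hrelG ρ hρ)⟩ : σ.ker) = 1 := Subtype.ext this
    rw [e]
    rfl
  obtain ⟨hsol1, hsol2⟩ := solve_all D c z hT hR hrel' htree' hzero hPk hPL hvar hrv
  set p : ℕ → Additive σ.ker := fun t => if t < D.m then cz D c z (D.P t).1 (D.P t).2 else 0 with hpdef
  have hp0 : ∀ j, D.m ≤ j → p j = 0 := by
    intro j hj
    simp [hpdef, show ¬ j < D.m by omega]
  have hrows : ∀ r ∈ rels.map (fun x => relRow D x.1 x.2), ev p r = 0 := by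
    intro r hr
    obtain ⟨x, hx, rfl⟩ := List.mem_map.mp hr
    exact ev_relRow D c z p hT hR hrel' hsol1 hsol2 (hrels x hx)
  have hspan := final_span p D.m hp0 _ hrows gv b W hfin
  refine ⟨fun v => Additive.toMul (ev p v), ?_, ?_⟩
  · -- every kernel element is a path sum
    intro x
    have hclo : closure (hg '' {a | a < 2 * s}) = ⊤ := by
      apply closure_lifts_top σ hK hK'
      rw [← hgen]
      congr 1
      ext y
      constructor
      · rintro ⟨_, ⟨a, ha, rfl⟩, rfl⟩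
        exact ⟨a, ha, (hσg a ha).symm⟩
      · rintro ⟨a, ha, rfl⟩
        exact ⟨_, ⟨a, ha, rfl⟩, hσg a ha⟩
    obtain ⟨w, hw, hwx⟩ := exists_word hg s hginv (x := (x : Γ)) (by rw [hclo]; trivial)
    have hw' : ∀ a ∈ w, a < D.k := by rw [hk]; exact hw
    obtain ⟨h1, u, hu, e⟩ := word_eq hK U hg t D.T D.k D.n hT lab hlab w hw' hn
    rw [ht0, mul_one] at e
    -- the walk closes
    have h2 : σ (wval hg w) = 1 := by
      rw [hwx]
      exact x.2
    have h3 := congrArg σ e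
    rw [h2, map_mul, map_mul, MonoidHom.mem_ker.mp (pp lab D.T w 0).2, one_mul,
      htσ _ h1] at h3
    have h4 : tG (walk D.T w 0) ∈ H := by
      have : tG (walk D.T w 0) = (σ u)⁻¹ := (eq_inv_of_mul_eq_one_left h3.symm)
      rw [this]
      exact H.inv_mem (hU3 u hu)
    have h5 := hdist _ h1 h4
    have h6 := hclosedword w hw' (by rw [hwx]; exact x.2) 0 hn h5
    have h7 : x = pp lab D.T w 0 := by
      rw [← h6]
      exact Subtype.ext hwx.symm
    -- all labels lie in the span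
    set S := AddSubgroup.closure ((fun x => ev p x) '' {x | x ∈ gv}) with hS
    have hlabS : ∀ w' : List ℕ, (∀ a ∈ w', a < D.k) → ∀ i < D.n, pathSum c D.T w' i ∈ S := by
      intro w' hw1 i hi
      induction w' with
      | nil => exact S.zero_mem
      | cons a w' ih =>
        have ha := hw1 a (by simp)
        have hih := ih (fun b hb => hw1 b (by simp [hb]))
        obtain ⟨hwalk, _⟩ := word_eq hK U hg t D.T D.k D.n hT lab hlab w'
          (fun b hb => hw1 b (by simp [hb])) hi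
        simp only [pathSum]
        refine S.add_mem ?_ hih
        rw [hsol1 a ha _ hwalk]
        exact hspan _
    have h8 := hlabS w hw' 0 hn
    rw [hpath, ← h7] at h8
    -- transfer to multiplicative closure
    have h9 : ∀ y : Additive σ.ker, y ∈ S →
        Additive.toMul y ∈ closure ((fun v => Additive.toMul (ev p v)) '' {v | v ∈ gv}) := by
      intro y hy
      induction hy using AddSubgroup.closure_induction with
      | mem y hy =>
        obtain ⟨v, hv, rfl⟩ := hy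
        exact subset_closure ⟨v, hv, rfl⟩
      | zero => exact one_mem _
      | add y y' _ _ h1 h2 => exact mul_mem h1 h2
      | neg y _ h1 => exact inv_mem h1
    exact h9 _ h8
  · intro v N w h
    have h1 := congrArg (ev p) (vbeq_eq h)
    rw [ev_vscale, ev_lin p _ _ hrows] at h1
    have h2 : (Additive.toMul (ev p v)) ^ N = Additive.toMul (N • ev p v) := rfl
    rw [h2, h1]
    rfl


end upperSplit

section lowerT

variable {G : Type u} [Group G] [Finite G]

/-- The lower bound, when the subgroup is given by a table over a polycyclic sequence. -/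
theorem lower_T (D : Dat) (s : ℕ) (hk : D.k = 2 * s) (hn : 0 < D.n) (g : ℕ → G)
    (hgi : ∀ a < s, g (a + s) = (g a)⁻¹) (hgen : closure (g '' {a | a < 2 * s}) = ⊤)
    {A : Type} [AddCommGroup A] [Finite A] (ℓ : ℕ → ℕ → A)
    (hT : ∀ a < 2 * s, ∀ i < D.n, D.T a i < D.n)
    (hinv : ∀ a < 2 * s, ∀ i < D.n, D.T (invL s a) (D.T a i) = i ∧
      ℓ (invL s a) (D.T a i) + ℓ a i = 0)
    (hR : ∀ ρ < D.r, ∀ a ∈ D.R ρ, a < D.k)
    (hp : ∀ j, 0 < j → j < D.n → D.par j < j ∧ D.gn j < D.k ∧ D.T (D.gn j) (D.par j) = j)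
    (hw : ℕ → List ℕ) (s' : ℕ) (hwl : ∀ b < 2 * s', ∀ a ∈ hw b, a < 2 * s)
    (hwi : ∀ b < s', hw (b + s') = invW s (hw b))
    (E : Dat) (hE : E.k = 2 * s') (pc : List PC) (hpc : pcWF pc = true)
    (hlet : ∀ p ∈ pc, ∀ a ∈ p.u, a < 2 * s')
    (hET : ∀ a < E.k, ∀ i < E.n, E.T a i < E.n)
    (hER : ∀ ρ < E.r, ∀ a ∈ E.R ρ, a < E.k)
    (hEn : 0 < E.n)
    (hEp : ∀ j, 0 < j → j < E.n → E.par j < j ∧ E.gn j < E.k ∧ E.T (E.gn j) (E.par j) = j)
    (pe : ℕ → List ℕ)
    (hEPn : ∀ u < E.m, (E.P u).1 < E.k → (E.P u).2 < E.n)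
    (hEvar : ∀ a < E.k, ∀ i < E.n, varOK E a i = true)
    (hcardH : Nat.card (closure ((fun b => wval g (hw b)) '' {b | b < 2 * s'})) =
      E.n * (pc.map PC.o).prod)
    (hdist : ∀ j < D.n, tree g D.par D.gn j ∈ closure ((fun b => wval g (hw b)) '' {b | b < 2 * s'}) → j = 0)
    (hrelG : ∀ ρ < D.r, wval g (D.R ρ) = 1)
    (vv : ℕ → A)
    (hRL : ∀ ρ < D.r, ∀ i < D.n, walk D.T (D.R ρ) i = i ∧ pathSum ℓ D.T (D.R ρ) i = vv ρ)
    (hvals : AddSubgroup.closure (vv '' {ρ | ρ < D.r}) = ⊤)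
    (gw : ℕ → List ℕ) (hgw1 : ∀ a < s, ∀ b ∈ gw a, b < 2 * s) (hgw2 : ∀ a < s, wval g (gw a) = g a)
    (hgw3 : ∀ a < s, balanced s (gw a) = true)
    (hgz : ∀ a < s, ∀ i < D.n, walk D.T (gw a) i = D.T a i ∧ pathSum ℓ D.T (gw a) i = ℓ a i)
    (hG1 : ∀ w ∈ relWords s' pc, wval g (subW hw w) = 1)
    (hL1 : ∀ w ∈ relWords s' pc, ∃ c : A, ∀ i < D.n, walk D.T (subW hw w) i = i ∧
      pathSum ℓ D.T (subW hw w) i = c)
    (hG2 : ∀ ρ < E.r, wval g (subW hw (E.R ρ)) = 1)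
    (hL2 : ∀ ρ < E.r, ∃ c : A, ∀ i < D.n, walk D.T (subW hw (E.R ρ)) i = i ∧
      pathSum ℓ D.T (subW hw (E.R ρ)) i = c)
    (hG3 : ∀ u < E.m, (E.P u).1 < E.k →
      wval g (subW hw (parP s' (pc.map PC.u) E.T E.par E.gn (E.P u).1 (E.P u).2 (pe u))) = 1)
    (hL3 : ∀ u < E.m, (E.P u).1 < E.k → ∃ c : A, ∀ i < D.n,
      walk D.T (subW hw (parP s' (pc.map PC.u) E.T E.par E.gn (E.P u).1 (E.P u).2 (pe u))) i = i ∧
      pathSum ℓ D.T (subW hw (parP s' (pc.map PC.u) E.T E.par E.gn (E.P u).1 (E.P u).2 (pe u))) i = c)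
    (qe : ℕ → List ℕ) (pv : ℕ → A)
    (hqe : ∀ u < D.m, (D.P u).1 < D.k → ∀ b ∈ qe u, b < 2 * s')
    (hparG : ∀ u < D.m, (D.P u).1 < D.k →
      wval g (parH s hw D.T D.par D.gn (D.P u).1 (D.P u).2 (qe u)) = 1)
    (hparL : ∀ u < D.m, (D.P u).1 < D.k → ∀ i < D.n,
      walk D.T (parH s hw D.T D.par D.gn (D.P u).1 (D.P u).2 (qe u)) i = i ∧
      pathSum ℓ D.T (parH s hw D.T D.par D.gn (D.P u).1 (D.P u).2 (qe u)) i = pv u)
    (hPn : ∀ u < D.m, (D.P u).1 < D.k → (D.P u).2 < D.n)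
    (hvar : ∀ a < D.k, ∀ i < D.n, varOK D a i = true) :
    ∃ (Γ : Type u) (_ : Group Γ) (_ : Finite Γ) (σ : Γ →* G),
      Cfsg.IsStemExtension σ ∧ Nonempty (σ.ker ≃* Multiplicative A) := by
  classical
  set γ : ℕ → G × Equiv.Perm (Fin D.n × A) := fun a => (g a, monP D s ℓ hT hinv a) with hγdef
  have hγinv : ∀ a < s, γ (a + s) = (γ a)⁻¹ := by
    intro a ha
    exact Prod.ext (hgi a ha) (monP_add hT hinv a ha)
  have hfst : ∀ w : List ℕ, (wval γ w).1 = wval g w := by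
    intro w
    exact map_wval (MonoidHom.fst G (Equiv.Perm (Fin D.n × A))) γ w
  have hsnd : ∀ w : List ℕ, (wval γ w).2 = wval (monP D s ℓ hT hinv) w := by
    intro w
    exact map_wval (MonoidHom.snd G (Equiv.Perm (Fin D.n × A))) γ w
  let C : Multiplicative A →* G × Equiv.Perm (Fin D.n × A) :=
    { toFun := fun c => ((1 : G), scal D.n (Multiplicative.toAdd c))
      map_one' := by
        refine Prod.ext rfl ?_
        simp only [toAdd_one, scal_zero]
        rfl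
      map_mul' := by
        intro c c'
        refine Prod.ext (by simp) ?_
        simp only [toAdd_mul, scal_add, Prod.snd_mul] }
  have hCdef : ∀ c : A, C (Multiplicative.ofAdd c) = ((1 : G), scal D.n c) := fun c => rfl
  have hword : ∀ w : List ℕ, (∀ a ∈ w, a < 2 * s) → wval g w = 1 → ∀ c : A,
      (∀ i < D.n, walk D.T w i = i ∧ pathSum ℓ D.T w i = c) → wval γ w = C (Multiplicative.ofAdd c) := by
    intro w hw h1 c h2
    refine Prod.ext (by rw [hfst, h1]; rfl) ?_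
    rw [hsnd]
    exact wval_monP_eq_scal hT hinv w hw c h2
  have hCcomm : ∀ w : List ℕ, (∀ a ∈ w, a < 2 * s) → ∀ c : A,
      wval γ w * C (Multiplicative.ofAdd c) = C (Multiplicative.ofAdd c) * wval γ w := by
    intro w hw c
    refine Prod.ext (by simp [hCdef]) ?_
    simp only [Prod.snd_mul, hCdef, hsnd]
    induction w with
    | nil => simp
    | cons a w ih =>
      simp only [wval_cons]
      rw [mul_assoc, ih (fun b hb => hw b (by simp [hb])), ← mul_assoc, ← scal_comm hT hinv a c, mul_assoc]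
  set Z0 : Subgroup (G × Equiv.Perm (Fin D.n × A)) := C.range with hZ0
  set ĥ : ℕ → G × Equiv.Perm (Fin D.n × A) := fun b => wval γ (hw b) with hĥdef
  have hĥinv : ∀ b < s', ĥ (b + s') = (ĥ b)⁻¹ := by
    intro b hb
    simp only [hĥdef]
    rw [hwi b hb]
    exact wval_invW γ s hγinv _ (hwl b (by omega))
  have hcomm : ∀ z ∈ Z0, ∀ b < 2 * s', ĥ b * z = z * ĥ b := by
    rintro _ ⟨c, rfl⟩ b hb
    have := hCcomm (hw b) (hwl b hb) (Multiplicative.toAdd c)
    rw [ofAdd_toAdd] at this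
    exact this
  have hsub : ∀ w : List ℕ, (∀ b ∈ w, b < 2 * s') → ∀ a ∈ subW hw w, a < 2 * s :=
    subW_letters hwl
  have hZ : ∀ w : List ℕ, (∀ b ∈ w, b < 2 * s') → wval g (subW hw w) = 1 →
      (∃ c : A, ∀ i < D.n, walk D.T (subW hw w) i = i ∧ pathSum ℓ D.T (subW hw w) i = c) →
      wval ĥ w ∈ Z0 := by
    intro w hl h1 ⟨c, hc⟩
    simp only [hĥdef]
    rw [← wval_subW, hword _ (hsub w hl) h1 c hc]
    exact ⟨_, rfl⟩
  have ht1 : ∀ j < E.n, ∀ b ∈ tw E.par E.gn (j + 1) j, b < 2 * s' := by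
    intro j hj b hb
    have := tw_letters E.par E.gn E.n E.k (fun j h0 hj => ⟨(hEp j h0 hj).1, (hEp j h0 hj).2.1⟩)
      (j + 1) j hj b hb
    omega
  have hus' : ∀ u ∈ pc.map PC.u, ∀ a ∈ u, a < 2 * s' := by
    intro u hu
    obtain ⟨q, hq, rfl⟩ := List.mem_map.mp hu
    exact hlet q hq
  have hbound := tower_count E s' hE ĥ hĥinv Z0 hcomm pc hpc hlet
    (fun w hw' => hZ w (relWords_letters s' pc hlet w hw') (hG1 w hw') (hL1 w hw'))
    hET hER hEn hEp
    (fun ρ hρ => hZ _ (by rw [← hE]; exact hER ρ hρ) (hG2 ρ hρ) (hL2 ρ hρ))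
    pe
    (fun u hu hu1 => hZ _ (by
      have hu2 : (E.P u).1 < 2 * s' := by rw [← hE]; exact hu1
      intro a ha
      simp only [parP, List.mem_append, List.mem_cons] at ha
      rcases ha with (ha | ha) | ha | ha
      · exact invW_letters s' _ (nf_letters _ _ hus') a ha
      · have hT2 : (E.T (E.P u).1 (E.P u).2) < E.n := hET _ hu1 _ (hEPn u hu hu1)
        exact invW_letters s' _ (ht1 _ hT2) a ha
      · rw [ha]; exact hu2
      · exact ht1 _ (hEPn u hu hu1) a ha) (hG3 u hu hu1) (hL3 u hu hu1))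
    hEPn hEvar
  set Q : Subgroup (G × Equiv.Perm (Fin D.n × A)) := closure ((ĥ '' {b | b < 2 * s'}) ∪ (Z0 : Set _)) with hQ
  have hZQ : Z0 ≤ Q := fun z hz => subset_closure (Or.inr hz)
  set H : Subgroup G := closure ((fun b => wval g (hw b)) '' {b | b < 2 * s'}) with hH
  let fst' : G × Equiv.Perm (Fin D.n × A) →* G := MonoidHom.fst G _
  have hmapQ : Q.map fst' = H := by
    apply le_antisymm
    · rw [hQ, MonoidHom.map_closure, closure_le]
      rintro _ ⟨x, hx, rfl⟩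
      rcases hx with ⟨b, hb, rfl⟩ | ⟨c, rfl⟩
      · exact subset_closure ⟨b, hb, (hfst _).symm⟩
      · exact one_mem _
    · rw [hH, closure_le]
      rintro _ ⟨b, hb, rfl⟩
      exact ⟨ĥ b, subset_closure (Or.inl ⟨b, hb, rfl⟩), hfst _⟩
  let f : Q →* G := fst'.comp Q.subtype
  have hrange : f.range = H := by
    rw [← hmapQ, MonoidHom.range_comp, Subgroup.range_subtype]
  have hcount : Nat.card f.ker * (E.n * (pc.map PC.o).prod) = Nat.card Q := by
    have h1 := Subgroup.card_mul_index f.ker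
    rw [Subgroup.index_ker, hrange, hcardH] at h1
    exact h1
  have hpos : 0 < E.n * (pc.map PC.o).prod := by
    rw [← hcardH]
    exact Nat.card_pos
  have hker_le : Nat.card f.ker ≤ Nat.card Z0 := by
    have h1 : Nat.card f.ker * (E.n * (pc.map PC.o).prod) ≤
        (E.n * (pc.map PC.o).prod) * Nat.card Z0 := by
      rw [hcount, mul_assoc]
      exact hbound
    rw [mul_comm] at h1
    exact Nat.le_of_mul_le_mul_left h1 hpos
  have hZker : ∀ z : Z0, (⟨z.1, hZQ z.2⟩ : Q) ∈ f.ker := by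
    rintro ⟨_, ⟨c, rfl⟩⟩
    rfl
  let inc : Z0 → f.ker := fun z => ⟨⟨z.1, hZQ z.2⟩, hZker z⟩
  have hinc : Function.Injective inc := by
    intro x y h
    have := congrArg (fun t : f.ker => ((t : Q) : G × Equiv.Perm (Fin D.n × A))) h
    exact Subtype.ext this
  have hbij := hinc.bijective_of_nat_card_le hker_le
  have hQ1 : ∀ q ∈ Q, q.1 = 1 → ∃ c : A, q.2 = scal D.n c := by
    intro q hq h1
    obtain ⟨⟨z, hz⟩, e⟩ := hbij.2 ⟨⟨q, hq⟩, h1⟩
    obtain ⟨c, rfl⟩ := hz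
    refine ⟨Multiplicative.toAdd c, ?_⟩
    have h2 := congrArg (fun t : f.ker => ((t : Q) : G × Equiv.Perm (Fin D.n × A))) e
    exact (congrArg Prod.snd h2).symm
  have hQH : ∀ q ∈ Q, q.1 ∈ H := by
    intro q hq
    rw [← hmapQ]
    exact ⟨q, hq, rfl⟩
  have hQw : ∀ w : List ℕ, (∀ b ∈ w, b < 2 * s') → wval ĥ w ∈ Q := by
    intro w
    induction w with
    | nil => intro _; exact one_mem _
    | cons b w ih =>
      intro hb
      exact mul_mem (subset_closure (Or.inl ⟨b, hb b (by simp), rfl⟩))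
        (ih (fun c hc => hb c (by simp [hc])))
  refine lower_main D s hk hn g hgi hgen ℓ hT hinv hR hp H
    hdist hrelG vv hRL hvals gw hgw1 hgw2 hgw3 hgz Q (fun c => hZQ ⟨Multiplicative.ofAdd c, rfl⟩)
    hQ1 hQH ?_ hvar
  intro u hu hu1
  have hi := hPn u hu hu1
  have ht2 : ∀ j < D.n, ∀ b ∈ tw D.par D.gn (j + 1) j, b < 2 * s := by
    intro j hj b hb
    have := tw_letters D.par D.gn D.n D.k (fun j h0 hj => ⟨(hp j h0 hj).1, (hp j h0 hj).2.1⟩)
      (j + 1) j hj b hb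
    omega
  have hu2 : (D.P u).1 < 2 * s := by rw [← hk]; exact hu1
  have hT2 := hT _ hu2 _ hi
  have hl2 := hsub (qe u) (hqe u hu hu1)
  have hlet2 : ∀ a ∈ parH s hw D.T D.par D.gn (D.P u).1 (D.P u).2 (qe u), a < 2 * s := by
    intro a ha
    simp only [parH, List.mem_append, List.mem_cons] at ha
    rcases ha with (ha | ha) | ha | ha
    · exact invW_letters s _ hl2 a ha
    · exact invW_letters s _ (ht2 _ hT2) a ha
    · rw [ha]; exact hu2
    · exact ht2 _ hi a ha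
  have h1 := hword _ hlet2 (hparG u hu hu1) (pv u) (hparL u hu hu1)
  have h2 := sE_of_parH γ s hγinv hw (qe u) hl2 D.T D.par D.gn (ht2 _ hT2) h1
  rw [h2, wval_subW]
  exact mul_mem (hQw _ (hqe u hu hu1)) (hZQ ⟨_, rfl⟩)

/-- The multiplier from a labelled table over a subgroup with trivial multiplier. -/
theorem final_T (D : Dat) (s : ℕ) (hk : D.k = 2 * s) (hn : 0 < D.n) (g : ℕ → G)
    (hgi : ∀ a < s, g (a + s) = (g a)⁻¹) (hgen : closure (g '' {a | a < 2 * s}) = ⊤)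
    (hw : ℕ → List ℕ) (s' : ℕ) (hwl : ∀ b < 2 * s', ∀ a ∈ hw b, a < 2 * s)
    (hwi : ∀ b < s', hw (b + s') = invW s (hw b))
    (E : Dat) (hE : E.k = 2 * s') (pc : List PC) (hpc : pcWF pc = true)
    (hlet : ∀ p ∈ pc, ∀ a ∈ p.u, a < 2 * s')
    (hET : ∀ a < E.k, ∀ i < E.n, E.T a i < E.n)
    (hER : ∀ ρ < E.r, ∀ a ∈ E.R ρ, a < E.k)
    (hEn : 0 < E.n)
    (hEp : ∀ j, 0 < j → j < E.n → E.par j < j ∧ E.gn j < E.k ∧ E.T (E.gn j) (E.par j) = j)
    (pe : ℕ → List ℕ)
    (hEPn : ∀ u < E.m, (E.P u).1 < E.k → (E.P u).2 < E.n)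
    (hEvar : ∀ a < E.k, ∀ i < E.n, varOK E a i = true)
    (hcard : Nat.card G = D.n * (E.n * (pc.map PC.o).prod))
    (hG1 : ∀ w ∈ relWords s' pc, wval g (subW hw w) = 1)
    (hG2 : ∀ ρ < E.r, wval g (subW hw (E.R ρ)) = 1)
    (hG3 : ∀ u < E.m, (E.P u).1 < E.k →
      wval g (subW hw (parP s' (pc.map PC.u) E.T E.par E.gn (E.P u).1 (E.P u).2 (pe u))) = 1)
    (gw : ℕ → List ℕ) (hgw1 : ∀ a < s, ∀ b ∈ gw a, b < 2 * s) (hgw2 : ∀ a < s, wval g (gw a) = g a)
    (hgw3 : ∀ a < s, balanced s (gw a) = true)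
    (hT : ∀ a < D.k, ∀ i < D.n, D.T a i < D.n)
    (hR : ∀ ρ < D.r, ∀ a ∈ D.R ρ, a < D.k)
    (hp : ∀ j, 0 < j → j < D.n → D.par j < j ∧ D.gn j < D.k ∧ D.T (D.gn j) (D.par j) = j)
    (hrelG : ∀ ρ < D.r, wval g (D.R ρ) = 1)
    (hZ : ∀ ρ < D.r, D.Z ρ = true → ∃ a < s, D.R ρ = [a, a + s] ∨ D.R ρ = [a + s, a] ∨
      D.R ρ = (a + s) :: gw a)
    (hPk : ∀ t < D.m, ((D.P t).1 < D.k ∧ (D.P t).2 < D.n) ∨
      (D.k ≤ (D.P t).1 ∧ (D.P t).1 - D.k < D.r ∧ (D.P t).2 = 0))
    (hPL : ∀ t < D.m, vbeq (D.L (D.P t).1 (D.P t).2) (vunit D.m t) = true)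
    (hvar : ∀ a < D.k, ∀ i < D.n, varOK D a i = true)
    (hrv : ∀ ρ < D.r, relOK D ρ = true)
    (rels : List (ℕ × ℕ)) (hrels : ∀ x ∈ rels, relClosed D x.1 x.2 = true)
    (gvs : List (List ℤ)) (b W : ℕ → List ℤ)
    (hfin : ∀ u < D.m, vbeq (vunit D.m u) (vadd (lin (b u) gvs)
      (lin (W u) (rels.map fun x => relRow D x.1 x.2))) = true)
    (hperf : ∀ x : closure ((fun b => wval g (hw b)) '' {b | b < 2 * s'}),
      x ∈ commutator (closure ((fun b => wval g (hw b)) '' {b | b < 2 * s'})))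
    (htriv : ∀ (Γ' : Type u) [Group Γ'] [Finite Γ']
      (σ' : Γ' →* closure ((fun b => wval g (hw b)) '' {b | b < 2 * s'})), Cfsg.IsStemExtension σ' →
      Nat.card σ'.ker = 1)
    {A : Type} [AddCommGroup A] [Finite A]
    (hSurj : ∀ (Γ : Type u) [Group Γ] [Finite Γ] (σ : Γ →* G), Cfsg.IsStemExtension σ →
      ∀ f : List ℤ → σ.ker, (∀ x : σ.ker, x ∈ closure (f '' {v | v ∈ gvs})) →
      (∀ (v : List ℤ) (N : ℤ) (w : List ℤ),
        vbeq (vscale N v) (lin w (rels.map fun x => relRow D x.1 x.2)) = true → f v ^ N = 1) →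
      ∃ π : Multiplicative A →* σ.ker, Function.Surjective π)
    (ℓ : ℕ → ℕ → A)
    (hinv : ∀ a < 2 * s, ∀ i < D.n, D.T (invL s a) (D.T a i) = i ∧
      ℓ (invL s a) (D.T a i) + ℓ a i = 0)
    (vv : ℕ → A)
    (hRL : ∀ ρ < D.r, ∀ i < D.n, walk D.T (D.R ρ) i = i ∧ pathSum ℓ D.T (D.R ρ) i = vv ρ)
    (hvals : AddSubgroup.closure (vv '' {ρ | ρ < D.r}) = ⊤)
    (hgz : ∀ a < s, ∀ i < D.n, walk D.T (gw a) i = D.T a i ∧ pathSum ℓ D.T (gw a) i = ℓ a i)
    (hL1 : ∀ w ∈ relWords s' pc, ∃ c : A, ∀ i < D.n, walk D.T (subW hw w) i = i ∧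
      pathSum ℓ D.T (subW hw w) i = c)
    (hL2 : ∀ ρ < E.r, ∃ c : A, ∀ i < D.n, walk D.T (subW hw (E.R ρ)) i = i ∧
      pathSum ℓ D.T (subW hw (E.R ρ)) i = c)
    (hL3 : ∀ u < E.m, (E.P u).1 < E.k → ∃ c : A, ∀ i < D.n,
      walk D.T (subW hw (parP s' (pc.map PC.u) E.T E.par E.gn (E.P u).1 (E.P u).2 (pe u))) i = i ∧
      pathSum ℓ D.T (subW hw (parP s' (pc.map PC.u) E.T E.par E.gn (E.P u).1 (E.P u).2 (pe u))) i = c)
    (qe : ℕ → List ℕ) (pv : ℕ → A)
    (hqe : ∀ u < D.m, (D.P u).1 < D.k → ∀ b ∈ qe u, b < 2 * s')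
    (hparG : ∀ u < D.m, (D.P u).1 < D.k →
      wval g (parH s hw D.T D.par D.gn (D.P u).1 (D.P u).2 (qe u)) = 1)
    (hparL : ∀ u < D.m, (D.P u).1 < D.k → ∀ i < D.n,
      walk D.T (parH s hw D.T D.par D.gn (D.P u).1 (D.P u).2 (qe u)) i = i ∧
      pathSum ℓ D.T (parH s hw D.T D.par D.gn (D.P u).1 (D.P u).2 (qe u)) i = pv u) :
    Cfsg.HasSchurMultiplier G (Multiplicative A) := by
  have hT2 : ∀ a < 2 * s, ∀ i < D.n, D.T a i < D.n := by rw [← hk]; exact hT
  have hPn : ∀ u < D.m, (D.P u).1 < D.k → (D.P u).2 < D.n := by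
    intro u hu h
    rcases hPk u hu with h1 | h1
    · exact h1.2
    · omega
  have ht1 : ∀ j < D.n, ∀ b ∈ tw D.par D.gn (j + 1) j, b < 2 * s := by
    intro j hj b hb
    have := tw_letters D.par D.gn D.n D.k (fun j h0 hj => ⟨(hp j h0 hj).1, (hp j h0 hj).2.1⟩)
      (j + 1) j hj b hb
    omega
  set h : ℕ → G := fun b => wval g (hw b) with hh
  set H : Subgroup G := closure (h '' {b | b < 2 * s'}) with hH
  have hwH : ∀ w : List ℕ, (∀ b ∈ w, b < 2 * s') → wval h w ∈ H := by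
    intro w
    induction w with
    | nil => intro _; exact one_mem _
    | cons b w ih =>
      intro hb
      exact mul_mem (subset_closure ⟨b, hb b (by simp), rfl⟩) (ih (fun c hc => hb c (by simp [hc])))
  have hparG' : ∀ u < D.m, (D.P u).1 < D.k →
      sE g (tree g D.par D.gn) D.T (D.P u).1 (D.P u).2 ∈ H := by
    intro u hu hu1
    have hu2 : (D.P u).1 < 2 * s := by rw [← hk]; exact hu1
    have h2 := sE_of_parH g s hgi hw (qe u) (subW_letters hwl _ (hqe u hu hu1)) D.T D.par D.gn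
      (ht1 _ (hT2 _ hu2 _ (hPn u hu hu1))) (hparG u hu hu1)
    rw [h2, mul_one, wval_subW]
    exact hwH _ (hqe u hu hu1)
  have hle1 : Nat.card G ≤ D.n * Nat.card H :=
    card_le_of_flags D s hk g hgi hgen H hT hR hn hp hrelG hparG' hvar
  have hus' : ∀ u ∈ pc.map PC.u, ∀ a ∈ u, a < 2 * s' := by
    intro u hu
    obtain ⟨q, hq, rfl⟩ := List.mem_map.mp hu
    exact hlet q hq
  have hle2 : Nat.card H ≤ E.n * (pc.map PC.o).prod := by
    have hi : ∀ b < s', h (b + s') = (h b)⁻¹ := by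
      intro b hb
      simp only [hh]
      rw [hwi b hb]
      exact wval_invW g s hgi _ (hwl b (by omega))
    have h1 := tower_count E s' hE h hi (⊥ : Subgroup G)
      (fun z hz b _ => by rw [Subgroup.mem_bot.mp hz]; simp) pc hpc hlet
      (fun w hw' => Subgroup.mem_bot.mpr (by
        simp only [hh]
        rw [← wval_subW]
        exact hG1 w hw'))
      hET hER hEn hEp
      (fun ρ hρ => Subgroup.mem_bot.mpr (by
        simp only [hh]
        rw [← wval_subW]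
        exact hG2 ρ hρ))
      pe
      (fun u hu hu1 => Subgroup.mem_bot.mpr (by
        simp only [hh]
        rw [← wval_subW]
        exact hG3 u hu hu1))
      hEPn hEvar
    have e : closure ((h '' {b | b < 2 * s'}) ∪ ((⊥ : Subgroup G) : Set G)) = H := by
      apply le_antisymm
      · rw [closure_le]
        rintro x (hx | hx)
        · exact subset_closure hx
        · rw [Subgroup.mem_bot.mp hx]
          exact one_mem _
      · exact closure_mono Set.subset_union_left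
    rw [e] at h1
    simpa using h1
  have hn' : 0 < D.n := hn
  have hcardH : Nat.card H = E.n * (pc.map PC.o).prod := by
    apply le_antisymm hle2
    rw [hcard] at hle1
    exact Nat.le_of_mul_le_mul_left hle1 hn'
  have hcard' : Nat.card G = D.n * Nat.card H := by rw [hcardH]; exact hcard
  have hdist := dist_of_flags D s hk g hgi hgen H hcard' hT hR hn hp hrelG hparG' hvar
  refine ⟨?_, ?_⟩
  · exact lower_T D s hk hn g hgi hgen ℓ hT2 hinv hR hp hw s' hwl hwi E hE pc hpc hlet hET hER hEn hEp pe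
      hEPn hEvar hcardH hdist hrelG vv hRL hvals gw hgw1 hgw2 hgw3 hgz hG1 hL1 hG2 hL2 hG3 hL3 qe pv hqe
      hparG hparL hPn hvar
  · intro Γ _ _ σ hσ
    obtain ⟨U, hU1, hU2, hU3⟩ := split_of_trivial σ hσ H hperf htriv
    obtain ⟨f, hf1, hf2⟩ := upper_split σ hσ D s hk g hgi hgen H U hU1 hU2 hU3 hcard' gw
      hgw1 hgw2 hgw3 hT hR hn hp hrelG hparG' hZ hPk hPL hvar hrv rels hrels gvs b W hfin
    exact hSurj Γ σ hσ f hf1 hf2

end lowerT

section subletters

variable {G : Type*} [Group G]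

/-- The letters of a subgroup given by letters. -/
noncomputable def subLetters (h : ℕ → G) (k : ℕ) (b : ℕ) : closure (h '' {b | b < k}) :=
  if hb : b < k then ⟨h b, Subgroup.subset_closure ⟨b, hb, rfl⟩⟩ else 1

theorem subLetters_val (h : ℕ → G) (k : ℕ) : ∀ (w : List ℕ), (∀ b ∈ w, b < k) →
    ((wval (subLetters h k) w : closure (h '' {b | b < k})) : G) = wval h w := by
  intro w
  induction w with
  | nil => intro _; rfl
  | cons b w ih =>
    intro hb
    simp only [wval_cons, Subgroup.coe_mul]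
    rw [ih (fun c hc => hb c (by simp [hc]))]
    simp [subLetters, hb b (by simp)]

theorem subLetters_closure (h : ℕ → G) (k : ℕ) :
    closure (subLetters h k '' {b | b < k}) = ⊤ := by
  rw [eq_top_iff, ← closure_closure_coe_preimage]
  apply Subgroup.closure_mono
  rintro ⟨x, hx⟩ hx'
  obtain ⟨b, hb, hbx⟩ := hx'
  refine ⟨b, hb, ?_⟩
  apply Subtype.ext
  have hb' : b < k := hb
  simp only [subLetters]
  rw [dif_pos hb']
  exact hbx

theorem subLetters_inv (h : ℕ → G) (s : ℕ) (hi : ∀ b < s, h (b + s) = (h b)⁻¹) :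
    ∀ b < s, subLetters h (2 * s) (b + s) = (subLetters h (2 * s) b)⁻¹ := by
  intro b hb
  apply Subtype.ext
  simp only [subLetters, Subgroup.coe_inv]
  rw [dif_pos (by omega), dif_pos (by omega)]
  exact hi b hb

end subletters

/-- A prime outside a finite set does not divide a product of primes in the set. -/
theorem not_dvd_prod {r : ℕ} (hr : r.Prime) (excl : List ℕ) (hexcl : ∀ p ∈ excl, p.Prime)
    (hne : ∀ p ∈ excl, r ≠ p) (L : List ℕ) (hsub : ∀ p ∈ L, p ∈ excl) : ¬ r ∣ L.prod := by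
  induction L with
  | nil =>
    simpa using hr.one_lt.ne'
  | cons p L ih =>
    rw [List.prod_cons, hr.dvd_mul]
    rintro (h | h)
    · have hp := hsub p (by simp)
      exact hne p hp ((Nat.prime_dvd_prime_iff_eq hr (hexcl p hp)).mp h)
    · exact ih (fun q hq => hsub q (by simp [hq])) h

section cardT

variable {G : Type u} [Group G] [Finite G]

/-- The order of the subgroup of a tower. -/
theorem card_T (D : Dat) (s : ℕ) (hk : D.k = 2 * s) (hn : 0 < D.n) (g : ℕ → G)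
    (hgi : ∀ a < s, g (a + s) = (g a)⁻¹) (hgen : closure (g '' {a | a < 2 * s}) = ⊤)
    (hw : ℕ → List ℕ) (s' : ℕ) (hwl : ∀ b < 2 * s', ∀ a ∈ hw b, a < 2 * s)
    (hwi : ∀ b < s', hw (b + s') = invW s (hw b))
    (E : Dat) (hE : E.k = 2 * s') (pc : List PC) (hpc : pcWF pc = true)
    (hlet : ∀ p ∈ pc, ∀ a ∈ p.u, a < 2 * s')
    (hET : ∀ a < E.k, ∀ i < E.n, E.T a i < E.n)
    (hER : ∀ ρ < E.r, ∀ a ∈ E.R ρ, a < E.k)
    (hEn : 0 < E.n)
    (hEp : ∀ j, 0 < j → j < E.n → E.par j < j ∧ E.gn j < E.k ∧ E.T (E.gn j) (E.par j) = j)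
    (pe : ℕ → List ℕ)
    (hEPn : ∀ u < E.m, (E.P u).1 < E.k → (E.P u).2 < E.n)
    (hEvar : ∀ a < E.k, ∀ i < E.n, varOK E a i = true)
    (hcard : Nat.card G = D.n * (E.n * (pc.map PC.o).prod))
    (hG1 : ∀ w ∈ relWords s' pc, wval g (subW hw w) = 1)
    (hG2 : ∀ ρ < E.r, wval g (subW hw (E.R ρ)) = 1)
    (hG3 : ∀ u < E.m, (E.P u).1 < E.k →
      wval g (subW hw (parP s' (pc.map PC.u) E.T E.par E.gn (E.P u).1 (E.P u).2 (pe u))) = 1)
    (hT : ∀ a < D.k, ∀ i < D.n, D.T a i < D.n)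
    (hR : ∀ ρ < D.r, ∀ a ∈ D.R ρ, a < D.k)
    (hp : ∀ j, 0 < j → j < D.n → D.par j < j ∧ D.gn j < D.k ∧ D.T (D.gn j) (D.par j) = j)
    (hrelG : ∀ ρ < D.r, wval g (D.R ρ) = 1)
    (hPk : ∀ t < D.m, ((D.P t).1 < D.k ∧ (D.P t).2 < D.n) ∨
      (D.k ≤ (D.P t).1 ∧ (D.P t).1 - D.k < D.r ∧ (D.P t).2 = 0))
    (hvar : ∀ a < D.k, ∀ i < D.n, varOK D a i = true)
    (qe : ℕ → List ℕ)
    (hqe : ∀ u < D.m, (D.P u).1 < D.k → ∀ b ∈ qe u, b < 2 * s')
    (hparG : ∀ u < D.m, (D.P u).1 < D.k →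
      wval g (parH s hw D.T D.par D.gn (D.P u).1 (D.P u).2 (qe u)) = 1) :
    Nat.card (closure ((fun b => wval g (hw b)) '' {b | b < 2 * s'})) = E.n * (pc.map PC.o).prod := by
  have hT2 : ∀ a < 2 * s, ∀ i < D.n, D.T a i < D.n := by rw [← hk]; exact hT
  have hPn : ∀ u < D.m, (D.P u).1 < D.k → (D.P u).2 < D.n := by
    intro u hu h
    rcases hPk u hu with h1 | h1
    · exact h1.2
    · omega
  have ht1 : ∀ j < D.n, ∀ b ∈ tw D.par D.gn (j + 1) j, b < 2 * s := by
    intro j hj b hb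
    have := tw_letters D.par D.gn D.n D.k (fun j h0 hj => ⟨(hp j h0 hj).1, (hp j h0 hj).2.1⟩)
      (j + 1) j hj b hb
    omega
  set h : ℕ → G := fun b => wval g (hw b) with hh
  set H : Subgroup G := closure (h '' {b | b < 2 * s'}) with hH
  have hwH : ∀ w : List ℕ, (∀ b ∈ w, b < 2 * s') → wval h w ∈ H := by
    intro w
    induction w with
    | nil => intro _; exact one_mem _
    | cons b w ih =>
      intro hb
      exact mul_mem (subset_closure ⟨b, hb b (by simp), rfl⟩) (ih (fun c hc => hb c (by simp [hc])))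
  have hparG' : ∀ u < D.m, (D.P u).1 < D.k →
      sE g (tree g D.par D.gn) D.T (D.P u).1 (D.P u).2 ∈ H := by
    intro u hu hu1
    have hu2 : (D.P u).1 < 2 * s := by rw [← hk]; exact hu1
    have h2 := sE_of_parH g s hgi hw (qe u) (subW_letters hwl _ (hqe u hu hu1)) D.T D.par D.gn
      (ht1 _ (hT2 _ hu2 _ (hPn u hu hu1))) (hparG u hu hu1)
    rw [h2, mul_one, wval_subW]
    exact hwH _ (hqe u hu hu1)
  have hle1 : Nat.card G ≤ D.n * Nat.card H :=
    card_le_of_flags D s hk g hgi hgen H hT hR hn hp hrelG hparG' hvar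
  have hle2 : Nat.card H ≤ E.n * (pc.map PC.o).prod := by
    have hi : ∀ b < s', h (b + s') = (h b)⁻¹ := by
      intro b hb
      simp only [hh]
      rw [hwi b hb]
      exact wval_invW g s hgi _ (hwl b (by omega))
    have h1 := tower_count E s' hE h hi (⊥ : Subgroup G)
      (fun z hz b _ => by rw [Subgroup.mem_bot.mp hz]; simp) pc hpc hlet
      (fun w hw' => Subgroup.mem_bot.mpr (by
        simp only [hh]
        rw [← wval_subW]
        exact hG1 w hw'))
      hET hER hEn hEp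
      (fun ρ hρ => Subgroup.mem_bot.mpr (by
        simp only [hh]
        rw [← wval_subW]
        exact hG2 ρ hρ))
      pe
      (fun u hu hu1 => Subgroup.mem_bot.mpr (by
        simp only [hh]
        rw [← wval_subW]
        exact hG3 u hu hu1))
      hEPn hEvar
    have e : closure ((h '' {b | b < 2 * s'}) ∪ ((⊥ : Subgroup G) : Set G)) = H := by
      apply le_antisymm
      · rw [closure_le]
        rintro x (hx | hx)
        · exact subset_closure hx
        · rw [Subgroup.mem_bot.mp hx]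
          exact one_mem _
      · exact closure_mono Set.subset_union_left
    rw [e] at h1
    simpa using h1
  apply le_antisymm hle2
  rw [hcard] at hle1
  exact Nat.le_of_mul_le_mul_left hle1 hn

end cardT

end Cfsg.Agent.Lib.KnownSimple.Lab
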