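import Mathlib
import Cfsg.Agent.Lib.KnownSimple.LabVec
import Cfsg.Agent.Lib.KnownSimple.LabField
import Cfsg.Agent.Lib.Chev.Order

/-!
# Labelled coset tables: letters of the Chevalley groups
-/

set_option autoImplicit false

namespace Cfsg.Agent.Lib.KnownSimple.LabChev

open Cfsg.Agent.Lib.KnownSimple.Lab Cfsg.Agent.Lib.KnownSimple.LabMat Cfsg.Agent.Lib.KnownSimple.LabField
open Cfsg.Agent.Lib.KnownSimple.LabVec Cfsg.Lie Cfsg.Agent.Lib.Chev Matrix

variable {F : Type*} [Field F] {D : ChevalleyDatum}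

/-- The size of the matrices. -/
abbrev dd (D : ChevalleyDatum) : ℕ := D.rank + D.nroots

/-- The coordinates. -/
def eqv (D : ChevalleyDatum) : Fin (dd D) ≃ D.Idx := finSumFinEquiv.symm

/-- The matrix of an element. -/
def chHom (D : ChevalleyDatum) (F : Type*) [Field F] :
    ↥(D.group F) →* Matrix (Fin (dd D)) (Fin (dd D)) F where
  toFun g := Matrix.reindex (eqv D).symm (eqv D).symm ((g.1 : GL D.Idx F) : Matrix D.Idx D.Idx F)
  map_one' := by
    ext i j
    simp [Matrix.one_apply]
  map_mul' A B := by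
    ext i j
    simp only [Matrix.reindex_apply, Matrix.submatrix_apply, Subgroup.coe_mul, Units.val_mul, Matrix.mul_apply]
    rw [← Equiv.sum_comp (eqv D)]
    simp

theorem chHom_apply (g : ↥(D.group F)) (i j : Fin (dd D)) :
    chHom D F g i j = ((g.1 : GL D.Idx F) : Matrix D.Idx D.Idx F) (eqv D i) (eqv D j) := rfl

theorem chHom_inj : Function.Injective (chHom D F) := by
  intro A B h
  apply Subtype.ext
  apply Units.ext
  ext i j
  have := congrFun (congrFun h ((eqv D).symm i)) ((eqv D).symm j)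
  simpa [chHom_apply] using this

/-- The polynomial in an entry of the matrix of a root element. -/
def xPolyN (D : ChevalleyDatum) (r i j : ℕ) : List (ℤ × ℕ) :=
  if j < D.rank then
    if i < D.rank then (if i = j then [(1, 0)] else [])
    else if i - D.rank = r then [(-((D.cartanSR.getD j #[]).getD r 0), 1)] else []
  else
    let s := j - D.rank
    if s = r then
      if i < D.rank then [] else if i - D.rank = r then [(1, 0)] else []
    else if s = D.negIdx.getD r 0 then
      if i < D.rank then [((D.coroot.getD r #[]).getD i 0, 1)]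
      else if i - D.rank = s then [(1, 0)] else if i - D.rank = r then [(-1, 2)] else []
    else
      if i < D.rank then []
      else (if i - D.rank = s then [(1, 0)] else []) ++
        (D.chainCoeff r s (i - D.rank)).map fun km => (km.2, km.1)

/-- The value of a polynomial. -/
def evalP (t : F) (P : List (ℤ × ℕ)) : F := (P.map fun m => (m.1 : F) * t ^ m.2).sum

theorem eqv_lt {i : Fin (dd D)} (h : (i : ℕ) < D.rank) : eqv D i = Sum.inl ⟨i, h⟩ := by
  have : i = Fin.castAdd D.nroots ⟨i, h⟩ := Fin.ext rfl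
  conv_lhs => rw [this]
  rw [eqv, finSumFinEquiv_symm_apply_castAdd]

theorem eqv_ge {i : Fin (dd D)} (h : ¬ (i : ℕ) < D.rank) :
    eqv D i = Sum.inr ⟨i - D.rank, by have := i.2; simp only [dd] at this; omega⟩ := by
  have : i = Fin.natAdd D.rank ⟨(i : ℕ) - D.rank, by have := i.2; simp only [dd] at this; omega⟩ :=
    Fin.ext (by simp only [Fin.natAdd]; omega)
  conv_lhs => rw [this]
  rw [eqv, finSumFinEquiv_symm_apply_natAdd]

theorem xMat_entry (r : Fin D.nroots) (t : F) (i j : Fin (dd D)) :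
    D.xMat F r t (eqv D i) (eqv D j) = evalP t (xPolyN D r i j) := by
  by_cases hj : (j : ℕ) < D.rank
  · rw [eqv_lt hj]
    by_cases hi : (i : ℕ) < D.rank
    · rw [eqv_lt hi]
      simp only [ChevalleyDatum.xMat, Matrix.of_apply, xPolyN, hj, hi, if_true, Fin.mk.injEq]
      split_ifs <;> simp [evalP]
    · rw [eqv_ge hi]
      simp only [ChevalleyDatum.xMat, Matrix.of_apply, xPolyN, hj, hi, if_true, if_false, Fin.ext_iff]
      split_ifs <;> simp [evalP]
  · rw [eqv_ge hj]
    by_cases hi : (i : ℕ) < D.rank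
    · rw [eqv_lt hi]
      simp only [ChevalleyDatum.xMat, Matrix.of_apply, xPolyN, hj, hi, if_true, if_false, Fin.ext_iff]
      split_ifs <;> simp [evalP]
    · rw [eqv_ge hi]
      simp only [ChevalleyDatum.xMat, Matrix.of_apply, xPolyN, hj, hi, if_false, Fin.ext_iff]
      split_ifs <;> simp [evalP, List.map_map, Function.comp_def]

/-! ### Codes -/

variable {Q : ℕ} {add mul : ℕ → ℕ → ℕ}

/-- A power of a code. -/
def powC (mul : ℕ → ℕ → ℕ) (c : ℕ) : ℕ → ℕ
  | 0 => 1
  | k + 1 => mul c (powC mul c k)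

theorem powC_val (R : Rep F Q add mul) (c k : ℕ) : R.φ (powC mul c k) = R.φ c ^ k := by
  induction k with
  | zero => simpa [powC] using R.h1
  | succ k ih => rw [powC, R.hmul, ih, pow_succ']

/-- The code of a polynomial at a code. -/
def polyC (add mul : ℕ → ℕ → ℕ) (ic : ℤ → ℕ) (c : ℕ) (P : List (ℤ × ℕ)) : ℕ :=
  P.foldr (fun m acc => add (mul (ic m.1) (powC mul c m.2)) acc) 0

theorem polyC_val (R : Rep F Q add mul) {ic : ℤ → ℕ} (hic : ∀ z, R.φ (ic z) = (z : F)) (c : ℕ)
    (P : List (ℤ × ℕ)) : R.φ (polyC add mul ic c P) = evalP (R.φ c) P := by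
  induction P with
  | nil => simpa [polyC, evalP] using R.h0
  | cons m P ih =>
    have h1 : polyC add mul ic c (m :: P) = add (mul (ic m.1) (powC mul c m.2)) (polyC add mul ic c P) := rfl
    rw [h1, R.hadd, R.hmul, hic, powC_val, ih]
    simp [evalP]

/-- A row with few entries applied to a vector. -/
def rowS (add mul : ℕ → ℕ → ℕ) (row : List (ℕ × ℕ)) (v : List ℕ) : ℕ :=
  row.foldr (fun p acc => add (mul p.2 (v.getD p.1 0)) acc) 0

/-- A matrix with few entries applied to a vector. -/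
def actS (add mul : ℕ → ℕ → ℕ) (S : List (List (ℕ × ℕ))) (v : List ℕ) : List ℕ :=
  S.map fun row => rowS add mul row v

/-- An entry of a row. -/
def entryS (add : ℕ → ℕ → ℕ) (row : List (ℕ × ℕ)) (j : ℕ) : ℕ :=
  row.foldr (fun p acc => if p.1 = j then add p.2 acc else acc) 0

theorem rowS_val (R : Rep F Q add mul) {d : ℕ} (row : List (ℕ × ℕ)) (hrow : ∀ p ∈ row, p.1 < d) (v : List ℕ) :
    R.φ (rowS add mul row v) = ∑ j : Fin d, R.φ (entryS add row j) * toV R.φ d v j := by
  induction row with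
  | nil =>
    simp [rowS, entryS, R.h0]
  | cons p row ih =>
    have h1 : rowS add mul (p :: row) v = add (mul p.2 (v.getD p.1 0)) (rowS add mul row v) := rfl
    rw [h1, R.hadd, R.hmul, ih (fun x hx => hrow x (by simp [hx]))]
    have h2 : ∀ j : Fin d, R.φ (entryS add (p :: row) j) * toV R.φ d v j =
        (if (p.1 : ℕ) = j then R.φ p.2 * toV R.φ d v j else 0) + R.φ (entryS add row j) * toV R.φ d v j := by
      intro j
      have h3 : entryS add (p :: row) j = if p.1 = j then add p.2 (entryS add row j) else entryS add row j := rfl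
      rw [h3]
      split_ifs
      · rw [R.hadd]; ring
      · ring
    simp only [h2]
    rw [Finset.sum_add_distrib]
    congr 1
    have hp : p.1 < d := hrow p (by simp)
    rw [Finset.sum_eq_single (⟨p.1, hp⟩ : Fin d)]
    · simp [toV]
    · intro b _ hb
      rw [if_neg]
      intro e
      exact hb (Fin.ext e.symm)
    · simp

/-- The matrix of a list of rows. -/
def toMS (φ : ℕ → F) (add : ℕ → ℕ → ℕ) (d : ℕ) (S : List (List (ℕ × ℕ))) : Matrix (Fin d) (Fin d) F :=
  Matrix.of fun i j => φ (entryS add (S.getD i []) j)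

theorem toV_actS (R : Rep F Q add mul) {d : ℕ} (S : List (List (ℕ × ℕ))) (hS : S.length = d)
    (hrow : ∀ row ∈ S, ∀ p ∈ row, p.1 < d) (v : List ℕ) :
    toV R.φ d (actS add mul S v) = toMS R.φ add d S *ᵥ toV R.φ d v := by
  ext i
  have hi : (i : ℕ) < S.length := by rw [hS]; exact i.2
  have h1 : (actS add mul S v).getD i 0 = rowS add mul (S.getD i []) v := by
    rw [List.getD_eq_getElem _ _ (by simpa [actS] using hi), List.getD_eq_getElem _ _ hi]
    simp [actS]
  simp only [toV, Matrix.mulVec, dotProduct, toMS, Matrix.of_apply]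
  rw [h1]
  have h2 := rowS_val R (d := d) (S.getD i []) (fun p hp => hrow _ (by
    rw [List.getD_eq_getElem _ _ hi]
    exact List.getElem_mem hi) p hp) v
  rw [h2]
  rfl

/-- The check of a sparse matrix against the polynomials. -/
def chkX (add mul : ℕ → ℕ → ℕ) (ic : ℤ → ℕ) (D : ChevalleyDatum) (r c : ℕ) (S : List (List (ℕ × ℕ))) : Bool :=
  (S.length == dd D) && S.all (fun row => row.all fun p => Nat.blt p.1 (dd D)) &&
  (List.range (dd D)).all fun i => (List.range (dd D)).all fun j =>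
    entryS add (S.getD i []) j == polyC add mul ic c (xPolyN D r i j)

variable (G : Good2 D)

/-- A root element as an element of the group. -/
noncomputable def xE (G : Good2 D) (φ : ℕ → F) (r c : ℕ) : ↥(D.group F) :=
  if hr : r < D.nroots then ⟨G.xg hr (φ c), G.xg_mem_grp hr (φ c)⟩ else 1

theorem xE_val (R : Rep F Q add mul) {ic : ℤ → ℕ} (hic : ∀ z, R.φ (ic z) = (z : F))
    {r c : ℕ} (hr : r < D.nroots) {S : List (List (ℕ × ℕ))} (hS : chkX add mul ic D r c S = true) :
    chHom D F (xE G R.φ r c) = toMS R.φ add (dd D) S := by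
  simp only [chkX, Bool.and_eq_true, beq_iff_eq, List.all_eq_true, List.mem_range] at hS
  obtain ⟨_, h3⟩ := hS
  ext i j
  have e1 := h3 i i.2 j j.2
  rw [chHom_apply, xE, dif_pos hr]
  simp only [Good0.xg_val, toMS, Matrix.of_apply]
  rw [e1, polyC_val R hic]
  have hx : D.x F r (R.φ c) = D.xMat F ⟨r, hr⟩ (R.φ c) := dif_pos hr
  rw [hx]
  exact xMat_entry ⟨r, hr⟩ (R.φ c) i j

/-- The action of a word of sparse matrices on a vector. -/
def wordS (add mul : ℕ → ℕ → ℕ) (SL : List (List (List (ℕ × ℕ)))) : List ℕ → List ℕ → List ℕ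
  | [], v => v
  | j :: w, v => actS add mul (SL.getD j []) (wordS add mul SL w v)

/-- The root elements in a list. -/
noncomputable def xI (G : Good2 D) (φ : ℕ → F) (RL : List (ℕ × ℕ)) (j : ℕ) : ↥(D.group F) :=
  xE G φ (RL.getD j (0, 0)).1 (RL.getD j (0, 0)).2

theorem wordS_val (R : Rep F Q add mul) {ic : ℤ → ℕ} (hic : ∀ z, R.φ (ic z) = (z : F))
    {RL : List (ℕ × ℕ)} {SL : List (List (List (ℕ × ℕ)))}
    (hRL : ∀ j < RL.length, (RL.getD j (0, 0)).1 < D.nroots ∧
      chkX add mul ic D (RL.getD j (0, 0)).1 (RL.getD j (0, 0)).2 (SL.getD j []) = true) (w : List ℕ)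
    (hw : ∀ j ∈ w, j < RL.length) (v : List ℕ) :
    chHom D F (wval (xI G R.φ RL) w) *ᵥ toV R.φ (dd D) v = toV R.φ (dd D) (wordS add mul SL w v) := by
  induction w with
  | nil => simp [wordS]
  | cons j w ih =>
    have hj := hw j (by simp)
    obtain ⟨h1, h2⟩ := hRL j hj
    have h3 := h2
    simp only [chkX, Bool.and_eq_true, beq_iff_eq, List.all_eq_true, List.mem_range] at h3
    obtain ⟨⟨h4, h5⟩, _⟩ := h3
    rw [wval_cons, map_mul, ← Matrix.mulVec_mulVec, ih (fun b hb => hw b (by simp [hb])), xI,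
      xE_val G R hic h1 h2, wordS, toV_actS R _ h4 (fun row hr p hp => by simpa using h5 row hr p hp)]

/-- The letters are products of root elements. -/
noncomputable def chLetter (G : Good2 D) (φ : ℕ → F) (RL : List (ℕ × ℕ)) (LW : ℕ → List ℕ) (a : ℕ) : ↥(D.group F) :=
  wval (xI G φ RL) (LW a)

/-! ### Points -/

variable {Y : Type*} [Group Y] {d : ℕ}

/-- The action of a word on the points. -/
theorem word_pts (ι : Y →* Matrix (Fin d) (Fin d) F) {γ : ℕ → Y} {V : ℕ → ℕ → ℕ} {P : ℕ → Fin d → F} {k N : ℕ}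
    (hV : ∀ a < k, ∀ i < N, V a i < N ∧ ι (γ a) *ᵥ P i = P (V a i)) :
    ∀ (w : List ℕ), (∀ a ∈ w, a < k) → ∀ i < N, walk V w i < N ∧
      ι (wval γ w) *ᵥ P i = P (walk V w i) := by
  intro w
  induction w with
  | nil =>
    intro _ i hi
    simpa using hi
  | cons a w ih =>
    intro hw i hi
    obtain ⟨h2, h3⟩ := ih (fun b hb => hw b (by simp [hb])) i hi
    obtain ⟨h4, h5⟩ := hV a (hw a (by simp)) _ h2
    refine ⟨h4, ?_⟩
    rw [wval_cons, map_mul, ← Matrix.mulVec_mulVec, h3, h5]
    rfl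

/-- Two matrices agreeing on the columns of an invertible matrix are equal. -/
theorem eq_of_base {M X B C : Matrix (Fin d) (Fin d) F} (hBC : B * C = 1)
    (h : ∀ j : Fin d, M *ᵥ (fun i => B i j) = X *ᵥ (fun i => B i j)) : M = X := by
  have h1 : M * B = X * B := by
    ext i j
    have := congrFun (h j) i
    simpa [Matrix.mulVec, dotProduct, Matrix.mul_apply] using this
  calc M = M * (B * C) := by rw [hBC, mul_one]
    _ = (M * B) * C := by rw [mul_assoc]
    _ = (X * B) * C := by rw [h1]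
    _ = X := by rw [mul_assoc, hBC, mul_one]

/-- The columns of a matrix of codes. -/
def colC (d : ℕ) (B : List ℕ) (j : ℕ) : List ℕ := (List.range d).map fun i => B.getD (i * d + j) 0

theorem toV_colC {φ : ℕ → F} (d : ℕ) (B : List ℕ) (j : Fin d) :
    toV φ d (colC d B j) = fun i => toM φ d B i j := by
  ext i
  simp only [toV, colC, toM, Matrix.of_apply]
  rw [getD_range_map' _ i.2]

/-- The letters generate the group, when the root elements are words in them. -/
theorem ch_closure (R : Rep F Q add mul) (G : Good2 D) {ic : ℤ → ℕ} (hic : ∀ z, R.φ (ic z) = (z : F))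
    {γ : ℕ → ↥(D.group F)} {k : ℕ}
    (Bc Cc : List ℕ) (hBC : mulC add mul (dd D) Bc Cc = idC (dd D))
    (V : ℕ → ℕ → ℕ) (pt : ℕ → List ℕ) (N : ℕ)
    (hV : ∀ a < k, ∀ i < N, V a i < N ∧ chHom D F (γ a) *ᵥ toV R.φ (dd D) (pt i) = toV R.φ (dd D) (pt (V a i)))
    (bs : ℕ → ℕ) (hbs : ∀ j < dd D, bs j < N ∧ pt (bs j) = colC (dd D) Bc j)
    (XS : ℕ → ℕ → List (List (ℕ × ℕ))) (TW : ℕ → ℕ → List ℕ)
    (hX : ∀ r < D.nroots, ∀ c < Q, c = 0 ∨ (chkX add mul ic D r c (XS r c) = true ∧ (∀ a ∈ TW r c, a < k) ∧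
      ∀ j < dd D, actS add mul (XS r c) (pt (bs j)) = pt (walk V (TW r c) (bs j)))) :
    Subgroup.closure (γ '' {a | a < k}) = ⊤ := by
  have hB : toM R.φ (dd D) Bc * toM R.φ (dd D) Cc = 1 := by
    rw [← toM_mulC R.hadd R.hmul R.h0, hBC, toM_idC R.h0 R.h1]
  set K := Subgroup.closure (γ '' {a | a < k}) with hK
  have hmem : ∀ w : List ℕ, (∀ a ∈ w, a < k) → wval γ w ∈ K := by
    intro w hw
    induction w with
    | nil => exact one_mem _
    | cons a w ih =>
      exact mul_mem (Subgroup.subset_closure ⟨a, hw a (by simp), rfl⟩) (ih (fun b hb => hw b (by simp [hb])))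
  have hxe : ∀ r (hr : r < D.nroots) (c : ℕ), c < Q → xE G R.φ r c ∈ K := by
    intro r hr c hc
    rcases hX r hr c hc with rfl | ⟨h1, h2, h3⟩
    · have : xE G R.φ r 0 = 1 := by
        apply Subtype.ext
        rw [xE, dif_pos hr]
        show G.xg hr (R.φ 0) = 1
        rw [R.h0]
        exact G.xg_zero hr
      rw [this]
      exact one_mem _
    · have e : wval γ (TW r c) = xE G R.φ r c := by
        apply chHom_inj
        apply eq_of_base hB
        intro j
        have hj := hbs j j.2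
        have h4 := (word_pts (chHom D F) hV (TW r c) h2 _ hj.1).2
        have h5 := h3 j j.2
        have h6 := congrArg (toV R.φ (dd D)) h5
        have h7 := toV_actS R (XS r c) (by
          simp only [chkX, Bool.and_eq_true, beq_iff_eq] at h1
          exact h1.1.1) (by
          simp only [chkX, Bool.and_eq_true, beq_iff_eq, List.all_eq_true] at h1
          intro row hrow p hp
          simpa using h1.1.2 row hrow p hp) (pt (bs j))
        rw [h7, ← xE_val G R hic hr h1] at h6
        rw [hj.2, toV_colC] at h4 h6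
        rw [h4, h6]
      rw [← e]
      exact hmem _ h2
  rw [eq_top_iff]
  rintro ⟨g, hg⟩ -
  refine Subgroup.closure_induction (p := fun g hg => (⟨g, hg⟩ : ↥(D.group F)) ∈ K) ?_ ?_ ?_ ?_ hg
  · rintro x hxs
    have hxs' := hxs
    obtain ⟨r, t, hx⟩ := hxs'
    obtain ⟨c, hc, rfl⟩ := R.hsurj t
    have e : (⟨x, Subgroup.subset_closure hxs⟩ : ↥(D.group F)) = xE G R.φ r c := by
      apply Subtype.ext
      rw [xE, dif_pos r.2]
      apply G.gen_eq r.2
      rw [show D.x F r.val (R.φ c) = D.xMat F r (R.φ c) from dif_pos r.2]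
      exact hx
    rw [e]
    exact hxe r r.2 c hc
  · exact one_mem _
  · intro x y hx hy h1 h2
    exact mul_mem h1 h2
  · intro x hx h1
    exact inv_mem h1

/-- A word fixing the base is trivial. -/
theorem ch_eq_one (R : Rep F Q add mul) {γ : ℕ → ↥(D.group F)} {k : ℕ}
    (Bc Cc : List ℕ) (hBC : mulC add mul (dd D) Bc Cc = idC (dd D))
    (V : ℕ → ℕ → ℕ) (pt : ℕ → List ℕ) (N : ℕ)
    (hV : ∀ a < k, ∀ i < N, V a i < N ∧ chHom D F (γ a) *ᵥ toV R.φ (dd D) (pt i) = toV R.φ (dd D) (pt (V a i)))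
    (bs : ℕ → ℕ) (hbs : ∀ j < dd D, bs j < N ∧ pt (bs j) = colC (dd D) Bc j)
    (w : List ℕ) (hw : ∀ a ∈ w, a < k) (hc : ∀ j < dd D, walk V w (bs j) = bs j) : wval γ w = 1 := by
  have hB : toM R.φ (dd D) Bc * toM R.φ (dd D) Cc = 1 := by
    rw [← toM_mulC R.hadd R.hmul R.h0, hBC, toM_idC R.h0 R.h1]
  apply chHom_inj
  rw [map_one]
  apply eq_of_base hB
  intro j
  have hj := hbs j j.2
  have h4 := (word_pts (chHom D F) hV w hw _ hj.1).2
  rw [hc j j.2, hj.2, toV_colC] at h4
  rw [h4, Matrix.one_mulVec]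

/-- Digits. -/
def dgC (Q n c : ℕ) : List ℕ := (List.range n).map fun i => c / Q ^ i % Q

/-- The code of an integer. -/
def icC (p : ℕ) (z : ℤ) : ℕ := (z % p).toNat

theorem icC_val {φ : ℕ → F} {p : ℕ} (hp0 : 0 < p) (hp : (p : F) = 0) (hn : ∀ n < p, φ n = (n : F)) (z : ℤ) :
    φ (icC p z) = (z : F) := by
  have h1 : (0 : ℤ) ≤ z % p := Int.emod_nonneg _ (by omega)
  have h2 : z % p < p := Int.emod_lt_of_pos _ (by omega)
  have h3 : ((z % p).toNat : ℤ) = z % p := Int.toNat_of_nonneg h1
  have h4 : (z % p).toNat < p := by omega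
  rw [icC, hn _ h4]
  have h5 : (((z % p).toNat : ℕ) : F) = ((((z % p).toNat : ℕ) : ℤ) : F) := (Int.cast_natCast _).symm
  rw [h5, h3]
  conv_rhs => rw [← Int.mul_ediv_add_emod z p]
  push_cast
  rw [hp]
  simp

end Cfsg.Agent.Lib.KnownSimple.LabChev
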