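import Mathlib
import Cfsg.Agent.Lib.KnownSimple.LabVec
import Cfsg.Agent.Lib.KnownSimple.LabField

/-!
# Matrices over a field of characteristic two acting on packed vectors
-/

set_option autoImplicit false

namespace Cfsg.Agent.Lib.KnownSimple.LabPack

open Cfsg.Agent.Lib.KnownSimple.Lab Cfsg.Agent.Lib.KnownSimple.LabVec
open scoped Matrix

variable {F : Type*} [Field F]

/-- The digit of a packed vector. -/
def dig (w P i : ℕ) : ℕ := (P >>> (w * i)) % 2 ^ w

/-- The vector of a packed code. -/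
def unp (φ : ℕ → F) (w d P : ℕ) : Fin d → F := fun i => φ (dig w P i)

/-- Indexing a list. -/
def nthL : List ℕ → ℕ → ℕ
  | [], _ => 0
  | x :: _, 0 => x
  | _ :: l, k + 1 => nthL l k

/-- The action of a matrix on a packed code, by its columns. -/
def mvP (w m : ℕ) : List (List ℕ) → ℕ → ℕ → ℕ
  | [], _, acc => acc
  | c :: cs, P, acc => mvP w m cs (Nat.shiftRight P w) (Nat.xor acc (nthL c (Nat.mod P m)))

theorem dig_xor (w a b i : ℕ) : dig w (a ^^^ b) i = dig w a i ^^^ dig w b i := by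
  simp only [dig]
  rw [Nat.shiftRight_xor_distrib, Nat.xor_mod_two_pow]

theorem dig_lt (w P i : ℕ) : dig w P i < 2 ^ w := Nat.mod_lt _ (by positivity)

theorem dig_succ (w P j : ℕ) : dig w P (j + 1) = dig w (P >>> w) j := by
  simp only [dig]
  rw [← Nat.shiftRight_add]
  congr 2
  ring

theorem dig_zero_idx (w P : ℕ) : dig w P 0 = P % 2 ^ w := by
  simp [dig]

variable {φ : ℕ → F} {w : ℕ}

theorem unp_xor (hx : ∀ x < 2 ^ w, ∀ y < 2 ^ w, φ (x ^^^ y) = φ x + φ y) (d a b : ℕ) (i : Fin d) :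
    unp φ w d (a ^^^ b) i = unp φ w d a i + unp φ w d b i := by
  simp only [unp]
  rw [dig_xor]
  exact hx _ (dig_lt _ _ _) _ (dig_lt _ _ _)

theorem unp_mvP (hx : ∀ x < 2 ^ w, ∀ y < 2 ^ w, φ (x ^^^ y) = φ x + φ y) (d : ℕ) (i : Fin d) :
    ∀ (cols : List (List ℕ)) (P acc : ℕ), unp φ w d (mvP w (2 ^ w) cols P acc) i =
      unp φ w d acc i + ∑ j : Fin cols.length, unp φ w d (nthL (cols.get j) (dig w P j)) i := by
  intro cols
  induction cols with
  | nil =>
    intro P acc
    simp [mvP]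
  | cons c cs ih =>
    intro P acc
    rw [mvP, ih]
    have e1 : Nat.xor acc (nthL c (Nat.mod P (2 ^ w))) = acc ^^^ nthL c (dig w P 0) := by
      rw [dig_zero_idx]
      rfl
    have e2 : Nat.shiftRight P w = P >>> w := rfl
    rw [e1, e2, unp_xor hx]
    have e3 : ∑ j : Fin (c :: cs).length, unp φ w d (nthL ((c :: cs).get j) (dig w P j)) i =
        unp φ w d (nthL c (dig w P 0)) i +
          ∑ j : Fin cs.length, unp φ w d (nthL (cs.get j) (dig w (P >>> w) j)) i := by
      refine (Fin.sum_univ_succ (fun j : Fin (cs.length + 1) =>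
        unp φ w d (nthL ((c :: cs).get j) (dig w P j)) i)).trans ?_
      simp only [Fin.val_succ, dig_succ]
      rfl
    rw [e3, add_assoc]

/-- The action of a matrix on packed vectors, from its columns. -/
theorem mulVec_unp (hx : ∀ x < 2 ^ w, ∀ y < 2 ^ w, φ (x ^^^ y) = φ x + φ y) (h0 : φ 0 = 0) {d : ℕ}
    (M : Matrix (Fin d) (Fin d) F) (cols : List (List ℕ)) (hlen : cols.length = d)
    (hcol : ∀ j : Fin d, ∀ c < 2 ^ w, ∀ i : Fin d,
      unp φ w d (nthL (cols.getD j []) c) i = φ c * M i j) (P : ℕ) :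
    M *ᵥ unp φ w d P = unp φ w d (mvP w (2 ^ w) cols P 0) := by
  subst hlen
  ext i
  rw [unp_mvP hx]
  have e0 : unp φ w cols.length 0 i = 0 := by
    simp [unp, dig, h0]
  rw [e0, zero_add]
  simp only [Matrix.mulVec, dotProduct]
  apply Finset.sum_congr rfl
  intro j _
  have h1 := hcol j _ (dig_lt w P j) i
  have h2 : cols.getD j [] = cols.get j := by
    rw [List.getD_eq_getElem _ _ j.2]
    rfl
  rw [h2] at h1
  rw [h1]
  simp only [unp]
  ring

omit [Field F] in
/-- Digits through a list. -/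
theorem unp_eq_toV (d c : ℕ) :
    unp φ w d c = toV φ d ((List.range d).map fun i => c / (2 ^ w) ^ i % 2 ^ w) := by
  ext i
  simp only [unp, toV]
  rw [getD_range_map' _ i.2]
  simp only [dig]
  rw [Nat.shiftRight_eq_div_pow, pow_mul]

end Cfsg.Agent.Lib.KnownSimple.LabPack
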