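import Mathlib
import Cfsg.Agent.Lib.KnownSimple.LabChev
import Cfsg.Agent.Lib.KnownSimple.LabPack

/-!
# A letter of a Chevalley group, acting on packed points
-/

set_option autoImplicit false

namespace Cfsg.Agent.Lib.KnownSimple.LabChev

open Cfsg.Agent.Lib.KnownSimple.Lab Cfsg.Agent.Lib.KnownSimple.LabMat Cfsg.Agent.Lib.KnownSimple.LabField
open Cfsg.Agent.Lib.KnownSimple.LabVec Cfsg.Agent.Lib.KnownSimple.LabPack
open scoped Matrix

variable {D : Cfsg.Lie.ChevalleyDatum} {F : Type*} [Field F] {Q : ℕ} {add mul : ℕ → ℕ → ℕ}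

/-- A letter as one sparse matrix, from its agreement on a base. -/
theorem letter_eq_toMS (R : Rep F Q add mul) (G : Chev.Good2 D) {ic : ℤ → ℕ} (hic : ∀ z, R.φ (ic z) = (z : F))
    {RL : List (ℕ × ℕ)} {SL : List (List (List (ℕ × ℕ)))}
    (hRL : ∀ j < RL.length, (RL.getD j (0, 0)).1 < D.nroots ∧
      chkX add mul ic D (RL.getD j (0, 0)).1 (RL.getD j (0, 0)).2 (SL.getD j []) = true)
    (w : List ℕ) (hw : ∀ j ∈ w, j < RL.length)
    (Bc Cc : List ℕ) (hBC : mulC add mul (dd D) Bc Cc = idC (dd D))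
    (XA : List (List (ℕ × ℕ))) (hlen : XA.length = dd D) (hrow : ∀ row ∈ XA, ∀ p ∈ row, p.1 < dd D)
    (hbase : ∀ j < dd D, wordS add mul SL w (colC (dd D) Bc j) = actS add mul XA (colC (dd D) Bc j)) :
    chHom D F (wval (xI G R.φ RL) w) = toMS R.φ add (dd D) XA := by
  have hB : toM R.φ (dd D) Bc * toM R.φ (dd D) Cc = 1 := by
    rw [← toM_mulC R.hadd R.hmul R.h0, hBC, toM_idC R.h0 R.h1]
  apply eq_of_base hB
  intro j
  have h1 := wordS_val G R hic hRL w hw (colC (dd D) Bc j)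
  rw [toV_colC] at h1
  rw [h1, hbase j j.2, toV_actS R XA hlen hrow, toV_colC]

/-- The action on packed points, from the columns of a sparse matrix. -/
theorem hV_of_pack (R : Rep F Q add mul) {w m : ℕ} (hQ : Q = 2 ^ w) (hm : m = 2 ^ w)
    (hxor : ∀ x < 2 ^ w, ∀ y < 2 ^ w, add x y = x ^^^ y) {d : ℕ}
    (M : Matrix (Fin d) (Fin d) F) (XA : List (List (ℕ × ℕ))) (hM : M = toMS R.φ add d XA)
    (cols : List (List ℕ)) (hlen : cols.length = d)
    (hcols : ∀ j < d, ∀ c < Q, ∀ i < d, dig w (nthL (cols.getD j []) c) i = mul c (entryS add (XA.getD i []) j))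
    (V : ℕ → ℕ) (ptc : ℕ → ℕ) (N : ℕ)
    (hchk : ∀ i < N, V i < N ∧ mvP w m cols (ptc i) 0 = ptc (V i)) :
    ∀ i < N, V i < N ∧ M *ᵥ toV R.φ d (dgC Q d (ptc i)) = toV R.φ d (dgC Q d (ptc (V i))) := by
  subst hQ hm
  have hx : ∀ x < 2 ^ w, ∀ y < 2 ^ w, R.φ (x ^^^ y) = R.φ x + R.φ y := by
    intro x hx y hy
    rw [← hxor x hx y hy, R.hadd]
  have hcol : ∀ j : Fin d, ∀ c < 2 ^ w, ∀ i : Fin d,
      unp R.φ w d (nthL (cols.getD j []) c) i = R.φ c * M i j := by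
    intro j c hc i
    rw [hM]
    simp only [unp, toMS, Matrix.of_apply]
    rw [hcols j j.2 c hc i i.2, R.hmul]
  intro i hi
  obtain ⟨h1, h2⟩ := hchk i hi
  refine ⟨h1, ?_⟩
  have e : ∀ c : ℕ, toV R.φ d (dgC (2 ^ w) d c) = unp R.φ w d c := by
    intro c
    rw [unp_eq_toV]
    rfl
  rw [e, e, mulVec_unp hx R.h0 M cols hlen hcol, h2]

end Cfsg.Agent.Lib.KnownSimple.LabChev
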