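import Mathlib
import Cfsg.Prelude.Def_Spor_J1

/-!
# Explicit `7 × 7` matrices over `ZMod 11`, as lists
-/

set_option autoImplicit false

namespace Cfsg.Agent.Lib.KnownSimple.J1Base

open Cfsg Cfsg.Spor

/-- Matrices as lists of rows. -/
abbrev Mat := List (List ℕ)

def dot : List ℕ → List ℕ → ℕ
  | a :: as, b :: bs => a * b + dot as bs
  | _, _ => 0

def col (B : Mat) (j : ℕ) : List ℕ := B.map (fun r => r.getD j 0)

def tr (B : Mat) : Mat := [col B 0, col B 1, col B 2, col B 3, col B 4, col B 5, col B 6]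

def mulM (A B : Mat) : Mat :=
  let C := tr B
  A.map (fun r => C.map (fun c => dot r c % 11))

def mvL (A : Mat) (v : List ℕ) : List ℕ := A.map (fun r => dot r v % 11)

def okM (A : Mat) : Bool := (A.length == 7) && A.all fun r => (r.length == 7) && r.all (· < 11)

def idM : Mat := [[1,0,0,0,0,0,0],[0,1,0,0,0,0,0],[0,0,1,0,0,0,0],[0,0,0,1,0,0,0],[0,0,0,0,1,0,0],[0,0,0,0,0,1,0],
  [0,0,0,0,0,0,1]]

/-- Decoding a matrix packed with four bits per entry. -/
def decR (n : ℕ) : List ℕ :=
  [n % 16, (n >>> 4) % 16, (n >>> 8) % 16, (n >>> 12) % 16, (n >>> 16) % 16, (n >>> 20) % 16, (n >>> 24) % 16]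

def decM (n : ℕ) : Mat :=
  [decR n, decR (n >>> 28), decR (n >>> 56), decR (n >>> 84), decR (n >>> 112), decR (n >>> 140), decR (n >>> 168)]

/-- The matrix of a list. -/
def toM (A : Mat) : Matrix (Fin 7) (Fin 7) (ZMod 11) :=
  Matrix.of fun i j => (((A.getD i []).getD j 0 : ℕ) : ZMod 11)

/-- The vector of a list. -/
def toV (v : List ℕ) : Fin 7 → ZMod 11 := fun i => ((v.getD i 0 : ℕ) : ZMod 11)

theorem dot_eq {r c : List ℕ} (hr : r.length = 7) (hc : c.length = 7) :
    ((dot r c : ℕ) : ZMod 11) = ∑ k : Fin 7, ((r.getD k 0 : ℕ) : ZMod 11) * ((c.getD k 0 : ℕ) : ZMod 11) := by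
  match r, c, hr, hc with
  | [a0, a1, a2, a3, a4, a5, a6], [b0, b1, b2, b3, b4, b5, b6], _, _ =>
    simp [dot, Fin.sum_univ_succ]

theorem getD_map' {α β : Type*} (f : α → β) (l : List α) (d : α) (d' : β) (i : ℕ) (hi : i < l.length) :
    (l.map f).getD i d' = f (l.getD i d) := by
  simp [List.getD_eq_getElem?_getD, hi]

theorem okM_length {A : Mat} (h : okM A = true) : A.length = 7 := by
  simp only [okM, Bool.and_eq_true, beq_iff_eq] at h
  exact h.1

theorem okM_row {A : Mat} (h : okM A = true) {i : ℕ} (hi : i < 7) : (A.getD i []).length = 7 := by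
  simp only [okM, Bool.and_eq_true, beq_iff_eq, List.all_eq_true] at h
  obtain ⟨h1, h2⟩ := h
  rw [List.getD_eq_getElem _ _ (by omega)]
  exact (h2 _ (List.getElem_mem (by omega))).1

theorem okM_ent {A : Mat} (h : okM A = true) {i j : ℕ} (hi : i < 7) (hj : j < 7) : (A.getD i []).getD j 0 < 11 := by
  have hlen := okM_length h
  simp only [okM, Bool.and_eq_true, beq_iff_eq, List.all_eq_true] at h
  obtain ⟨h1, h2⟩ := h
  have h3 := h2 (A[i]'(by omega)) (List.getElem_mem _)
  rw [List.getD_eq_getElem _ _ (by omega : i < A.length), List.getD_eq_getElem _ _ (by omega : j < (A[i]'(by omega)).length)]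
  simpa using h3.2 _ (List.getElem_mem _)

theorem col_length (B : Mat) (j : ℕ) (h : B.length = 7) : (col B j).length = 7 := by
  simp [col, h]

theorem col_getD (B : Mat) (j k : ℕ) (h : k < B.length) : (col B j).getD k 0 = (B.getD k []).getD j 0 := by
  rw [col, getD_map' _ _ [] _ _ h]

theorem tr_getD (B : Mat) {j : ℕ} (hj : j < 7) : (tr B).getD j [] = col B j := by
  interval_cases j <;> rfl

theorem tr_length (B : Mat) : (tr B).length = 7 := rfl

theorem mulM_ent {A B : Mat} (hA : okM A = true) (hB : okM B = true) {i j : ℕ} (hi : i < 7) (hj : j < 7) :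
    ((mulM A B).getD i []).getD j 0 = dot (A.getD i []) (col B j) % 11 := by
  have hA' := okM_length hA
  rw [mulM, getD_map' _ _ [] _ _ (by omega), getD_map' _ _ [] _ _ (by rw [tr_length]; exact hj), tr_getD _ hj]

theorem toM_mul {A B : Mat} (hA : okM A = true) (hB : okM B = true) : toM (mulM A B) = toM A * toM B := by
  ext i j
  have hB' := okM_length hB
  simp only [toM, Matrix.of_apply, Matrix.mul_apply]
  rw [mulM_ent hA hB i.2 j.2, ZMod.natCast_mod, dot_eq (okM_row hA i.2) (col_length B _ hB')]
  refine Finset.sum_congr rfl fun k _ => ?_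
  rw [col_getD B j k (by omega)]

theorem toM_tr {A : Mat} (hA : okM A = true) : toM (tr A) = (toM A).transpose := by
  ext i j
  have hA' := okM_length hA
  simp only [toM, Matrix.of_apply, Matrix.transpose_apply]
  rw [tr_getD _ i.2, col_getD A i j (by omega)]

theorem okM_mul {A B : Mat} (hA : okM A = true) : okM (mulM A B) = true := by
  have hA' := okM_length hA
  simp only [okM, mulM, Bool.and_eq_true, beq_iff_eq, List.all_eq_true, List.length_map, hA', true_and,
    List.mem_map, forall_exists_index, and_imp, forall_apply_eq_imp_iff₂, decide_eq_true_eq]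
  intro a _
  refine ⟨by simp [tr], ?_⟩
  intro x hx
  exact Nat.mod_lt _ (by norm_num)

theorem toV_mv {A : Mat} {v : List ℕ} (hA : okM A = true) (hv : v.length = 7) :
    toV (mvL A v) = (toM A).mulVec (toV v) := by
  ext i
  have hA' := okM_length hA
  simp only [toV, mvL, Matrix.mulVec, dotProduct, toM, Matrix.of_apply]
  rw [getD_map' _ _ [] _ _ (by omega), ZMod.natCast_mod, dot_eq (okM_row hA i.2) hv]

theorem mvL_length {A : Mat} {v : List ℕ} (hA : okM A = true) : (mvL A v).length = 7 := by
  simpa [mvL] using okM_length hA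

theorem toM_eq_iff {A B : Mat} (hA : okM A = true) (hB : okM B = true) : toM A = toM B ↔ A = B := by
  constructor
  · intro h
    have hA' := okM_length hA
    have hB' := okM_length hB
    apply List.ext_getElem (by omega)
    intro i h1 h2
    have hi : i < 7 := by omega
    have hrA := okM_row hA hi
    have hrB := okM_row hB hi
    rw [List.getD_eq_getElem _ _ h1] at hrA
    rw [List.getD_eq_getElem _ _ h2] at hrB
    apply List.ext_getElem (by omega)
    intro j h3 h4
    have hj : j < 7 := by omega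
    have h5 := congrFun (congrFun h ⟨i, hi⟩) ⟨j, hj⟩
    simp only [toM, Matrix.of_apply] at h5
    have h6 := okM_ent hA hi hj
    have h7 := okM_ent hB hi hj
    rw [ZMod.natCast_eq_natCast_iff', Nat.mod_eq_of_lt h6, Nat.mod_eq_of_lt h7] at h5
    rw [List.getD_eq_getElem _ _ h1, List.getD_eq_getElem _ _ h3] at h5
    rw [List.getD_eq_getElem _ _ h2, List.getD_eq_getElem _ _ h4] at h5
    exact h5
  · rintro rfl
    rfl

theorem toV_eq_iff {v w : List ℕ} (h : toV v = toV w) (hv : v.length = 7) (hw : w.length = 7)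
    (hv' : ∀ x ∈ v, x < 11) (hw' : ∀ x ∈ w, x < 11) : v = w := by
  apply List.ext_getElem (by omega)
  intro j h3 h4
  have hj : j < 7 := by omega
  have h5 := congrFun h ⟨j, hj⟩
  simp only [toV] at h5
  rw [ZMod.natCast_eq_natCast_iff'] at h5
  rw [List.getD_eq_getElem _ _ h3, List.getD_eq_getElem _ _ h4,
    Nat.mod_eq_of_lt (hv' _ (List.getElem_mem _)), Nat.mod_eq_of_lt (hw' _ (List.getElem_mem _))] at h5
  exact h5

/-- The group. -/
abbrev G := ↥Spor.J1

noncomputable def xG : G := ⟨jankoX, Subgroup.subset_closure (by simp)⟩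
noncomputable def yG : G := ⟨jankoY, Subgroup.subset_closure (by simp)⟩

/-- `g` is represented by the list `A`. -/
def MRep (g : G) (A : Mat) : Prop := ((g.1 : GL (Fin 7) (ZMod 11)) : Matrix (Fin 7) (Fin 7) (ZMod 11)) = toM A

theorem MRep.mul {g h : G} {A B : Mat} (hg : MRep g A) (hh : MRep h B) (hA : okM A = true) (hB : okM B = true) :
    MRep (g * h) (mulM A B) := by
  unfold MRep at *
  rw [toM_mul hA hB, ← hg, ← hh]
  rfl

theorem rep_inj {g h : G} {A : Mat} (hg : MRep g A) (hh : MRep h A) : g = h := by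
  apply Subtype.ext
  apply Units.ext
  exact hg.trans hh.symm

theorem rep_inj' {g h : G} {A B : Mat} (hg : MRep g A) (hh : MRep h B) (hAB : A = B) : g = h := by
  subst hAB
  exact rep_inj hg hh

theorem rep_eq {g : G} {A B : Mat} (hg : MRep g A) (hA : okM A = true) (hB : okM B = true)
    (h : MRep g B) : A = B :=
  (toM_eq_iff hA hB).mp (hg.symm.trans h)

theorem rep_one : MRep 1 idM := by
  unfold MRep
  ext i j
  fin_cases i <;> fin_cases j <;> first | rfl | decide

/-- The defining matrices. -/
def xM : Mat := [[0,1,0,0,0,0,0],[0,0,1,0,0,0,0],[0,0,0,1,0,0,0],[0,0,0,0,1,0,0],[0,0,0,0,0,1,0],[0,0,0,0,0,0,1],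
  [1,0,0,0,0,0,0]]

def yM : Mat := [[8,2,10,10,8,10,8],[9,1,1,3,1,3,3],[10,10,8,10,8,8,2],[10,8,10,8,8,2,10],[8,10,8,8,2,10,10],
  [1,3,3,9,1,1,3],[3,3,9,1,1,3,1]]

theorem rep_x : MRep xG xM := by
  unfold MRep
  ext i j
  fin_cases i <;> fin_cases j <;> decide

theorem rep_y : MRep yG yM := by
  unfold MRep
  ext i j
  fin_cases i <;> fin_cases j <;> decide

theorem hxM : okM xM = true := by decide
theorem hyM : okM yM = true := by decide

/-- The generators generate. -/
theorem closure_xy : Subgroup.closure ({xG, yG} : Set G) = ⊤ := by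
  rw [eq_top_iff]
  rintro ⟨g, hg⟩ -
  have hg' : g ∈ Subgroup.closure ({jankoX, jankoY} : Set (GL (Fin 7) (ZMod 11))) := hg
  induction hg' using Subgroup.closure_induction with
  | mem x hx =>
    rcases hx with rfl | hx
    · exact Subgroup.subset_closure (by simp [xG])
    · rw [Set.mem_singleton_iff] at hx
      subst hx
      exact Subgroup.subset_closure (by simp [yG])
  | one => exact one_mem _
  | mul x y hx hy ihx ihy =>
    exact Subgroup.mul_mem _ (ihx hx) (ihy hy)
  | inv x hx ihx =>
    exact Subgroup.inv_mem _ (ihx hx)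

instance : Finite G := inferInstance

/-- A subset closed under left multiplication by generators is everything. -/
theorem eq_univ_of_closed {H : Type*} [Group H] [Finite H] {a b : H} (hab : Subgroup.closure ({a, b} : Set H) = ⊤)
    {S : Set H} (h1 : (1 : H) ∈ S) (ha : ∀ s ∈ S, a * s ∈ S) (hb : ∀ s ∈ S, b * s ∈ S) (g : H) : g ∈ S := by
  let K : Submonoid H :=
    { carrier := {x | ∀ s ∈ S, x * s ∈ S}
      one_mem' := by intro s hs; simpa using hs
      mul_mem' := by
        intro x y hx hy s hs
        rw [mul_assoc]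
        exact hx _ (hy _ hs) }
  have hinv : ∀ x ∈ K, x⁻¹ ∈ K := by
    intro x hx
    have h2 : x⁻¹ = x ^ (orderOf x - 1) := by
      rw [eq_comm, ← mul_one (x ^ _), ← mul_inv_cancel x, ← mul_assoc, ← pow_succ,
        Nat.sub_add_cancel (orderOf_pos x), pow_orderOf_eq_one, one_mul]
    rw [h2]
    exact pow_mem hx _
  let K' : Subgroup H := { K with inv_mem' := fun {x} hx => hinv x hx }
  have h3 : (⊤ : Subgroup H) ≤ K' := by
    rw [← hab, Subgroup.closure_le]
    rintro x (rfl | hx)
    · exact ha
    · rw [Set.mem_singleton_iff.mp hx]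
      exact hb
  have h4 : g ∈ K' := h3 trivial
  have h5 := h4 1 h1
  simpa using h5

theorem closure_pair_of_mem {H : Type*} [Group H] {a b a' b' : H} (hab : Subgroup.closure ({a, b} : Set H) = ⊤)
    (ha : a ∈ Subgroup.closure ({a', b'} : Set H)) (hb : b ∈ Subgroup.closure ({a', b'} : Set H)) :
    Subgroup.closure ({a', b'} : Set H) = ⊤ := by
  rw [eq_top_iff, ← hab, Subgroup.closure_le]
  rintro x (rfl | hx)
  · exact ha
  · rw [Set.mem_singleton_iff.mp hx]
    exact hb

/-! ### Tree certificates -/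

/-- The `i`th entry of a list of elements is the product of a generator and an earlier one. -/
def treeP (gens : List Mat) (T : List Mat) (par : List (ℕ × ℕ)) (i : ℕ) : Bool :=
  (i == 0 && decide (T.getD 0 [] = idM)) ||
    (let p := par.getD i (0, 0)
     decide (p.2 < i) && decide (T.getD i [] = mulM (gens.getD p.1 []) (T.getD p.2 [])))

def treeOK (gens : List Mat) (T : List Mat) (par : List (ℕ × ℕ)) : Prop :=
  ∀ i, i < T.length → treeP gens T par i = true

/-- Running a check on an interval. -/
def allR (P : ℕ → Bool) (lo n : ℕ) : Bool := (List.range' lo n).all P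

theorem of_allR {P : ℕ → Bool} {lo n : ℕ} (h : allR P lo n = true) {i : ℕ} (h1 : lo ≤ i) (h2 : i < lo + n) :
    P i = true :=
  List.all_eq_true.mp h i (List.mem_range'_1.mpr ⟨h1, h2⟩)

theorem tree_elements {K : Subgroup G} {gens : List Mat} {T : List Mat} {par : List (ℕ × ℕ)}
    (hgens : ∀ i, i < gens.length → ∃ g ∈ K, MRep g (gens.getD i [])) (hg : gens.all okM = true)
    (hT : T.all okM = true) (hlen : ∀ p ∈ par, p.1 < gens.length)
    (hpar : par.length = T.length)
    (h : treeOK gens T par) : ∀ i, i < T.length → ∃ g ∈ K, MRep g (T.getD i []) := by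
  intro i
  induction i using Nat.strong_induction_on with
  | _ i ih =>
    intro hi
    have h1 := h i hi
    simp only [treeP, Bool.or_eq_true, Bool.and_eq_true, beq_iff_eq, decide_eq_true_eq] at h1
    rcases h1 with ⟨rfl, h2⟩ | ⟨h2, h3⟩
    · rw [h2]
      exact ⟨1, K.one_mem, rep_one⟩
    · have hp : par.getD i (0, 0) ∈ par := by
        rw [List.getD_eq_getElem _ _ (by omega)]
        exact List.getElem_mem _
      have h4 := hlen _ hp
      obtain ⟨g, hgK, hgR⟩ := hgens _ h4
      have hpi : (par.getD i (0, 0)).2 < T.length := by omega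
      obtain ⟨y, hyK, hyR⟩ := ih _ h2 hpi
      refine ⟨g * y, K.mul_mem hgK hyK, ?_⟩
      rw [h3]
      refine MRep.mul hgR hyR ?_ ?_
      · rw [List.getD_eq_getElem _ _ h4]
        exact List.all_eq_true.mp hg _ (List.getElem_mem _)
      · rw [List.getD_eq_getElem _ _ hpi]
        exact List.all_eq_true.mp hT _ (List.getElem_mem _)

end Cfsg.Agent.Lib.KnownSimple.J1Base
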