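import Cfsg.Agent.Lib.KnownSimple.J1Data

/-!
# Kernel checks for the Janko group `J₁`
-/

set_option autoImplicit false

namespace Cfsg.Agent.Lib.KnownSimple.J1Checks

open Cfsg.Agent.Lib.KnownSimple.J1Base Cfsg.Agent.Lib.KnownSimple.J1Data

theorem okU : Ul.all okM = true := by decide +kernel
theorem okC : Cl.all okM = true := by decide +kernel
theorem okW : Wl.all okM = true := by decide +kernel
theorem okT : Tl.all okM = true := by decide +kernel
theorem oke : eMl.all okM = true := by decide +kernel
theorem lenU : Ul.length = 1463 := by decide +kernel
theorem lenC : Cl.length = 120 := by decide +kernel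
theorem lenT : Tl.length = 8 := by decide +kernel
theorem lenW : Wl.length = 104 := by decide +kernel
theorem parLenU : parU.length = Ul.length := by decide +kernel
theorem parLenC : parC.length = Cl.length := by decide +kernel
theorem parLenT : parT.length = Tl.length := by decide +kernel
theorem parLenW : parW.length = Wl.length := by decide +kernel
theorem parBoundU : ∀ p ∈ parU, p.1 < 2 := by decide +kernel
theorem parBoundC : ∀ p ∈ parC, p.1 < 3 := by decide +kernel
theorem parBoundT : ∀ p ∈ parT, p.1 < 3 := by decide +kernel
theorem parBoundW : ∀ p ∈ parW, p.1 < 2 := by decide +kernel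
theorem okt : okM tM = true := by decide +kernel
theorem okal : okM alM = true := by decide +kernel
theorem okbe : okM beM = true := by decide +kernel
theorem oka : okM aM = true := by decide +kernel
theorem okn : okM nM = true := by decide +kernel
theorem oke2 : okM e2M = true := by decide +kernel
theorem oke3 : okM e3M = true := by decide +kernel
theorem idM_mem_U : idM ∈ Ul := by decide +kernel
theorem ndC : Cl.Nodup := by decide +kernel
theorem ndT : Tl.Nodup := by decide +kernel

theorem treeW : treeOK [xM, yM] Wl parW := by
  rw [treeOK, lenW]
  intro i hi
  exact of_allR (P := treeP [xM, yM] Wl parW) (lo := 0) (n := 104) (by decide +kernel) (by omega) (by omega)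

theorem treeT : treeOK [tM, e2M, e3M] Tl parT := by
  rw [treeOK, lenT]
  intro i hi
  exact of_allR (P := treeP [tM, e2M, e3M] Tl parT) (lo := 0) (n := 8) (by decide +kernel) (by omega) (by omega)

theorem treeC : treeOK [alM, beM, tM] Cl parC := by
  rw [treeOK, lenC]
  intro i hi
  exact of_allR (P := treeP [alM, beM, tM] Cl parC) (lo := 0) (n := 120) (by decide +kernel) (by omega) (by omega)

theorem clT : [tM, e2M, e3M].all (fun g => Tl.all fun c => Tl.contains (mulM g c)) = true := by decide +kernel
theorem clC1 : Cl.all (fun c => Cl.contains (mulM alM c)) = true := by decide +kernel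
theorem clC2 : Cl.all (fun c => Cl.contains (mulM beM c)) = true := by decide +kernel
theorem clC3 : Cl.all (fun c => Cl.contains (mulM tM c)) = true := by decide +kernel
theorem clC : [alM, beM, tM].all (fun g => Cl.all fun c => Cl.contains (mulM g c)) = true := by
  simp only [List.all_cons, List.all_nil, Bool.and_true, clC1, clC2, clC3]

/-- The covering property for a generator. -/
def coverP (s : Mat) (tab : List (ℕ × ℕ)) (i : ℕ) : Bool :=
  let q := tab.getD i (0, 0)
  decide (q.1 < Ul.length) && decide (q.2 < Cl.length) &&
    decide (mulM s (Ul.getD i []) = mulM (Ul.getD q.1 []) (Cl.getD q.2 []))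

def coverOK (s : Mat) (tab : List (ℕ × ℕ)) : Prop := ∀ i, i < Ul.length → coverP s tab i = true

theorem treeU_0 : allR (treeP [xM, yM] Ul parU) 0 100 = true := by decide +kernel
theorem treeU_100 : allR (treeP [xM, yM] Ul parU) 100 100 = true := by decide +kernel
theorem treeU_200 : allR (treeP [xM, yM] Ul parU) 200 100 = true := by decide +kernel
theorem treeU_300 : allR (treeP [xM, yM] Ul parU) 300 100 = true := by decide +kernel
theorem treeU_400 : allR (treeP [xM, yM] Ul parU) 400 100 = true := by decide +kernel
theorem treeU_500 : allR (treeP [xM, yM] Ul parU) 500 100 = true := by decide +kernel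
theorem treeU_600 : allR (treeP [xM, yM] Ul parU) 600 100 = true := by decide +kernel
theorem treeU_700 : allR (treeP [xM, yM] Ul parU) 700 100 = true := by decide +kernel
theorem treeU_800 : allR (treeP [xM, yM] Ul parU) 800 100 = true := by decide +kernel
theorem treeU_900 : allR (treeP [xM, yM] Ul parU) 900 100 = true := by decide +kernel
theorem treeU_1000 : allR (treeP [xM, yM] Ul parU) 1000 100 = true := by decide +kernel
theorem treeU_1100 : allR (treeP [xM, yM] Ul parU) 1100 100 = true := by decide +kernel
theorem treeU_1200 : allR (treeP [xM, yM] Ul parU) 1200 100 = true := by decide +kernel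
theorem treeU_1300 : allR (treeP [xM, yM] Ul parU) 1300 100 = true := by decide +kernel
theorem treeU_1400 : allR (treeP [xM, yM] Ul parU) 1400 63 = true := by decide +kernel

theorem treeU : treeOK [xM, yM] Ul parU := by
  rw [treeOK, lenU]
  intro i hi
  by_cases h0 : i < 100
  · exact of_allR treeU_0 (by omega) (by omega)
  by_cases h100 : i < 200
  · exact of_allR treeU_100 (by omega) (by omega)
  by_cases h200 : i < 300
  · exact of_allR treeU_200 (by omega) (by omega)
  by_cases h300 : i < 400
  · exact of_allR treeU_300 (by omega) (by omega)
  by_cases h400 : i < 500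
  · exact of_allR treeU_400 (by omega) (by omega)
  by_cases h500 : i < 600
  · exact of_allR treeU_500 (by omega) (by omega)
  by_cases h600 : i < 700
  · exact of_allR treeU_600 (by omega) (by omega)
  by_cases h700 : i < 800
  · exact of_allR treeU_700 (by omega) (by omega)
  by_cases h800 : i < 900
  · exact of_allR treeU_800 (by omega) (by omega)
  by_cases h900 : i < 1000
  · exact of_allR treeU_900 (by omega) (by omega)
  by_cases h1000 : i < 1100
  · exact of_allR treeU_1000 (by omega) (by omega)
  by_cases h1100 : i < 1200
  · exact of_allR treeU_1100 (by omega) (by omega)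
  by_cases h1200 : i < 1300
  · exact of_allR treeU_1200 (by omega) (by omega)
  by_cases h1300 : i < 1400
  · exact of_allR treeU_1300 (by omega) (by omega)
  by_cases h1400 : i < 1463
  · exact of_allR treeU_1400 (by omega) (by omega)
  omega

theorem coverX_0 : allR (coverP xM tabX) 0 100 = true := by decide +kernel
theorem coverX_100 : allR (coverP xM tabX) 100 100 = true := by decide +kernel
theorem coverX_200 : allR (coverP xM tabX) 200 100 = true := by decide +kernel
theorem coverX_300 : allR (coverP xM tabX) 300 100 = true := by decide +kernel
theorem coverX_400 : allR (coverP xM tabX) 400 100 = true := by decide +kernel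
theorem coverX_500 : allR (coverP xM tabX) 500 100 = true := by decide +kernel
theorem coverX_600 : allR (coverP xM tabX) 600 100 = true := by decide +kernel
theorem coverX_700 : allR (coverP xM tabX) 700 100 = true := by decide +kernel
theorem coverX_800 : allR (coverP xM tabX) 800 100 = true := by decide +kernel
theorem coverX_900 : allR (coverP xM tabX) 900 100 = true := by decide +kernel
theorem coverX_1000 : allR (coverP xM tabX) 1000 100 = true := by decide +kernel
theorem coverX_1100 : allR (coverP xM tabX) 1100 100 = true := by decide +kernel
theorem coverX_1200 : allR (coverP xM tabX) 1200 100 = true := by decide +kernel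
theorem coverX_1300 : allR (coverP xM tabX) 1300 100 = true := by decide +kernel
theorem coverX_1400 : allR (coverP xM tabX) 1400 63 = true := by decide +kernel

theorem coverX : coverOK xM tabX := by
  rw [coverOK, lenU]
  intro i hi
  by_cases h0 : i < 100
  · exact of_allR coverX_0 (by omega) (by omega)
  by_cases h100 : i < 200
  · exact of_allR coverX_100 (by omega) (by omega)
  by_cases h200 : i < 300
  · exact of_allR coverX_200 (by omega) (by omega)
  by_cases h300 : i < 400
  · exact of_allR coverX_300 (by omega) (by omega)
  by_cases h400 : i < 500
  · exact of_allR coverX_400 (by omega) (by omega)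
  by_cases h500 : i < 600
  · exact of_allR coverX_500 (by omega) (by omega)
  by_cases h600 : i < 700
  · exact of_allR coverX_600 (by omega) (by omega)
  by_cases h700 : i < 800
  · exact of_allR coverX_700 (by omega) (by omega)
  by_cases h800 : i < 900
  · exact of_allR coverX_800 (by omega) (by omega)
  by_cases h900 : i < 1000
  · exact of_allR coverX_900 (by omega) (by omega)
  by_cases h1000 : i < 1100
  · exact of_allR coverX_1000 (by omega) (by omega)
  by_cases h1100 : i < 1200
  · exact of_allR coverX_1100 (by omega) (by omega)
  by_cases h1200 : i < 1300
  · exact of_allR coverX_1200 (by omega) (by omega)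
  by_cases h1300 : i < 1400
  · exact of_allR coverX_1300 (by omega) (by omega)
  by_cases h1400 : i < 1463
  · exact of_allR coverX_1400 (by omega) (by omega)
  omega

theorem coverY_0 : allR (coverP yM tabY) 0 100 = true := by decide +kernel
theorem coverY_100 : allR (coverP yM tabY) 100 100 = true := by decide +kernel
theorem coverY_200 : allR (coverP yM tabY) 200 100 = true := by decide +kernel
theorem coverY_300 : allR (coverP yM tabY) 300 100 = true := by decide +kernel
theorem coverY_400 : allR (coverP yM tabY) 400 100 = true := by decide +kernel
theorem coverY_500 : allR (coverP yM tabY) 500 100 = true := by decide +kernel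
theorem coverY_600 : allR (coverP yM tabY) 600 100 = true := by decide +kernel
theorem coverY_700 : allR (coverP yM tabY) 700 100 = true := by decide +kernel
theorem coverY_800 : allR (coverP yM tabY) 800 100 = true := by decide +kernel
theorem coverY_900 : allR (coverP yM tabY) 900 100 = true := by decide +kernel
theorem coverY_1000 : allR (coverP yM tabY) 1000 100 = true := by decide +kernel
theorem coverY_1100 : allR (coverP yM tabY) 1100 100 = true := by decide +kernel
theorem coverY_1200 : allR (coverP yM tabY) 1200 100 = true := by decide +kernel
theorem coverY_1300 : allR (coverP yM tabY) 1300 100 = true := by decide +kernel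
theorem coverY_1400 : allR (coverP yM tabY) 1400 63 = true := by decide +kernel

theorem coverY : coverOK yM tabY := by
  rw [coverOK, lenU]
  intro i hi
  by_cases h0 : i < 100
  · exact of_allR coverY_0 (by omega) (by omega)
  by_cases h100 : i < 200
  · exact of_allR coverY_100 (by omega) (by omega)
  by_cases h200 : i < 300
  · exact of_allR coverY_200 (by omega) (by omega)
  by_cases h300 : i < 400
  · exact of_allR coverY_300 (by omega) (by omega)
  by_cases h400 : i < 500
  · exact of_allR coverY_400 (by omega) (by omega)
  by_cases h500 : i < 600
  · exact of_allR coverY_500 (by omega) (by omega)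
  by_cases h600 : i < 700
  · exact of_allR coverY_600 (by omega) (by omega)
  by_cases h700 : i < 800
  · exact of_allR coverY_700 (by omega) (by omega)
  by_cases h800 : i < 900
  · exact of_allR coverY_800 (by omega) (by omega)
  by_cases h900 : i < 1000
  · exact of_allR coverY_900 (by omega) (by omega)
  by_cases h1000 : i < 1100
  · exact of_allR coverY_1000 (by omega) (by omega)
  by_cases h1100 : i < 1200
  · exact of_allR coverY_1100 (by omega) (by omega)
  by_cases h1200 : i < 1300
  · exact of_allR coverY_1200 (by omega) (by omega)
  by_cases h1300 : i < 1400
  · exact of_allR coverY_1300 (by omega) (by omega)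
  by_cases h1400 : i < 1463
  · exact of_allR coverY_1400 (by omega) (by omega)
  omega

end Cfsg.Agent.Lib.KnownSimple.J1Checks
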