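import Cfsg.Agent.Lib.KnownSimple.J1Checks
import Cfsg.Agent.Lib.KnownSimple.J1Data2

/-!
# The Janko group `J₁`: order and involutions
-/

set_option autoImplicit false

namespace Cfsg.Agent.Lib.KnownSimple.J1Group

open Cfsg Cfsg.Spor Cfsg.Agent.Lib.KnownSimple.J1Base Cfsg.Agent.Lib.KnownSimple.J1Data
open Cfsg.Agent.Lib.KnownSimple.J1Checks Cfsg.Agent.Lib.KnownSimple.J1Data2
open scoped commutatorElement Pointwise

/-! ### Elements -/

theorem exists_of_xy {K : Subgroup G} (hx : xG ∈ K) (hy : yG ∈ K) {T : List Mat} {par : List (ℕ × ℕ)}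
    (hT : T.all okM = true) (hlen : ∀ p ∈ par, p.1 < 2) (hpar : par.length = T.length)
    (h : treeOK [xM, yM] T par) : ∀ i, i < T.length → ∃ g ∈ K, MRep g (T.getD i []) := by
  refine tree_elements (gens := [xM, yM]) ?_ (by decide) hT hlen hpar h
  intro i hi
  have hi2 : i < 2 := hi
  interval_cases i
  · exact ⟨xG, hx, rep_x⟩
  · exact ⟨yG, hy, rep_y⟩

theorem exists_W (i : ℕ) (hi : i < Wl.length) : ∃ g : G, MRep g (Wl.getD i []) := by
  obtain ⟨g, -, hg⟩ := exists_of_xy (K := ⊤) trivial trivial okW parBoundW parLenW treeW i hi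
  exact ⟨g, hg⟩

theorem exists_rep_of_W {A : Mat} {i : ℕ} (hi : i < Wl.length) (h : Wl.getD i [] = A) : ∃ g : G, MRep g A := by
  rw [← h]
  exact exists_W i hi

theorem ex_t : ∃ g : G, MRep g tM := exists_rep_of_W (i := 7) (by rw [lenW]; norm_num) (by decide +kernel)
noncomputable def tG : G := ex_t.choose
theorem rep_t : MRep tG tM := ex_t.choose_spec
theorem ex_al : ∃ g : G, MRep g alM := exists_rep_of_W (i := 21) (by rw [lenW]; norm_num) (by decide +kernel)
noncomputable def alG : G := ex_al.choose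
theorem rep_al : MRep alG alM := ex_al.choose_spec
theorem ex_be : ∃ g : G, MRep g beM := exists_rep_of_W (i := 38) (by rw [lenW]; norm_num) (by decide +kernel)
noncomputable def beG : G := ex_be.choose
theorem rep_be : MRep beG beM := ex_be.choose_spec
theorem ex_a : ∃ g : G, MRep g aM := exists_rep_of_W (i := 52) (by rw [lenW]; norm_num) (by decide +kernel)
noncomputable def aG : G := ex_a.choose
theorem rep_a : MRep aG aM := ex_a.choose_spec
theorem ex_n : ∃ g : G, MRep g nM := exists_rep_of_W (i := 70) (by rw [lenW]; norm_num) (by decide +kernel)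
noncomputable def nG : G := ex_n.choose
theorem rep_n : MRep nG nM := ex_n.choose_spec
theorem ex_g3 : ∃ g : G, MRep g g3M := exists_rep_of_W (i := 83) (by rw [lenW]; norm_num) (by decide +kernel)
noncomputable def g3G : G := ex_g3.choose
theorem rep_g3 : MRep g3G g3M := ex_g3.choose_spec
theorem ex_g5 : ∃ g : G, MRep g g5M := exists_rep_of_W (i := 90) (by rw [lenW]; norm_num) (by decide +kernel)
noncomputable def g5G : G := ex_g5.choose
theorem rep_g5 : MRep g5G g5M := ex_g5.choose_spec
theorem ex_g11 : ∃ g : G, MRep g g11M := exists_rep_of_W (i := 103) (by rw [lenW]; norm_num) (by decide +kernel)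
noncomputable def g11G : G := ex_g11.choose
theorem rep_g11 : MRep g11G g11M := ex_g11.choose_spec

/-! ### Inverses -/

theorem inv_val (g : G) :
    (((g⁻¹ : G).1 : GL (Fin 7) (ZMod 11)) : Matrix (Fin 7) (Fin 7) (ZMod 11)) =
      ((g.1 : GL (Fin 7) (ZMod 11)) : Matrix (Fin 7) (Fin 7) (ZMod 11)).transpose := by
  obtain ⟨g, hg⟩ := g
  have hg' : g ∈ Subgroup.closure ({jankoX, jankoY} : Set (GL (Fin 7) (ZMod 11))) := hg
  show ((g⁻¹ : GL (Fin 7) (ZMod 11)) : Matrix (Fin 7) (Fin 7) (ZMod 11)) = (g : Matrix (Fin 7) (Fin 7) (ZMod 11)).transpose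
  clear hg
  induction hg' using Subgroup.closure_induction with
  | mem x hx =>
    rcases hx with rfl | hx
    · rfl
    · rw [Set.mem_singleton_iff] at hx
      subst hx
      rfl
  | one => simp
  | mul x y _ _ hx hy =>
    rw [mul_inv_rev, Units.val_mul, Units.val_mul, Matrix.transpose_mul, hx, hy]
  | inv x _ hx =>
    rw [inv_inv, hx, Matrix.transpose_transpose]

theorem rep_inv {g : G} {A : Mat} (hg : MRep g A) (hA : okM A = true) : MRep g⁻¹ (tr A) := by
  unfold MRep at *
  rw [inv_val, hg, toM_tr hA]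

/-- Conjugation of `t`. -/
def conjT (A : Mat) : Mat := mulM (mulM A tM) (tr A)

theorem okM_tr {A : Mat} (hA : okM A = true) : okM (tr A) = true := by
  have hA' := okM_length hA
  simp only [okM, Bool.and_eq_true, beq_iff_eq, List.all_eq_true, decide_eq_true_eq]
  refine ⟨rfl, ?_⟩
  intro r hr
  simp only [tr, List.mem_cons, List.not_mem_nil, or_false] at hr
  obtain ⟨j, hj, rfl⟩ : ∃ j, j < 7 ∧ r = col A j := by
    rcases hr with rfl | rfl | rfl | rfl | rfl | rfl | rfl
    · exact ⟨0, by norm_num, rfl⟩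
    · exact ⟨1, by norm_num, rfl⟩
    · exact ⟨2, by norm_num, rfl⟩
    · exact ⟨3, by norm_num, rfl⟩
    · exact ⟨4, by norm_num, rfl⟩
    · exact ⟨5, by norm_num, rfl⟩
    · exact ⟨6, by norm_num, rfl⟩
  refine ⟨col_length _ _ hA', ?_⟩
  intro x hx
  rw [col, List.mem_map] at hx
  obtain ⟨w, hw, rfl⟩ := hx
  obtain ⟨i, hi, rfl⟩ := List.getElem_of_mem hw
  have := okM_ent hA (i := i) (by omega) hj
  rwa [List.getD_eq_getElem _ _ hi] at this

theorem rep_conj {g h : G} {A B : Mat} (hg : MRep g A) (hh : MRep h B) (hA : okM A = true) (hB : okM B = true) :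
    MRep (g * h * g⁻¹) (mulM (mulM A B) (tr A)) :=
  (hg.mul hh hA hB).mul (rep_inv hg hA) (okM_mul hA) (okM_tr hA)

/-! ### Tables of closures -/

theorem closure_subset_of_closed {H : Type*} [Group H] [Finite H] {gs : Set H} {S : Set H} (h1 : (1 : H) ∈ S)
    (h : ∀ g ∈ gs, ∀ s ∈ S, g * s ∈ S) : ∀ x ∈ Subgroup.closure gs, x ∈ S := by
  let K : Submonoid H :=
    { carrier := {x | ∀ s ∈ S, x * s ∈ S}
      one_mem' := by intro s hs; simpa using hs
      mul_mem' := by
        intro x y hx hy s hs
        rw [mul_assoc]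
        exact hx _ (hy _ hs) }
  have hinv : ∀ x ∈ K, x⁻¹ ∈ K := by
    intro x hx
    have h2 : x⁻¹ = x ^ (orderOf x - 1) := by
      rw [eq_comm, ← mul_one (x ^ _), ← mul_inv_cancel x, ← mul_assoc, ← pow_succ,
        Nat.sub_add_cancel (orderOf_pos x), pow_orderOf_eq_one, one_mul]
    rw [h2]
    exact pow_mem hx _
  let K' : Subgroup H := { K with inv_mem' := fun {x} hx => hinv x hx }
  have h3 : Subgroup.closure gs ≤ K' := by
    rw [Subgroup.closure_le]
    intro x hx
    exact h x hx
  intro x hx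
  have h5 := h3 hx 1 h1
  simpa using h5

theorem table_mem {gs : List G} {gm : List Mat} {T : List Mat} {par : List (ℕ × ℕ)}
    (hlen : gs.length = gm.length)
    (hrep : ∀ i (h : i < gs.length), MRep gs[i] (gm.getD i []))
    (hgm : gm.all okM = true) (hT : T.all okM = true) (hlenp : ∀ p ∈ par, p.1 < gm.length)
    (hpar : par.length = T.length) (h0 : 0 < T.length) (htree : treeOK gm T par)
    (hcl : gm.all (fun g => T.all fun c => T.contains (mulM g c)) = true) :
    ∀ x, x ∈ Subgroup.closure {x | x ∈ gs} ↔ ∃ A ∈ T, MRep x A := by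
  have hgmem : ∀ i (h : i < gm.length), gs[i]'(by omega) ∈ Subgroup.closure {x | x ∈ gs} := by
    intro i h
    exact Subgroup.subset_closure (List.getElem_mem _)
  have htree' := tree_elements (K := Subgroup.closure {x | x ∈ gs}) (gens := gm) (T := T) (par := par) (by
      intro i hi
      exact ⟨_, hgmem i hi, hrep i (by omega)⟩) hgm hT hlenp hpar htree
  have hT0 : T.getD 0 [] = idM := by
    have h1 := htree 0 h0
    simp only [treeP, Bool.or_eq_true, Bool.and_eq_true, beq_iff_eq, decide_eq_true_eq] at h1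
    rcases h1 with ⟨-, h2⟩ | ⟨h2, -⟩
    · exact h2
    · exact absurd h2 (Nat.not_lt_zero _)
  intro x
  constructor
  · intro hx
    refine closure_subset_of_closed (S := {x | ∃ A ∈ T, MRep x A}) ?_ ?_ x hx
    · refine ⟨idM, ?_, rep_one⟩
      rw [← hT0, List.getD_eq_getElem _ _ h0]
      exact List.getElem_mem _
    · rintro g hg s ⟨A, hA, hs⟩
      obtain ⟨i, hi, rfl⟩ := List.getElem_of_mem hg
      have hi' : i < gm.length := by omega
      have h1 := hrep i hi
      have h2 := List.all_eq_true.mp hcl (gm.getD i []) (by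
        rw [List.getD_eq_getElem _ _ hi']
        exact List.getElem_mem _)
      have h3 := List.all_eq_true.mp h2 A hA
      refine ⟨_, ?_, h1.mul hs ?_ (List.all_eq_true.mp hT _ hA)⟩
      · simpa using h3
      · rw [List.getD_eq_getElem _ _ hi']
        exact List.all_eq_true.mp hgm _ (List.getElem_mem _)
  · rintro ⟨A, hA, hx⟩
    obtain ⟨i, hi, rfl⟩ := List.getElem_of_mem hA
    obtain ⟨g, hg, hgR⟩ := htree' i hi
    rw [List.getD_eq_getElem _ _ hi] at hgR
    rwa [rep_inj hx hgR]

theorem table_card {K : Subgroup G} {T : List Mat} (hT : T.all okM = true) (hnd : T.Nodup)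
    (hK : ∀ x, x ∈ K ↔ ∃ A ∈ T, MRep x A) (hex : ∀ A ∈ T, ∃ g : G, MRep g A) : Nat.card K = T.length := by
  classical
  have hchoose : ∀ A : {A // A ∈ T}, ∃ x : K, MRep x.1 A.1 := by
    rintro ⟨A, hA⟩
    obtain ⟨g, hg⟩ := hex A hA
    exact ⟨⟨g, (hK g).mpr ⟨A, hA, hg⟩⟩, hg⟩
  choose f hf using hchoose
  have hbij : Function.Bijective f := by
    constructor
    · intro A B hAB
      have h1 := hf A
      rw [hAB] at h1
      exact Subtype.ext (rep_eq h1 (List.all_eq_true.mp hT _ A.2) (List.all_eq_true.mp hT _ B.2) (hf B))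
    · rintro ⟨x, hx⟩
      obtain ⟨A, hA, hxA⟩ := (hK x).mp hx
      refine ⟨⟨A, hA⟩, Subtype.ext ?_⟩
      exact rep_inj (hf ⟨A, hA⟩) hxA
  rw [← Nat.card_eq_of_bijective f hbij, Nat.card_eq_fintype_card,
    Fintype.card_of_subtype T.toFinset (by simp), List.toFinset_card_of_nodup hnd]

/-! ### The centraliser subgroup -/

/-- The subgroup of order `120`. -/
noncomputable def Cg : Subgroup G := Subgroup.closure {x | x ∈ [alG, beG, tG]}

theorem Cg_spec : ∀ x, x ∈ Cg ↔ ∃ A ∈ Cl, MRep x A := by
  refine table_mem (gm := [alM, beM, tM]) (par := parC) rfl ?_ (by decide +kernel) okC parBoundC parLenC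
    (by decide +kernel) treeC clC
  intro i hi
  have hi3 : i < 3 := hi
  interval_cases i
  · exact rep_al
  · exact rep_be
  · exact rep_t

theorem exists_C {A : Mat} (hA : A ∈ Cl) : ∃ g ∈ Cg, MRep g A := by
  obtain ⟨i, hi, rfl⟩ := List.getElem_of_mem hA
  have h1 := tree_elements (K := Cg) (gens := [alM, beM, tM]) (T := Cl) (par := parC) ?_ (by decide +kernel) okC
    parBoundC parLenC treeC i hi
  · rwa [List.getD_eq_getElem _ _ hi] at h1
  · intro i hi
    have hi3 : i < 3 := hi
    interval_cases i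
    · exact ⟨_, Subgroup.subset_closure (by simp), rep_al⟩
    · exact ⟨_, Subgroup.subset_closure (by simp), rep_be⟩
    · exact ⟨_, Subgroup.subset_closure (by simp), rep_t⟩

theorem card_Cg : Nat.card Cg = 120 := by
  rw [table_card okC ndC Cg_spec (fun A hA => (exists_C hA).imp fun _ h => h.2), lenC]

/-! ### The cover -/

/-- The transversal. -/
def Us : Set G := {u | ∃ A ∈ Ul, MRep u A}

theorem exists_U {A : Mat} (hA : A ∈ Ul) : ∃ g : G, MRep g A := by
  obtain ⟨i, hi, rfl⟩ := List.getElem_of_mem hA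
  obtain ⟨g, -, hg⟩ := exists_of_xy (K := ⊤) trivial trivial okU parBoundU parLenU treeU i hi
  rw [List.getD_eq_getElem _ _ hi] at hg
  exact ⟨g, hg⟩

theorem cover_step {s : G} {sM : Mat} {tab : List (ℕ × ℕ)} (hs : MRep s sM) (hsM : okM sM = true)
    (hc : coverOK sM tab) {g : G} (hg : ∃ u ∈ Us, ∃ c ∈ Cg, g = u * c) :
    ∃ u ∈ Us, ∃ c ∈ Cg, s * g = u * c := by
  obtain ⟨u, ⟨A, hA, hu⟩, c, hc', rfl⟩ := hg
  obtain ⟨i, hi, rfl⟩ := List.getElem_of_mem hA
  have h1 := hc i hi
  simp only [coverP, Bool.and_eq_true, decide_eq_true_eq] at h1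
  obtain ⟨⟨h2, h3⟩, h4⟩ := h1
  rw [List.getD_eq_getElem _ _ h2, List.getD_eq_getElem _ _ h3, List.getD_eq_getElem _ _ hi] at h4
  set q := tab.getD i (0, 0)
  obtain ⟨u', hu'⟩ := exists_U (List.getElem_mem h2)
  obtain ⟨c', hc'm, hc'R⟩ := exists_C (List.getElem_mem h3)
  have h5 : s * u = u' * c' := by
    have h6 := hs.mul hu hsM (List.all_eq_true.mp okU _ (List.getElem_mem hi))
    have h7 := hu'.mul hc'R (List.all_eq_true.mp okU _ (List.getElem_mem h2))
      (List.all_eq_true.mp okC _ (List.getElem_mem h3))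
    rw [h4] at h6
    exact rep_inj h6 h7
  refine ⟨u', ⟨_, List.getElem_mem h2, hu'⟩, c' * c, Cg.mul_mem hc'm hc', ?_⟩
  rw [← mul_assoc, h5, mul_assoc]

theorem cover (g : G) : ∃ u ∈ Us, ∃ c ∈ Cg, g = u * c := by
  refine eq_univ_of_closed (S := {g | ∃ u ∈ Us, ∃ c ∈ Cg, g = u * c}) closure_xy ?_
    (fun s hs => cover_step rep_x hxM coverX hs) (fun s hs => cover_step rep_y hyM coverY hs) g
  exact ⟨1, ⟨idM, idM_mem_U, rep_one⟩, 1, Cg.one_mem, by simp⟩

theorem card_le : Nat.card G ≤ 175560 := by
  classical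
  have hex : ∀ g : G, ∃ p : Fin 1463 × Fin 120, MRep g (mulM (Ul.getD p.1 []) (Cl.getD p.2 [])) := by
    intro g
    obtain ⟨u, ⟨A, hA, hu⟩, c, hc, rfl⟩ := cover g
    obtain ⟨C, hC, hcR⟩ := (Cg_spec c).mp hc
    obtain ⟨i, hi, rfl⟩ := List.getElem_of_mem hA
    obtain ⟨k, hk, rfl⟩ := List.getElem_of_mem hC
    have hi' : i < 1463 := by rw [← lenU]; exact hi
    have hk' : k < 120 := by rw [← lenC]; exact hk
    refine ⟨(⟨i, hi'⟩, ⟨k, hk'⟩), ?_⟩
    simp only
    rw [List.getD_eq_getElem _ _ hi, List.getD_eq_getElem _ _ hk]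
    exact hu.mul hcR (List.all_eq_true.mp okU _ (List.getElem_mem hi)) (List.all_eq_true.mp okC _ (List.getElem_mem hk))
  choose f hf using hex
  have hinj : Function.Injective f := by
    intro g g' h
    have h1 := hf g
    rw [h] at h1
    exact rep_inj h1 (hf g')
  have := Nat.card_le_card_of_injective f hinj
  simpa using this

/-! ### Powers and orders -/

/-- Powers of a list matrix. -/
def powM (A : Mat) : ℕ → Mat
  | 0 => idM
  | n + 1 => mulM A (powM A n)

theorem rep_pow {g : G} {A : Mat} (hg : MRep g A) (hA : okM A = true) (n : ℕ) : MRep (g ^ n) (powM A n) := by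
  induction n with
  | zero =>
    show MRep (g ^ 0) idM
    rw [pow_zero]
    exact rep_one
  | succ n ih =>
    rw [pow_succ']
    refine hg.mul ih hA ?_
    cases n with
    | zero =>
      show okM idM = true
      decide
    | succ n => exact okM_mul hA

theorem orderOf_of_rep {g : G} {A : Mat} {p : ℕ} [hp : Fact p.Prime] (hg : MRep g A) (hA : okM A = true)
    (h1 : powM A p = idM) (h2 : A ≠ idM) : orderOf g = p := by
  apply orderOf_eq_prime
  · have h3 := rep_pow hg hA p
    rw [h1] at h3
    exact rep_inj h3 rep_one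
  · intro h
    rw [h] at hg
    exact h2 (rep_eq hg hA (by decide) rep_one)

theorem comm_of_rep {g h : G} {A B : Mat} (hg : MRep g A) (hh : MRep h B) (hA : okM A = true) (hB : okM B = true)
    (hc : mulM A B = mulM B A) : g * h = h * g := by
  have h1 := hg.mul hh hA hB
  rw [hc] at h1
  exact rep_inj h1 (hh.mul hg hB hA)

theorem ord19 : orderOf aG = 19 := by
  have : Fact (Nat.Prime 19) := ⟨by norm_num⟩
  exact orderOf_of_rep rep_a oka (by decide +kernel) (by decide +kernel)
theorem ord3 : orderOf g3G = 3 := by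
  have : Fact (Nat.Prime 3) := ⟨by norm_num⟩
  exact orderOf_of_rep rep_g3 (by decide +kernel) (by decide +kernel) (by decide +kernel)
theorem ord5 : orderOf g5G = 5 := by
  have : Fact (Nat.Prime 5) := ⟨by norm_num⟩
  exact orderOf_of_rep rep_g5 (by decide +kernel) (by decide +kernel) (by decide +kernel)
theorem ord11 : orderOf g11G = 11 := by
  have : Fact (Nat.Prime 11) := ⟨by norm_num⟩
  exact orderOf_of_rep rep_g11 (by decide +kernel) (by decide +kernel) (by decide +kernel)
theorem ord7 : orderOf xG = 7 := by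
  have : Fact (Nat.Prime 7) := ⟨by norm_num⟩
  exact orderOf_of_rep rep_x hxM (by decide +kernel) (by decide +kernel)
theorem ord2 : orderOf tG = 2 := by
  have : Fact (Nat.Prime 2) := ⟨by norm_num⟩
  exact orderOf_of_rep rep_t okt (by decide +kernel) (by decide +kernel)

/-! ### The Sylow `2`-subgroup -/

noncomputable def e2G : G := xG * tG * xG⁻¹
noncomputable def e3G : G := xG * e2G * xG⁻¹

theorem rep_e2 : MRep e2G e2M := by
  have h := rep_conj rep_x rep_t hxM okt
  rwa [show mulM (mulM xM tM) (tr xM) = e2M by decide +kernel] at h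

theorem rep_e3 : MRep e3G e3M := by
  have h := rep_conj rep_x rep_e2 hxM oke2
  rwa [show mulM (mulM xM e2M) (tr xM) = e3M by decide +kernel] at h

theorem rel_e3 : xG * e3G * xG⁻¹ = tG * e3G := by
  have h := rep_conj rep_x rep_e3 hxM oke3
  rw [show mulM (mulM xM e3M) (tr xM) = mulM tM e3M by decide +kernel] at h
  exact rep_inj h (rep_t.mul rep_e3 okt oke3)

theorem comm_12 : tG * e2G = e2G * tG := comm_of_rep rep_t rep_e2 okt oke2 (by decide +kernel)
theorem comm_13 : tG * e3G = e3G * tG := comm_of_rep rep_t rep_e3 okt oke3 (by decide +kernel)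
theorem comm_23 : e2G * e3G = e3G * e2G := comm_of_rep rep_e2 rep_e3 oke2 oke3 (by decide +kernel)

/-- The subgroup of order `8`. -/
noncomputable def Tg : Subgroup G := Subgroup.closure {x | x ∈ [tG, e2G, e3G]}

theorem Tg_spec : ∀ x, x ∈ Tg ↔ ∃ A ∈ Tl, MRep x A := by
  refine table_mem (gm := [tM, e2M, e3M]) (par := parT) rfl ?_ (by decide +kernel) okT parBoundT parLenT
    (by decide +kernel) treeT clT
  intro i hi
  have hi3 : i < 3 := hi
  interval_cases i
  · exact rep_t
  · exact rep_e2
  · exact rep_e3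

theorem card_Tg : Nat.card Tg = 8 := by
  refine (table_card okT ndT Tg_spec ?_).trans lenT
  intro A hA
  obtain ⟨i, hi, rfl⟩ := List.getElem_of_mem hA
  have h1 := tree_elements (K := Tg) (gens := [tM, e2M, e3M]) (T := Tl) (par := parT) ?_ (by decide +kernel) okT
    parBoundT parLenT treeT i hi
  · rw [List.getD_eq_getElem _ _ hi] at h1
    exact h1.imp fun _ h => h.2
  · intro i hi
    have hi3 : i < 3 := hi
    interval_cases i
    · exact ⟨_, Subgroup.subset_closure (by simp), rep_t⟩
    · exact ⟨_, Subgroup.subset_closure (by simp), rep_e2⟩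
    · exact ⟨_, Subgroup.subset_closure (by simp), rep_e3⟩

theorem card_G : Nat.card G = 175560 := by
  apply le_antisymm card_le
  have h0 : Nat.card G ≠ 0 := Nat.card_pos.ne'
  have d8 : 8 ∣ Nat.card G := by
    rw [← card_Tg]
    exact Subgroup.card_subgroup_dvd_card _
  have d3 : 3 ∣ Nat.card G := by rw [← ord3]; exact orderOf_dvd_natCard _
  have d5 : 5 ∣ Nat.card G := by rw [← ord5]; exact orderOf_dvd_natCard _
  have d7 : 7 ∣ Nat.card G := by rw [← ord7]; exact orderOf_dvd_natCard _
  have d11 : 11 ∣ Nat.card G := by rw [← ord11]; exact orderOf_dvd_natCard _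
  have d19 : 19 ∣ Nat.card G := by rw [← ord19]; exact orderOf_dvd_natCard _
  have h1 : 8 * 3 ∣ Nat.card G := Nat.Coprime.mul_dvd_of_dvd_of_dvd (by norm_num) d8 d3
  have h2 : 8 * 3 * 5 ∣ Nat.card G := Nat.Coprime.mul_dvd_of_dvd_of_dvd (by norm_num) h1 d5
  have h3 : 8 * 3 * 5 * 7 ∣ Nat.card G := Nat.Coprime.mul_dvd_of_dvd_of_dvd (by norm_num) h2 d7
  have h4 : 8 * 3 * 5 * 7 * 11 ∣ Nat.card G := Nat.Coprime.mul_dvd_of_dvd_of_dvd (by norm_num) h3 d11
  have h5 : 8 * 3 * 5 * 7 * 11 * 19 ∣ Nat.card G := Nat.Coprime.mul_dvd_of_dvd_of_dvd (by norm_num) h4 d19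
  exact Nat.le_of_dvd (Nat.pos_of_ne_zero h0) h5

/-! ### Involutions -/

/-- The conjugates of `t` by powers of `x`. -/
def eChainOK : Bool := decide (eMl.getD 0 [] = tM) &&
  (List.range 6).all fun k => decide (eMl.getD (k + 1) [] = mulM (mulM xM (eMl.getD k [])) (tr xM))

theorem eChain : eChainOK = true := by decide +kernel

theorem rep_eMl (k : ℕ) (hk : k < 7) : MRep (xG ^ k * tG * (xG ^ k)⁻¹) (eMl.getD k []) := by
  induction k with
  | zero =>
    have h1 : eMl.getD 0 [] = tM := by
      have := eChain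
      simp only [eChainOK, Bool.and_eq_true, decide_eq_true_eq] at this
      exact this.1
    rw [h1]
    simpa using rep_t
  | succ k ih =>
    have h1 : eMl.getD (k + 1) [] = mulM (mulM xM (eMl.getD k [])) (tr xM) := by
      have := eChain
      simp only [eChainOK, Bool.and_eq_true, decide_eq_true_eq, List.all_eq_true, List.mem_range] at this
      exact this.2 k (by omega)
    rw [h1]
    have h2 : eMl.getD k [] ∈ eMl := by
      rw [List.getD_eq_getElem _ _ (by rw [show eMl.length = 7 by decide +kernel]; omega)]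
      exact List.getElem_mem _
    have h3 := rep_conj rep_x (ih (by omega)) hxM (List.all_eq_true.mp oke _ h2)
    have e : xG * (xG ^ k * tG * (xG ^ k)⁻¹) * xG⁻¹ = xG ^ (k + 1) * tG * (xG ^ (k + 1))⁻¹ := by
      rw [pow_succ']
      group
    rwa [e] at h3

theorem Tl_cases : ∀ A ∈ Tl, A = idM ∨ A ∈ eMl := by decide +kernel

theorem exists_conj_t {g : G} (hg : orderOf g = 2) : ∃ h : G, h * g * h⁻¹ = tG := by
  classical
  have hp2 : Fact (Nat.Prime 2) := ⟨Nat.prime_two⟩
  have hN : Nat.card G = 175560 := card_G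
  have hfact : (Nat.card G).factorization 2 = 3 := by
    have h0 : Nat.card G ≠ 0 := by rw [hN]; norm_num
    have h1 : 3 ≤ (Nat.card G).factorization 2 :=
      (Nat.prime_two.pow_dvd_iff_le_factorization h0).mp (by rw [hN]; norm_num)
    have h2 : ¬ 4 ≤ (Nat.card G).factorization 2 := fun h =>
      absurd ((Nat.prime_two.pow_dvd_iff_le_factorization h0).mpr h) (by rw [hN]; norm_num)
    omega
  let PT : Sylow 2 G := Sylow.ofCard Tg (by rw [card_Tg, hfact]; norm_num)
  have hpg : IsPGroup 2 (Subgroup.zpowers g) :=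
    IsPGroup.of_card (n := 1) (by rw [Nat.card_zpowers, hg, pow_one])
  obtain ⟨Q, hQ⟩ := hpg.exists_le_sylow
  obtain ⟨h, hh⟩ := MulAction.exists_smul_eq G Q PT
  have hmem : h * g * h⁻¹ ∈ Tg := by
    have h2 : ((h • Q : Sylow 2 G) : Subgroup G) = Tg := by rw [hh]; rfl
    rw [Sylow.coe_subgroup_smul] at h2
    rw [← h2]
    have h3 : MulAut.conj h • g ∈ MulAut.conj h • (Q : Subgroup G) :=
      Subgroup.smul_mem_pointwise_smul g _ _ (hQ (Subgroup.mem_zpowers g))
    exact h3
  obtain ⟨A, hA, hAR⟩ := (Tg_spec _).mp hmem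
  rcases Tl_cases A hA with rfl | hA2
  · exfalso
    have h3 : h * g * h⁻¹ = 1 := rep_inj hAR rep_one
    have h4 : g = 1 := by
      have : g = h⁻¹ * (h * g * h⁻¹) * h := by group
      rw [this, h3]; group
    rw [h4, orderOf_one] at hg
    norm_num at hg
  · obtain ⟨k, hk, rfl⟩ := List.getElem_of_mem hA2
    have hk7 : k < 7 := by rwa [show eMl.length = 7 by decide +kernel] at hk
    have h5 := rep_eMl k hk7
    rw [List.getD_eq_getElem _ _ hk] at h5
    have h6 := rep_inj hAR h5
    refine ⟨(xG ^ k)⁻¹ * h, ?_⟩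
    have : (xG ^ k)⁻¹ * h * g * ((xG ^ k)⁻¹ * h)⁻¹ = (xG ^ k)⁻¹ * (h * g * h⁻¹) * xG ^ k := by group
    rw [this, h6]
    group

/-- `Cg` centralises `t`. -/
theorem Cg_comm {c : G} (hc : c ∈ Cg) : c * tG * c⁻¹ = tG := by
  have hle : Cg ≤ Subgroup.centralizer ({tG} : Set G) := by
    rw [Cg, Subgroup.closure_le]
    intro x hx
    simp only [List.mem_cons, List.not_mem_nil, or_false, Set.mem_setOf_eq] at hx
    rw [SetLike.mem_coe, Subgroup.mem_centralizer_singleton_iff]
    rcases hx with rfl | rfl | rfl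
    · exact (comm_of_rep rep_al rep_t okal okt (by decide +kernel))
    · exact (comm_of_rep rep_be rep_t okbe okt (by decide +kernel))
    · rfl
  have h1 := hle hc
  rw [Subgroup.mem_centralizer_singleton_iff] at h1
  rw [h1]
  group

theorem conjL_eq : Ll.length = Ul.length := by decide +kernel

/-- Conjugates in the table: a check on an interval. -/
def conjLP (i : ℕ) : Bool := decide (Ll.getD i [] = conjT (Ul.getD i []))

theorem okL : Ll.all okM = true := by decide +kernel

theorem conjL_0 : allR conjLP 0 100 = true := by decide +kernel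
theorem conjL_100 : allR conjLP 100 100 = true := by decide +kernel
theorem conjL_200 : allR conjLP 200 100 = true := by decide +kernel
theorem conjL_300 : allR conjLP 300 100 = true := by decide +kernel
theorem conjL_400 : allR conjLP 400 100 = true := by decide +kernel
theorem conjL_500 : allR conjLP 500 100 = true := by decide +kernel
theorem conjL_600 : allR conjLP 600 100 = true := by decide +kernel
theorem conjL_700 : allR conjLP 700 100 = true := by decide +kernel
theorem conjL_800 : allR conjLP 800 100 = true := by decide +kernel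
theorem conjL_900 : allR conjLP 900 100 = true := by decide +kernel
theorem conjL_1000 : allR conjLP 1000 100 = true := by decide +kernel
theorem conjL_1100 : allR conjLP 1100 100 = true := by decide +kernel
theorem conjL_1200 : allR conjLP 1200 100 = true := by decide +kernel
theorem conjL_1300 : allR conjLP 1300 100 = true := by decide +kernel
theorem conjL_1400 : allR conjLP 1400 63 = true := by decide +kernel

theorem conjL_all : ∀ i, i < Ul.length → conjLP i = true := by
  rw [lenU]
  intro i hi
  by_cases h0 : i < 100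
  · exact of_allR conjL_0 (by omega) (by omega)
  by_cases h100 : i < 200
  · exact of_allR conjL_100 (by omega) (by omega)
  by_cases h200 : i < 300
  · exact of_allR conjL_200 (by omega) (by omega)
  by_cases h300 : i < 400
  · exact of_allR conjL_300 (by omega) (by omega)
  by_cases h400 : i < 500
  · exact of_allR conjL_400 (by omega) (by omega)
  by_cases h500 : i < 600
  · exact of_allR conjL_500 (by omega) (by omega)
  by_cases h600 : i < 700
  · exact of_allR conjL_600 (by omega) (by omega)
  by_cases h700 : i < 800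
  · exact of_allR conjL_700 (by omega) (by omega)
  by_cases h800 : i < 900
  · exact of_allR conjL_800 (by omega) (by omega)
  by_cases h900 : i < 1000
  · exact of_allR conjL_900 (by omega) (by omega)
  by_cases h1000 : i < 1100
  · exact of_allR conjL_1000 (by omega) (by omega)
  by_cases h1100 : i < 1200
  · exact of_allR conjL_1100 (by omega) (by omega)
  by_cases h1200 : i < 1300
  · exact of_allR conjL_1200 (by omega) (by omega)
  by_cases h1300 : i < 1400
  · exact of_allR conjL_1300 (by omega) (by omega)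
  by_cases h1400 : i < 1463
  · exact of_allR conjL_1400 (by omega) (by omega)
  omega

/-- Every involution is in the list. -/
theorem involution_mem {g : G} (hg : orderOf g = 2) : ∃ i, i < Ll.length ∧ MRep g (Ll.getD i []) := by
  obtain ⟨h, hh⟩ := exists_conj_t hg
  obtain ⟨u, ⟨A, hA, hu⟩, c, hc, huc⟩ := cover h⁻¹
  have h1 : g = u * tG * u⁻¹ := by
    have h2 : g = h⁻¹ * tG * h⁻¹⁻¹ := by rw [← hh]; group
    rw [h2, huc]
    have h3 := Cg_comm hc
    calc u * c * tG * (u * c)⁻¹ = u * (c * tG * c⁻¹) * u⁻¹ := by group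
      _ = u * tG * u⁻¹ := by rw [h3]
  obtain ⟨i, hi, rfl⟩ := List.getElem_of_mem hA
  refine ⟨i, by rw [conjL_eq]; exact hi, ?_⟩
  have h4 : Ll.getD i [] = conjT (Ul[i]) := by
    have := conjL_all i hi
    simp only [conjLP, decide_eq_true_eq] at this
    rwa [List.getD_eq_getElem _ _ hi] at this
  rw [h4, h1]
  exact rep_conj hu rep_t (List.all_eq_true.mp okU _ (List.getElem_mem hi)) okt

theorem Ll_tail : Ll.tail.all (fun A => decide (A ≠ tM)) = true := by decide +kernel
theorem Ul_head : Ul.getD 0 [] = idM := by decide +kernel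

/-- The centraliser of `t` is the table. -/
theorem centralizer_eq : Subgroup.centralizer ({tG} : Set G) = Cg := by
  apply le_antisymm
  · intro g hg
    rw [Subgroup.mem_centralizer_singleton_iff] at hg
    obtain ⟨u, ⟨A, hA, hu⟩, c, hc, rfl⟩ := cover g
    have h1 : u * tG * u⁻¹ = tG := by
      have h3 := Cg_comm hc
      have h4 : (u * c) * tG * (u * c)⁻¹ = tG := by rw [hg]; group
      calc u * tG * u⁻¹ = u * (c * tG * c⁻¹) * u⁻¹ := by rw [h3]
        _ = (u * c) * tG * (u * c)⁻¹ := by group
        _ = tG := h4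
    obtain ⟨i, hi, rfl⟩ := List.getElem_of_mem hA
    have hokU := List.all_eq_true.mp okU _ (List.getElem_mem hi)
    have h5 : Ll.getD i [] = conjT (Ul[i]) := by
      have := conjL_all i hi
      simp only [conjLP, decide_eq_true_eq] at this
      rwa [List.getD_eq_getElem _ _ hi] at this
    have h6 := rep_conj hu rep_t hokU okt
    rw [h1] at h6
    have hL : Ll.getD i [] = tM := by
      rw [h5]
      exact rep_eq h6 (okM_mul (okM_mul hokU)) okt rep_t
    have hi0 : i = 0 := by
      by_contra hne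
      have hlen : i < Ll.length := by rw [conjL_eq]; exact hi
      obtain ⟨j, rfl⟩ : ∃ j, i = j + 1 := ⟨i - 1, by omega⟩
      have hj : j < Ll.tail.length := by rw [List.length_tail]; omega
      have h7 : Ll.tail[j]'hj ≠ tM := by
        have := List.all_eq_true.mp Ll_tail _ (List.getElem_mem (l := Ll.tail) (n := j) hj)
        simpa only [decide_eq_true_eq] using this
      apply h7
      rw [List.getElem_tail]
      rwa [List.getD_eq_getElem _ _ hlen] at hL
    subst hi0
    have h8 : u = 1 := by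
      have hU0 := Ul_head
      rw [List.getD_eq_getElem _ _ (by rw [lenU]; norm_num)] at hU0
      rw [hU0] at hu
      exact rep_inj hu rep_one
    rw [h8, one_mul]
    exact hc
  · intro c hc
    rw [Subgroup.mem_centralizer_singleton_iff]
    have h1 := Cg_comm hc
    rw [← h1]
    simp only [mul_inv_cancel_right, h1]
    rw [← mul_inv_eq_iff_eq_mul]
    exact h1

end Cfsg.Agent.Lib.KnownSimple.J1Group
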