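import Mathlib
import Cfsg.Agent.Lib.KnownSimple.LabTower

/-!
# Tables over a subgroup given by a table: the order, and the upper bound alone
-/

set_option autoImplicit false

universe u

namespace Cfsg.Agent.Lib.KnownSimple.Lab

open Subgroup Dat

section

variable {G : Type u} [Group G] [Finite G]

/-- The order of a group with a table over a subgroup with a table is at most the expected one. -/
theorem card_le_T (D : Dat) (s : ℕ) (hk : D.k = 2 * s) (hn : 0 < D.n) (g : ℕ → G)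
    (hgi : ∀ a < s, g (a + s) = (g a)⁻¹) (hgen : closure (g '' {a | a < 2 * s}) = ⊤)
    (hw : ℕ → List ℕ) (s' : ℕ) (hwl : ∀ b < 2 * s', ∀ a ∈ hw b, a < 2 * s)
    (hwi : ∀ b < s', hw (b + s') = invW s (hw b))
    (E : Dat) (hE : E.k = 2 * s') (pc : List PC) (hpc : pcWF pc = true)
    (hlet : ∀ p ∈ pc, ∀ a ∈ p.u, a < 2 * s')
    (hET : ∀ a < E.k, ∀ i < E.n, E.T a i < E.n)
    (hER : ∀ ρ < E.r, ∀ a ∈ E.R ρ, a < E.k)
    (hEn : 0 < E.n)
    (hEp : ∀ j, 0 < j → j < E.n → E.par j < j ∧ E.gn j < E.k ∧ E.T (E.gn j) (E.par j) = j)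
    (pe : ℕ → List ℕ)
    (hEPn : ∀ u < E.m, (E.P u).1 < E.k → (E.P u).2 < E.n)
    (hEvar : ∀ a < E.k, ∀ i < E.n, varOK E a i = true)
    (hG1 : ∀ w ∈ relWords s' pc, wval g (subW hw w) = 1)
    (hG2 : ∀ ρ < E.r, wval g (subW hw (E.R ρ)) = 1)
    (hG3 : ∀ u < E.m, (E.P u).1 < E.k →
      wval g (subW hw (parP s' (pc.map PC.u) E.T E.par E.gn (E.P u).1 (E.P u).2 (pe u))) = 1)
    (hT : ∀ a < D.k, ∀ i < D.n, D.T a i < D.n)
    (hR : ∀ ρ < D.r, ∀ a ∈ D.R ρ, a < D.k)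
    (hp : ∀ j, 0 < j → j < D.n → D.par j < j ∧ D.gn j < D.k ∧ D.T (D.gn j) (D.par j) = j)
    (hrelG : ∀ ρ < D.r, wval g (D.R ρ) = 1)
    (hPk : ∀ t < D.m, ((D.P t).1 < D.k ∧ (D.P t).2 < D.n) ∨
      (D.k ≤ (D.P t).1 ∧ (D.P t).1 - D.k < D.r ∧ (D.P t).2 = 0))
    (hvar : ∀ a < D.k, ∀ i < D.n, varOK D a i = true)
    (qe : ℕ → List ℕ)
    (hqe : ∀ u < D.m, (D.P u).1 < D.k → ∀ b ∈ qe u, b < 2 * s')
    (hparG : ∀ u < D.m, (D.P u).1 < D.k →
      wval g (parH s hw D.T D.par D.gn (D.P u).1 (D.P u).2 (qe u)) = 1) :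
    Nat.card G ≤ D.n * (E.n * (pc.map PC.o).prod) := by
  have hT2 : ∀ a < 2 * s, ∀ i < D.n, D.T a i < D.n := by rw [← hk]; exact hT
  have hPn : ∀ u < D.m, (D.P u).1 < D.k → (D.P u).2 < D.n := by
    intro u hu h
    rcases hPk u hu with h1 | h1
    · exact h1.2
    · omega
  have ht1 : ∀ j < D.n, ∀ b ∈ tw D.par D.gn (j + 1) j, b < 2 * s := by
    intro j hj b hb
    have := tw_letters D.par D.gn D.n D.k (fun j h0 hj => ⟨(hp j h0 hj).1, (hp j h0 hj).2.1⟩)
      (j + 1) j hj b hb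
    omega
  set h : ℕ → G := fun b => wval g (hw b) with hh
  set H : Subgroup G := closure (h '' {b | b < 2 * s'}) with hH
  have hwH : ∀ w : List ℕ, (∀ b ∈ w, b < 2 * s') → wval h w ∈ H := by
    intro w
    induction w with
    | nil => intro _; exact one_mem _
    | cons b w ih =>
      intro hb
      exact mul_mem (subset_closure ⟨b, hb b (by simp), rfl⟩) (ih (fun c hc => hb c (by simp [hc])))
  have hparG' : ∀ u < D.m, (D.P u).1 < D.k →
      sE g (tree g D.par D.gn) D.T (D.P u).1 (D.P u).2 ∈ H := by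
    intro u hu hu1
    have hu2 : (D.P u).1 < 2 * s := by rw [← hk]; exact hu1
    have h2 := sE_of_parH g s hgi hw (qe u) (subW_letters hwl _ (hqe u hu hu1)) D.T D.par D.gn
      (ht1 _ (hT2 _ hu2 _ (hPn u hu hu1))) (hparG u hu hu1)
    rw [h2, mul_one, wval_subW]
    exact hwH _ (hqe u hu hu1)
  have hle1 : Nat.card G ≤ D.n * Nat.card H :=
    card_le_of_flags D s hk g hgi hgen H hT hR hn hp hrelG hparG' hvar
  have hle2 : Nat.card H ≤ E.n * (pc.map PC.o).prod := by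
    have hi : ∀ b < s', h (b + s') = (h b)⁻¹ := by
      intro b hb
      simp only [hh]
      rw [hwi b hb]
      exact wval_invW g s hgi _ (hwl b (by omega))
    have h1 := tower_count E s' hE h hi (⊥ : Subgroup G)
      (fun z hz b _ => by rw [Subgroup.mem_bot.mp hz]; simp) pc hpc hlet
      (fun w hw' => Subgroup.mem_bot.mpr (by
        simp only [hh]
        rw [← wval_subW]
        exact hG1 w hw'))
      hET hER hEn hEp
      (fun ρ hρ => Subgroup.mem_bot.mpr (by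
        simp only [hh]
        rw [← wval_subW]
        exact hG2 ρ hρ))
      pe
      (fun u hu hu1 => Subgroup.mem_bot.mpr (by
        simp only [hh]
        rw [← wval_subW]
        exact hG3 u hu hu1))
      hEPn hEvar
    have e : closure ((h '' {b | b < 2 * s'}) ∪ ((⊥ : Subgroup G) : Set G)) = H := by
      apply le_antisymm
      · rw [closure_le]
        rintro x (hx | hx)
        · exact subset_closure hx
        · rw [Subgroup.mem_bot.mp hx]
          exact one_mem _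
      · exact closure_mono Set.subset_union_left
    rw [e] at h1
    simpa using h1
  exact hle1.trans (Nat.mul_le_mul_left _ hle2)

/-- The upper bound on the kernel of a stem extension, from a table over a subgroup with trivial multiplier. -/
theorem upper_T (D : Dat) (s : ℕ) (hk : D.k = 2 * s) (hn : 0 < D.n) (g : ℕ → G)
    (hgi : ∀ a < s, g (a + s) = (g a)⁻¹) (hgen : closure (g '' {a | a < 2 * s}) = ⊤)
    (hw : ℕ → List ℕ) (s' : ℕ) (hwl : ∀ b < 2 * s', ∀ a ∈ hw b, a < 2 * s)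
    (hcard : Nat.card G = D.n * Nat.card (closure ((fun b => wval g (hw b)) '' {b | b < 2 * s'})))
    (gw : ℕ → List ℕ) (hgw1 : ∀ a < s, ∀ b ∈ gw a, b < 2 * s) (hgw2 : ∀ a < s, wval g (gw a) = g a)
    (hgw3 : ∀ a < s, balanced s (gw a) = true)
    (hT : ∀ a < D.k, ∀ i < D.n, D.T a i < D.n)
    (hR : ∀ ρ < D.r, ∀ a ∈ D.R ρ, a < D.k)
    (hp : ∀ j, 0 < j → j < D.n → D.par j < j ∧ D.gn j < D.k ∧ D.T (D.gn j) (D.par j) = j)
    (hrelG : ∀ ρ < D.r, wval g (D.R ρ) = 1)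
    (hZ : ∀ ρ < D.r, D.Z ρ = true → ∃ a < s, D.R ρ = [a, a + s] ∨ D.R ρ = [a + s, a] ∨
      D.R ρ = (a + s) :: gw a)
    (hPk : ∀ t < D.m, ((D.P t).1 < D.k ∧ (D.P t).2 < D.n) ∨
      (D.k ≤ (D.P t).1 ∧ (D.P t).1 - D.k < D.r ∧ (D.P t).2 = 0))
    (hPL : ∀ t < D.m, vbeq (D.L (D.P t).1 (D.P t).2) (vunit D.m t) = true)
    (hvar : ∀ a < D.k, ∀ i < D.n, varOK D a i = true)
    (hrv : ∀ ρ < D.r, relOK D ρ = true)
    (rels : List (ℕ × ℕ)) (hrels : ∀ x ∈ rels, relClosed D x.1 x.2 = true)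
    (gvs : List (List ℤ)) (b W : ℕ → List ℤ)
    (hfin : ∀ u < D.m, vbeq (vunit D.m u) (vadd (lin (b u) gvs)
      (lin (W u) (rels.map fun x => relRow D x.1 x.2))) = true)
    (hperf : ∀ x : closure ((fun b => wval g (hw b)) '' {b | b < 2 * s'}),
      x ∈ commutator (closure ((fun b => wval g (hw b)) '' {b | b < 2 * s'})))
    (htriv : ∀ (Γ' : Type u) [Group Γ'] [Finite Γ']
      (σ' : Γ' →* closure ((fun b => wval g (hw b)) '' {b | b < 2 * s'})), Cfsg.IsStemExtension σ' →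
      Nat.card σ'.ker = 1)
    (qe : ℕ → List ℕ)
    (hqe : ∀ u < D.m, (D.P u).1 < D.k → ∀ b ∈ qe u, b < 2 * s')
    (hparG : ∀ u < D.m, (D.P u).1 < D.k →
      wval g (parH s hw D.T D.par D.gn (D.P u).1 (D.P u).2 (qe u)) = 1)
    (Γ : Type u) [Group Γ] [Finite Γ] (σ : Γ →* G) (hσ : Cfsg.IsStemExtension σ) :
    ∃ f : List ℤ → σ.ker,
      (∀ x : σ.ker, x ∈ closure (f '' {v | v ∈ gvs})) ∧
      (∀ (v : List ℤ) (N : ℤ) (w : List ℤ),
        vbeq (vscale N v) (lin w (rels.map fun x => relRow D x.1 x.2)) = true → f v ^ N = 1) := by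
  have hT2 : ∀ a < 2 * s, ∀ i < D.n, D.T a i < D.n := by rw [← hk]; exact hT
  have hPn : ∀ u < D.m, (D.P u).1 < D.k → (D.P u).2 < D.n := by
    intro u hu h
    rcases hPk u hu with h1 | h1
    · exact h1.2
    · omega
  have ht1 : ∀ j < D.n, ∀ b ∈ tw D.par D.gn (j + 1) j, b < 2 * s := by
    intro j hj b hb
    have := tw_letters D.par D.gn D.n D.k (fun j h0 hj => ⟨(hp j h0 hj).1, (hp j h0 hj).2.1⟩)
      (j + 1) j hj b hb
    omega
  set h : ℕ → G := fun b => wval g (hw b) with hh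
  set H : Subgroup G := closure (h '' {b | b < 2 * s'}) with hH
  have hwH : ∀ w : List ℕ, (∀ b ∈ w, b < 2 * s') → wval h w ∈ H := by
    intro w
    induction w with
    | nil => intro _; exact one_mem _
    | cons b w ih =>
      intro hb
      exact mul_mem (subset_closure ⟨b, hb b (by simp), rfl⟩) (ih (fun c hc => hb c (by simp [hc])))
  have hparG' : ∀ u < D.m, (D.P u).1 < D.k →
      sE g (tree g D.par D.gn) D.T (D.P u).1 (D.P u).2 ∈ H := by
    intro u hu hu1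
    have hu2 : (D.P u).1 < 2 * s := by rw [← hk]; exact hu1
    have h2 := sE_of_parH g s hgi hw (qe u) (subW_letters hwl _ (hqe u hu hu1)) D.T D.par D.gn
      (ht1 _ (hT2 _ hu2 _ (hPn u hu hu1))) (hparG u hu hu1)
    rw [h2, mul_one, wval_subW]
    exact hwH _ (hqe u hu hu1)
  obtain ⟨U, hU1, hU2, hU3⟩ := split_of_trivial σ hσ H hperf htriv
  exact upper_split σ hσ D s hk g hgi hgen H U hU1 hU2 hU3 hcard gw
    hgw1 hgw2 hgw3 hT hR hn hp hrelG hparG' hZ hPk hPL hvar hrv rels hrels gvs b W hfin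

end

end Cfsg.Agent.Lib.KnownSimple.Lab
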