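import Mathlib
import Cfsg.Agent.Lib.KnownSimple.LabVec
import Cfsg.Agent.Lib.KnownSimple.LabKit

/-!
# A lower bound for the order of a group acting on points, from transversals
-/

set_option autoImplicit false

namespace Cfsg.Agent.Lib.KnownSimple.LabLevels

open Cfsg.Agent.Lib.KnownSimple.Lab
open scoped Matrix

/-- A strictly increasing list. -/
def incr : List ℕ → Bool
  | [] => true
  | [_] => true
  | a :: b :: l => Nat.blt a b && incr (b :: l)

theorem incr_head {a : ℕ} {l : List ℕ} (h : incr (a :: l) = true) : ∀ x ∈ l, a < x := by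
  induction l generalizing a with
  | nil => simp
  | cons b l ih =>
    simp only [incr, Bool.and_eq_true, Nat.blt_eq] at h
    intro x hx
    simp only [List.mem_cons] at hx
    rcases hx with rfl | hx
    · exact h.1
    · exact lt_trans h.1 (ih h.2 x hx)

theorem incr_nodup : ∀ {l : List ℕ}, incr l = true → l.Nodup := by
  intro l
  induction l with
  | nil => simp
  | cons a l ih =>
    intro h
    rw [List.nodup_cons]
    refine ⟨fun ha => lt_irrefl _ (incr_head h a ha), ih ?_⟩
    cases l with
    | nil => rfl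
    | cons b l =>
      simp only [incr, Bool.and_eq_true] at h
      exact h.2

/-- The levels: base points with transversals, each word fixing the earlier base points. -/
def levelsOK (V : ℕ → ℕ → ℕ) (N k : ℕ) : List (ℕ × List (List ℕ)) → Bool
  | [] => true
  | l :: L => Nat.blt l.1 N && l.2.all (fun t => t.all fun a => Nat.blt a k) &&
      incr (l.2.map fun t => walk V t l.1) &&
      L.all (fun l' => l'.2.all fun t => Nat.beq (walk V t l.1) l.1) && levelsOK V N k L

section

variable {X : Type*} [Group X] {F : Type*} [Field F] {d : ℕ}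

theorem word_pts' (ι : X →* Matrix (Fin d) (Fin d) F) {γ : ℕ → X} {V : ℕ → ℕ → ℕ} {P : ℕ → Fin d → F} {k N : ℕ}
    (hV : ∀ a < k, ∀ i < N, V a i < N ∧ ι (γ a) *ᵥ P i = P (V a i)) :
    ∀ (w : List ℕ), (∀ a ∈ w, a < k) → ∀ i < N, walk V w i < N ∧
      ι (wval γ w) *ᵥ P i = P (walk V w i) := by
  intro w
  induction w with
  | nil =>
    intro _ i hi
    simpa using hi
  | cons a w ih =>
    intro hw i hi
    obtain ⟨h2, h3⟩ := ih (fun b hb => hw b (by simp [hb])) i hi
    obtain ⟨h4, h5⟩ := hV a (hw a (by simp)) _ h2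
    refine ⟨h4, ?_⟩
    rw [wval_cons, map_mul, ← Matrix.mulVec_mulVec, h3, h5]
    rfl

/-- The products of the transversal elements are distinct. -/
theorem levels_card (ι : X →* Matrix (Fin d) (Fin d) F) (γ : ℕ → X) (V : ℕ → ℕ → ℕ) (P : ℕ → Fin d → F) (k N : ℕ)
    (hV : ∀ a < k, ∀ i < N, V a i < N ∧ ι (γ a) *ᵥ P i = P (V a i))
    (hP : ∀ i < N, ∀ j < N, P i = P j → i = j) :
    ∀ L : List (ℕ × List (List ℕ)), levelsOK V N k L = true →
      ∃ A : Finset X, A.card = (L.map fun l => l.2.length).prod ∧
        ∀ x ∈ A, ∀ b < N, (∀ l ∈ L, ∀ t ∈ l.2, walk V t b = b) → ι x *ᵥ P b = P b := by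
  classical
  intro L
  induction L with
  | nil =>
    intro _
    refine ⟨{1}, by simp, ?_⟩
    intro x hx b _ _
    rw [Finset.mem_singleton.mp hx, map_one, Matrix.one_mulVec]
  | cons l L ih =>
    intro h
    simp only [levelsOK, Bool.and_eq_true, Nat.blt_eq] at h
    obtain ⟨⟨⟨⟨hb, hlet⟩, hinc⟩, hfix⟩, hL⟩ := h
    obtain ⟨A, hA1, hA2⟩ := ih hL
    have hlet' : ∀ t ∈ l.2, ∀ a ∈ t, a < k := by
      intro t ht a ha
      have := List.all_eq_true.mp (List.all_eq_true.mp hlet t ht) a ha
      exact Nat.le_of_ble_eq_true this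
    have hfixb : ∀ l' ∈ L, ∀ t ∈ l'.2, walk V t l.1 = l.1 := by
      intro l' hl' t ht
      have := List.all_eq_true.mp (List.all_eq_true.mp hfix l' hl') t ht
      exact Nat.eq_of_beq_eq_true this
    have hnod := incr_nodup hinc
    -- the map
    let f : Fin l.2.length × X → X := fun p => wval γ (l.2.get p.1) * p.2
    have hinj : Set.InjOn f ((Finset.univ ×ˢ A : Finset (Fin l.2.length × X)) : Set (Fin l.2.length × X)) := by
      rintro ⟨t, x⟩ hx ⟨t', x'⟩ hx' e
      simp only [Finset.coe_product, Finset.coe_univ, Set.mem_prod, Set.mem_univ, true_and, Finset.mem_coe] at hx hx'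
      simp only [f] at e
      have h1 := hA2 x hx l.1 hb hfixb
      have h2 := hA2 x' hx' l.1 hb hfixb
      have h3 := congrArg (fun y => ι y *ᵥ P l.1) e
      simp only [map_mul, ← Matrix.mulVec_mulVec] at h3
      rw [h1, h2] at h3
      have h4 := word_pts' ι hV _ (hlet' _ (List.get_mem _ t)) _ hb
      have h5 := word_pts' ι hV _ (hlet' _ (List.get_mem _ t')) _ hb
      rw [h4.2, h5.2] at h3
      have h6 := hP _ h4.1 _ h5.1 h3
      have h7 : t = t' := by
        have hlen : ∀ q : Fin l.2.length, (q : ℕ) < (l.2.map fun t => walk V t l.1).length := by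
          intro q
          simp
        have := (List.Nodup.getElem_inj_iff hnod (hi := hlen t) (hj := hlen t')).mp (by
          simp only [List.getElem_map]
          exact h6)
        exact Fin.ext this
      subst h7
      have h8 : x = x' := mul_left_cancel e
      rw [h8]
    refine ⟨(Finset.univ ×ˢ A).image f, ?_, ?_⟩
    · rw [Finset.card_image_of_injOn hinj, Finset.card_product, Finset.card_univ, Fintype.card_fin, hA1]
      simp
    · intro x hx b hbN hbf
      obtain ⟨⟨t, s⟩, hp, rfl⟩ := Finset.mem_image.mp hx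
      have hs := (Finset.mem_product.mp hp).2
      simp only at hs
      simp only [f, map_mul]
      rw [← Matrix.mulVec_mulVec, hA2 s hs b hbN (fun l' hl' t' ht' => hbf l' (List.mem_cons_of_mem _ hl') t' ht')]
      have h4 := word_pts' ι hV _ (hlet' _ (List.get_mem _ t)) _ hbN
      rw [h4.2, hbf l (List.mem_cons_self) _ (List.get_mem _ t)]

/-- The lower bound. -/
theorem card_ge_levels [Finite X] (ι : X →* Matrix (Fin d) (Fin d) F) (γ : ℕ → X) (V : ℕ → ℕ → ℕ)
    (P : ℕ → Fin d → F) (k N : ℕ)
    (hV : ∀ a < k, ∀ i < N, V a i < N ∧ ι (γ a) *ᵥ P i = P (V a i))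
    (hP : ∀ i < N, ∀ j < N, P i = P j → i = j)
    (L : List (ℕ × List (List ℕ))) (hL : levelsOK V N k L = true) :
    (L.map fun l => l.2.length).prod ≤ Nat.card X := by
  classical
  obtain ⟨A, hA, _⟩ := levels_card ι γ V P k N hV hP L hL
  rw [← hA]
  have := Fintype.ofFinite X
  rw [Nat.card_eq_fintype_card]
  exact Finset.card_le_univ A

end

end Cfsg.Agent.Lib.KnownSimple.LabLevels
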