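import Mathlib
import Cfsg.Prelude.Def_Spor_J3
import Cfsg.Agent.Lib.KnownSimple.LabChev3
import Cfsg.Agent.Lib.KnownSimple.LabLevels
import Cfsg.Agent.Lib.KnownSimple.LabTower

/-!
# The triple cover of J₃: codes of the generating matrices, and its letters
-/

set_option autoImplicit false

namespace Cfsg.Agent.Lib.KnownSimple.LabJ3

open Cfsg.Spor Cfsg.Agent.Lib.KnownSimple.Lab Cfsg.Agent.Lib.KnownSimple.LabField
open Cfsg.Agent.Lib.KnownSimple.LabVec Cfsg.Agent.Lib.KnownSimple.LabChev Cfsg.Agent.Lib.KnownSimple.LabPack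
open scoped Matrix

/-- The coordinates. -/
def toF9 (i : ℕ) : F9 := (((i % 3 : ℕ) : ZMod 3), ((i / 3 : ℕ) : ZMod 3))

theorem toF9_bij : Function.Bijective (fun i : Fin 9 => toF9 i) := by
  rw [Fintype.bijective_iff_injective_and_card]
  exact ⟨by decide, by decide⟩

/-- The coordinates. -/
noncomputable def e9 : Fin 9 ≃ F9 := Equiv.ofBijective _ toF9_bij

theorem e9_apply (i : Fin 9) : e9 i = toF9 i := rfl

/-- The code of a power of ω. -/
def omC (n : ZMod 3) : ℕ := if n = 0 then 1 else if n = 1 then 2 else 3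

/-- The codes of A. -/
def aC (Z w z : F9) : ℕ := if w = z then omC (Z.1 * z.1 + Z.2 * z.2) else 0
/-- The codes of E. -/
def eC (Z w z : F9) : ℕ := if w = z then omC ((Z.1 - z.1) ^ 2 + (Z.2 - z.2) ^ 2) else 0
/-- The codes of λ. -/
def lamC (Z z : F9) : ℕ :=
  if z = 0 then 1
  else if F9.div Z z = F9.I - F9.one then 2
  else if F9.div Z z = -F9.I - F9.one then 3
  else 1
/-- The codes of D. -/
def dC (Z w z : F9) : ℕ := if w = z + Z then lamC Z z else 0
/-- The codes of B. -/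
def bC (Z w z : F9) : ℕ := if w = F9.mul Z z then 1 else 0
/-- The codes of C. -/
def cC (Z w z : F9) : ℕ :=
  if z = 0 then (if w = 0 then 1 else 0)
  else if w = -F9.div Z z ∨ w = F9.mul F9.I (F9.div Z z) ∨ w = -F9.mul F9.I (F9.div Z z) then 1 else 0

/-- The codes of a generator: `q = 9 * f + i`. -/
def genC (q : ℕ) (w z : F9) : ℕ :=
  match q / 9 with
  | 0 => aC (toF9 (q % 9)) w z
  | 1 => eC (toF9 (q % 9)) w z
  | 2 => dC (toF9 (q % 9)) w z
  | 3 => bC (toF9 (q % 9)) w z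
  | _ => cC (toF9 (q % 9)) w z

section

variable {F : Type*} [Field F] (ω : F)

/-- A generating matrix. -/
def genM (q : ℕ) : Matrix F9 F9 F :=
  match q / 9 with
  | 0 => j3A F ω (toF9 (q % 9))
  | 1 => j3E F ω (toF9 (q % 9))
  | 2 => j3D F ω (toF9 (q % 9))
  | 3 => j3B F (toF9 (q % 9))
  | _ => j3C F (toF9 (q % 9))

/-- The allowed indices. -/
def okQ (q : ℕ) : Prop := q < 45 ∧ q ≠ 27 ∧ q ≠ 36

variable {ω}

theorem genM_mem {q : ℕ} (hq : okQ q) : genM ω q ∈ j3Gens F ω := by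
  obtain ⟨h1, h2, h3⟩ := hq
  have hZ : q % 9 ≠ 0 → toF9 (q % 9) ≠ 0 := by
    have h : ∀ i < 9, i ≠ 0 → toF9 i ≠ 0 := by decide
    intro h0
    exact h _ (Nat.mod_lt _ (by norm_num)) h0
  have hf : q / 9 = 0 ∨ q / 9 = 1 ∨ q / 9 = 2 ∨ q / 9 = 3 ∨ q / 9 = 4 := by omega
  rcases hf with h | h | h | h | h
  · left; left; left; left
    exact ⟨toF9 (q % 9), by rw [genM, h]; rfl⟩
  · left; left; left; right
    exact ⟨toF9 (q % 9), by rw [genM, h]; rfl⟩
  · left; left; right
    exact ⟨toF9 (q % 9), by rw [genM, h]; rfl⟩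
  · left; right
    refine ⟨toF9 (q % 9), hZ (by omega), by rw [genM, h]; rfl⟩
  · right
    refine ⟨toF9 (q % 9), hZ (by omega), by rw [genM, h]; rfl⟩

theorem exists_q (i : F9) : ∃ k < 9, toF9 k = i := by
  obtain ⟨k, hk⟩ := toF9_bij.2 i
  exact ⟨k, k.2, hk⟩

theorem mem_gens {M : Matrix F9 F9 F} (hM : M ∈ j3Gens F ω) : ∃ q, okQ q ∧ M = genM ω q := by
  have hne : ∀ k < 9, toF9 k ≠ 0 → k ≠ 0 := by
    intro k _ h e
    subst e
    exact h (by decide)
  rcases hM with ((((⟨Z, rfl⟩ | ⟨Z, rfl⟩) | ⟨Z, rfl⟩) | ⟨Z, hZ, rfl⟩) | ⟨Z, hZ, rfl⟩)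
  · obtain ⟨k, hk, rfl⟩ := exists_q Z
    refine ⟨k, ⟨by omega, by omega, by omega⟩, ?_⟩
    rw [genM, show k / 9 = 0 by omega, show k % 9 = k by omega]
    rfl
  · obtain ⟨k, hk, rfl⟩ := exists_q Z
    refine ⟨9 + k, ⟨by omega, by omega, by omega⟩, ?_⟩
    rw [genM, show (9 + k) / 9 = 1 by omega, show (9 + k) % 9 = k by omega]
    rfl
  · obtain ⟨k, hk, rfl⟩ := exists_q Z
    refine ⟨18 + k, ⟨by omega, by omega, by omega⟩, ?_⟩
    rw [genM, show (18 + k) / 9 = 2 by omega, show (18 + k) % 9 = k by omega]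
    rfl
  · obtain ⟨k, hk, rfl⟩ := exists_q Z
    have := hne k hk hZ
    refine ⟨27 + k, ⟨by omega, by omega, by omega⟩, ?_⟩
    rw [genM, show (27 + k) / 9 = 3 by omega, show (27 + k) % 9 = k by omega]
    rfl
  · obtain ⟨k, hk, rfl⟩ := exists_q Z
    have := hne k hk hZ
    refine ⟨36 + k, ⟨by omega, by omega, by omega⟩, ?_⟩
    rw [genM, show (36 + k) / 9 = 4 by omega, show (36 + k) % 9 = k by omega]
    rfl

variable {Q : ℕ} {add mul : ℕ → ℕ → ℕ}

/-- The representation of the field with four elements. -/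
structure R4 (F : Type*) [Field F] (ω : F) where
  R : Rep F 4 add4 mul4
  h2 : R.φ 2 = ω
  h3 : R.φ 3 = ω ^ 2

variable (S : R4 F ω)

theorem omC_val (n : ZMod 3) : S.R.φ (omC n) = omegaPow F ω n := by
  have h : n = 0 ∨ n = 1 ∨ n = 2 := by
    revert n
    decide
  rcases h with rfl | rfl | rfl
  · have : omC 0 = 1 := by decide
    rw [this, S.R.h1]
    simp [omegaPow]
  · have : omC 1 = 2 := by decide
    rw [this, S.h2]
    simp [omegaPow, ZMod.val_one]
  · have : omC 2 = 3 := by decide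
    rw [this, S.h3]
    have : (2 : ZMod 3).val = 2 := by decide
    simp [omegaPow, this]

theorem aC_val (Z w z : F9) : S.R.φ (aC Z w z) = j3A F ω Z w z := by
  rw [j3A, Matrix.diagonal_apply, aC]
  split_ifs with h
  · subst h
    rw [omC_val]
  · exact S.R.h0

theorem eC_val (Z w z : F9) : S.R.φ (eC Z w z) = j3E F ω Z w z := by
  rw [j3E, Matrix.diagonal_apply, eC]
  split_ifs with h
  · subst h
    rw [omC_val]
  · exact S.R.h0

theorem dC_val (Z w z : F9) : S.R.φ (dC Z w z) = j3D F ω Z w z := by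
  rw [j3D, Matrix.of_apply, dC, j3Lam, lamC]
  split_ifs
  · exact S.R.h1
  · exact S.h2
  · exact S.h3
  · exact S.R.h1
  · exact S.R.h0

theorem bC_val (Z w z : F9) : S.R.φ (bC Z w z) = j3B F Z w z := by
  rw [j3B, Matrix.of_apply, bC]
  split_ifs
  · exact S.R.h1
  · exact S.R.h0

theorem cC_val (Z w z : F9) : S.R.φ (cC Z w z) = j3C F Z w z := by
  rw [j3C, Matrix.of_apply, cC]
  split_ifs
  · exact S.R.h1
  · exact S.R.h0
  · exact S.R.h1
  · exact S.R.h0

theorem genC_val (q : ℕ) (w z : F9) : S.R.φ (genC q w z) = genM ω q w z := by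
  have hf : q / 9 = 0 ∨ q / 9 = 1 ∨ q / 9 = 2 ∨ q / 9 = 3 ∨ ∃ n, q / 9 = n + 4 := by
    by_cases h : 4 ≤ q / 9
    · exact Or.inr (Or.inr (Or.inr (Or.inr ⟨q / 9 - 4, by omega⟩)))
    · omega
  rcases hf with h | h | h | h | ⟨n, h⟩ <;> simp only [genC, genM, h]
  · exact aC_val S _ _ _
  · exact eC_val S _ _ _
  · exact dC_val S _ _ _
  · exact bC_val S _ _ _
  · exact cC_val S _ _ _

/-- The matrix of an element. -/
noncomputable def chM : ↥(threeJ3 F ω) →* Matrix (Fin 9) (Fin 9) F where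
  toFun g := Matrix.reindex e9.symm e9.symm ((g.1 : GL F9 F) : Matrix F9 F9 F)
  map_one' := by
    ext i j
    simp [Matrix.one_apply]
  map_mul' A B := by
    ext i j
    simp only [Matrix.reindex_apply, Matrix.submatrix_apply, Subgroup.coe_mul, Units.val_mul, Matrix.mul_apply]
    rw [← Equiv.sum_comp e9]
    simp

theorem chM_apply (g : ↥(threeJ3 F ω)) (i j : Fin 9) :
    chM g i j = ((g.1 : GL F9 F) : Matrix F9 F9 F) (e9 i) (e9 j) := rfl

theorem chM_inj : Function.Injective (chM (F := F) (ω := ω)) := by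
  intro A B h
  apply Subtype.ext
  apply Units.ext
  ext i j
  have := congrFun (congrFun h (e9.symm i)) (e9.symm j)
  simpa [chM_apply] using this

/-- The matrix of a generator on the coordinates. -/
theorem genM_eq_toMS (q : ℕ) (T : List (List (ℕ × ℕ)))
    (hT : ∀ i < 9, ∀ j < 9, entryS add4 (T.getD i []) j = genC q (toF9 i) (toF9 j)) (i j : Fin 9) :
    toMS S.R.φ add4 9 T i j = genM ω q (e9 i) (e9 j) := by
  simp only [toMS, Matrix.of_apply]
  rw [hT i i.2 j j.2, genC_val]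
  rfl

/-- Equal columns. -/
theorem eq_of_units {d : ℕ} {A B : Matrix (Fin d) (Fin d) F}
    (h : ∀ j : Fin d, A *ᵥ Pi.single j 1 = B *ᵥ Pi.single j 1) : A = B := by
  ext i j
  have := congrFun (h j) i
  simpa using this

/-- The unit vector list. -/
theorem toV_unitC {d : ℕ} (j : Fin d) : toV S.R.φ d (unitC d j) = Pi.single j 1 :=
  toV_unit S.R.h0 S.R.h1 j

/-- A sparse matrix with a sparse inverse. -/
theorem toMS_mul_eq_one (T T' : List (List (ℕ × ℕ))) (hl : T.length = 9) (hl' : T'.length = 9)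
    (hr : ∀ row ∈ T, ∀ p ∈ row, p.1 < 9) (hr' : ∀ row ∈ T', ∀ p ∈ row, p.1 < 9)
    (h : ∀ j < 9, actS add4 mul4 T (actS add4 mul4 T' (unitC 9 j)) = unitC 9 j) :
    toMS S.R.φ add4 9 T * toMS S.R.φ add4 9 T' = 1 := by
  apply eq_of_units
  intro j
  rw [← toV_unitC S j, Matrix.one_mulVec, ← Matrix.mulVec_mulVec, ← toV_actS S.R T' hl' hr',
    ← toV_actS S.R T hl hr, h j j.2]

/-- A generator with a sparse inverse, as an element of the group. -/
theorem exists_gen {q : ℕ} (hq : okQ q) (T T' : List (List (ℕ × ℕ))) (hl : T.length = 9) (hl' : T'.length = 9)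
    (hr : ∀ row ∈ T, ∀ p ∈ row, p.1 < 9) (hr' : ∀ row ∈ T', ∀ p ∈ row, p.1 < 9)
    (hT : ∀ i < 9, ∀ j < 9, entryS add4 (T.getD i []) j = genC q (toF9 i) (toF9 j))
    (h : ∀ j < 9, actS add4 mul4 T (actS add4 mul4 T' (unitC 9 j)) = unitC 9 j) :
    ∃ g : ↥(threeJ3 F ω), chM g = toMS S.R.φ add4 9 T := by
  have h1 := toMS_mul_eq_one S T T' hl hl' hr hr' h
  let M : Matrix F9 F9 F := Matrix.reindex e9 e9 (toMS S.R.φ add4 9 T)
  let M' : Matrix F9 F9 F := Matrix.reindex e9 e9 (toMS S.R.φ add4 9 T')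
  have h2 : M * M' = 1 := by
    have := congrArg (Matrix.reindexAlgEquiv F F e9) h1
    simpa [Matrix.reindexAlgEquiv_mul, M, M'] using this
  have h3 : M' * M = 1 := mul_eq_one_comm.mp h2
  have hM : M = genM ω q := by
    ext w z
    simp only [M, Matrix.reindex_apply, Matrix.submatrix_apply]
    rw [genM_eq_toMS S q T hT]
    simp
  let g : GL F9 F := ⟨M, M', h2, h3⟩
  have hg : g ∈ threeJ3 F ω := by
    apply Subgroup.subset_closure
    show M ∈ j3Gens F ω
    rw [hM]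
    exact genM_mem hq
  refine ⟨⟨g, hg⟩, ?_⟩
  ext i j
  rw [chM_apply]
  simp [g, M]

end

section rep

variable {F : Type*} [Field F] [Fintype F]

/-- The codes of the field with four elements, with `2` going to `ω`. -/
theorem exists_R4 (hF : Fintype.card F = 4) {ω : F} (hω : ω ^ 2 + ω + 1 = 0) : Nonempty (R4 F ω) := by
  have hp : (2 : F) = 0 := by exact_mod_cast char_of_pow (p := 2) (e := 2) (by rw [hF]; norm_num)
  have hA : ∀ x < 4, ∀ y < 4, psi4 ω (tlook addT4 2 4 x y % 4) = psi4 ω x + psi4 ω y := psi4_add ω hp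
  have hM : ∀ x < 4, ∀ y < 4, psi4 ω (tlook mulT4 2 4 x y % 4) = psi4 ω x * psi4 ω y :=
    psi4_mul ω (by linear_combination hω) hp
  have hchk : ∀ x < 4, ∀ y < 4, x ≠ y → ∃ z < 4, ∃ z' < 4,
      tlook addT4 2 4 y z % 4 = x ∧ tlook mulT4 2 4 z z' % 4 = 1 := by decide +kernel
  have hinj : ∀ x y, x < 4 → y < 4 → psi4 ω x = psi4 ω y → x = y := by
    intro x y hx hy e
    by_contra hne
    obtain ⟨z, hz, z', hz', e1, e2⟩ := hchk x hx y hy hne
    have h3 := hA y hy z hz
    rw [e1, e] at h3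
    have h4 : psi4 ω z = 0 := by simpa using h3
    have h5 := hM z hz z' hz'
    rw [e2, show psi4 ω 1 = 1 from rfl, h4, zero_mul] at h5
    exact one_ne_zero h5
  have hbij : Function.Surjective (fun c : Fin 4 => psi4 ω c) := by
    have h6 : Function.Injective (fun c : Fin 4 => psi4 ω c) := fun x y e =>
      Fin.ext (hinj _ _ x.2 y.2 e)
    exact (Fintype.bijective_iff_injective_and_card _).mpr ⟨h6, by simp [hF]⟩ |>.2
  let R : Rep F 4 add4 mul4 :=
    { φ := fun c => psi4 ω (c % 4)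
      hadd := by
        intro a b
        show psi4 ω (tlook addT4 2 4 a b % 4) = _
        rw [← tlook_mod]
        exact hA _ (Nat.mod_lt _ (by norm_num)) _ (Nat.mod_lt _ (by norm_num))
      hmul := by
        intro a b
        show psi4 ω (tlook mulT4 2 4 a b % 4) = _
        rw [← tlook_mod]
        exact hM _ (Nat.mod_lt _ (by norm_num)) _ (Nat.mod_lt _ (by norm_num))
      h0 := rfl
      h1 := rfl
      hinj := by
        intro x y hx hy e
        simp only [Nat.mod_eq_of_lt hx, Nat.mod_eq_of_lt hy] at e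
        exact hinj x y hx hy e
      hsurj := by
        intro z
        obtain ⟨c, hc⟩ := hbij z
        refine ⟨c, c.2, ?_⟩
        simp only [Nat.mod_eq_of_lt c.2]
        exact hc }
  refine ⟨⟨R, rfl, ?_⟩⟩
  show (1 : F) + ω = ω ^ 2
  linear_combination (1 + ω) * hp - hω

end rep

end Cfsg.Agent.Lib.KnownSimple.LabJ3
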