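import Mathlib
import Cfsg.Agent.Lib.KnownSimple.LabChev

/-!
# A letter of a Chevalley group, through one sparse matrix
-/

set_option autoImplicit false

namespace Cfsg.Agent.Lib.KnownSimple.LabChev

open Cfsg.Agent.Lib.KnownSimple.Lab Cfsg.Agent.Lib.KnownSimple.LabMat Cfsg.Agent.Lib.KnownSimple.LabField
open Cfsg.Agent.Lib.KnownSimple.LabVec
open scoped Matrix

variable {D : Cfsg.Lie.ChevalleyDatum} {F : Type*} [Field F] {Q : ℕ} {add mul : ℕ → ℕ → ℕ}

/-- The action of a letter, read off one sparse matrix which agrees with it on a base. -/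
theorem hV_of_sparse (R : Rep F Q add mul) (G : Chev.Good2 D) {ic : ℤ → ℕ} (hic : ∀ z, R.φ (ic z) = (z : F))
    {RL : List (ℕ × ℕ)} {SL : List (List (List (ℕ × ℕ)))}
    (hRL : ∀ j < RL.length, (RL.getD j (0, 0)).1 < D.nroots ∧
      chkX add mul ic D (RL.getD j (0, 0)).1 (RL.getD j (0, 0)).2 (SL.getD j []) = true)
    (w : List ℕ) (hw : ∀ j ∈ w, j < RL.length)
    (Bc Cc : List ℕ) (hBC : mulC add mul (dd D) Bc Cc = idC (dd D))
    (XA : List (List (ℕ × ℕ))) (hlen : XA.length = dd D) (hrow : ∀ row ∈ XA, ∀ p ∈ row, p.1 < dd D)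
    (hbase : ∀ j < dd D, wordS add mul SL w (colC (dd D) Bc j) = actS add mul XA (colC (dd D) Bc j))
    (V : ℕ → ℕ) (pt : ℕ → List ℕ) (N : ℕ)
    (hchk : ∀ i < N, V i < N ∧ actS add mul XA (pt i) = pt (V i)) :
    ∀ i < N, V i < N ∧
      chHom D F (wval (xI G R.φ RL) w) *ᵥ toV R.φ (dd D) (pt i) = toV R.φ (dd D) (pt (V i)) := by
  have hB : toM R.φ (dd D) Bc * toM R.φ (dd D) Cc = 1 := by
    rw [← toM_mulC R.hadd R.hmul R.h0, hBC, toM_idC R.h0 R.h1]
  have hM : chHom D F (wval (xI G R.φ RL) w) = toMS R.φ add (dd D) XA := by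
    apply eq_of_base hB
    intro j
    have h1 := wordS_val G R hic hRL w hw (colC (dd D) Bc j)
    rw [toV_colC] at h1
    rw [h1, hbase j j.2, toV_actS R XA hlen hrow, toV_colC]
  intro i hi
  obtain ⟨h1, h2⟩ := hchk i hi
  refine ⟨h1, ?_⟩
  rw [hM, ← toV_actS R XA hlen hrow, h2]

end Cfsg.Agent.Lib.KnownSimple.LabChev
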