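import Cfsg.Agent.Lib.KnownSimple.MathieuInvol
import Cfsg.Prelude.Def_KGroupFacts

/-!
# Outer automorphisms of subgroups of `M24` through a generating pair `(a, b)` with `a` of prime order
and `b` an involution with fixed points
-/

set_option autoImplicit false

namespace Cfsg.Agent.Lib.KnownSimple.MathieuOut

open Cfsg Cfsg.Agent.Lib.Golay MulAction
open scoped Pointwise

section abstract

variable {G : Type*} [Group G]

theorem mem_inn_iff {φ : MulAut G} : φ ∈ Cfsg.Inn G ↔ ∃ g : G, MulAut.conj g = φ := Iff.rfl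

theorem card_out_eq_one (h : ∀ φ : MulAut G, φ ∈ Cfsg.Inn G) : Nat.card (Cfsg.Out G) = 1 := by
  have h1 : Cfsg.Inn G = ⊤ := by
    rw [eq_top_iff]
    intro φ _
    exact h φ
  show (Cfsg.Inn G).index = 1
  rw [h1, Subgroup.index_top]

theorem card_out_eq_two (τ : MulAut G) (h1 : τ ∉ Cfsg.Inn G)
    (h2 : ∀ φ : MulAut G, φ ∈ Cfsg.Inn G ∨ τ * φ ∈ Cfsg.Inn G) : Nat.card (Cfsg.Out G) = 2 := by
  show (Cfsg.Inn G).index = 2
  rw [Subgroup.index_eq_two_iff_exists_notMem_and]
  refine ⟨τ, h1, fun φ => ?_⟩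
  rcases h2 φ with h | h
  · exact Or.inr h
  · exact Or.inl ((Cfsg.innNormal G).mem_comm h)

theorem conj_pow_eq_pow (a n : G) (r : ℕ) (hn : n * a * n⁻¹ = a ^ r) (k j : ℕ) :
    n ^ j * a ^ k * (n ^ j)⁻¹ = a ^ (k * r ^ j) := by
  induction j generalizing k with
  | zero => simp
  | succ j ih =>
    have h1 : n ^ (j + 1) * a ^ k * (n ^ (j + 1))⁻¹ = n ^ j * (n * a ^ k * n⁻¹) * (n ^ j)⁻¹ := by
      rw [pow_succ]; group
    rw [h1, ← conj_pow, hn, ← pow_mul, ih]
    congr 1
    rw [pow_succ]; ring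

/-- Normalizing the image of an element generating a Sylow subgroup of prime order. -/
theorem exists_conj_normalize [Finite G] {p : ℕ} [hp : Fact p.Prime] (a n : G) (r : ℕ)
    (ha : orderOf a = p) (hpp : ¬ p ^ 2 ∣ Nat.card G) (hn : n * a * n⁻¹ = a ^ r)
    (hr : ∀ k, 0 < k → k < p → ∃ j, (k * r ^ j) % p = 1 ∨ (k * r ^ j) % p = p - 1)
    (φ : MulAut G) :
    ∃ g : G, (MulAut.conj g * φ) a = a ∨ (MulAut.conj g * φ) a = a⁻¹ := by
  classical
  have hpp' : p.Prime := hp.out
  have hG0 : Nat.card G ≠ 0 := Nat.card_pos.ne'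
  have hA : Nat.card (Subgroup.zpowers a) = p := by rw [Nat.card_zpowers, ha]
  have hdvd : p ∣ Nat.card G := by rw [← hA]; exact Subgroup.card_subgroup_dvd_card _
  have hfact : (Nat.card G).factorization p = 1 := by
    have h1 : 1 ≤ (Nat.card G).factorization p :=
      (hpp'.pow_dvd_iff_le_factorization hG0).mp (by simpa using hdvd)
    have h2 : ¬ 2 ≤ (Nat.card G).factorization p := fun h =>
      hpp ((hpp'.pow_dvd_iff_le_factorization hG0).mpr h)
    omega
  set B : Subgroup G := (Subgroup.zpowers a).map φ.toMonoidHom with hB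
  have hBc : Nat.card B = p := by
    rw [hB, Subgroup.card_map_of_injective φ.injective, hA]
  let PA : Sylow p G := Sylow.ofCard (Subgroup.zpowers a) (by rw [hA, hfact, pow_one])
  let PB : Sylow p G := Sylow.ofCard B (by rw [hBc, hfact, pow_one])
  obtain ⟨g, hg⟩ := MulAction.exists_smul_eq G PB PA
  have hg' : ∀ x ∈ B, g * x * g⁻¹ ∈ Subgroup.zpowers a := by
    intro x hx
    have h1 : (g • PB : Sylow p G) = PA := hg
    have h2 : ((g • PB : Sylow p G) : Subgroup G) = Subgroup.zpowers a := by rw [h1]; rfl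
    rw [Sylow.coe_subgroup_smul] at h2
    rw [← h2]
    have h3 : MulAut.conj g • x ∈ MulAut.conj g • (PB : Subgroup G) :=
      Subgroup.smul_mem_pointwise_smul x _ _ hx
    exact h3
  have hφa : φ a ∈ B := ⟨a, Subgroup.mem_zpowers a, rfl⟩
  have h1 := hg' _ hφa
  obtain ⟨k, hk⟩ : ∃ k : ℕ, a ^ k = g * φ a * g⁻¹ := by
    have := (mem_powers_iff_mem_zpowers).mpr h1
    exact Submonoid.mem_powers_iff _ _ |>.mp this
  -- reduce `k` modulo `p`
  have hk' : a ^ (k % p) = g * φ a * g⁻¹ := by
    rw [← ha, pow_mod_orderOf, hk]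
  have hkpos : 0 < k % p := by
    rcases Nat.eq_zero_or_pos (k % p) with h0 | h0
    · exfalso
      rw [h0, pow_zero] at hk'
      have h3 : φ a = 1 := by
        have : g * φ a * g⁻¹ = 1 := hk'.symm
        have h4 : φ a = g⁻¹ * (g * φ a * g⁻¹) * g := by group
        rw [h4, this]; group
      have h4 : a = 1 := by
        have := φ.injective (h3.trans (map_one φ).symm)
        exact this
      rw [h4, orderOf_one] at ha
      exact hpp'.one_lt.ne ha
    · exact h0
  have hklt : k % p < p := Nat.mod_lt _ hpp'.pos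
  obtain ⟨j, hj⟩ := hr _ hkpos hklt
  refine ⟨n ^ j * g, ?_⟩
  have h5 : (MulAut.conj (n ^ j * g) * φ) a = a ^ ((k % p) * r ^ j) := by
    rw [← conj_pow_eq_pow a n r hn, hk']
    simp only [MulAut.mul_apply, MulAut.conj_apply]
    group
  rw [h5]
  rcases hj with hj | hj
  · left
    rw [← pow_mod_orderOf, ha, hj, pow_one]
  · right
    rw [← pow_mod_orderOf, ha, hj]
    have hap : a ^ p = 1 := by rw [← ha]; exact pow_orderOf_eq_one a
    rw [eq_inv_iff_mul_eq_one, ← pow_succ, Nat.sub_add_cancel hpp'.pos, hap]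

theorem eq_one_of_fix_gens (a b : G) (hgen : Subgroup.closure {a, b} = ⊤) (ψ : MulAut G)
    (h1 : ψ a = a) (h2 : ψ b = b) : ψ = 1 := by
  ext x
  have hx : x ∈ Subgroup.closure {a, b} := by rw [hgen]; trivial
  induction hx using Subgroup.closure_induction with
  | mem x hx =>
    rcases hx with rfl | hx
    · exact h1
    · rw [Set.mem_singleton_iff.mp hx]; exact h2
  | one => simp
  | mul x y _ _ hx hy => rw [map_mul, hx, hy]; rfl
  | inv x _ hx => rw [map_inv, hx]; rfl

/-- The value of a word. -/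
def wordVal {G : Type*} [Group G] (x y : G) (w : List Bool) : G :=
  (w.map fun c => if c then y else x).prod

theorem map_wordVal {G H : Type*} [Group G] [Group H] (f : G →* H) (x y : G) (w : List Bool) :
    f (wordVal x y w) = wordVal (f x) (f y) w := by
  induction w with
  | nil => simp [wordVal]
  | cons c w ih =>
    simp only [wordVal, List.map_cons, List.prod_cons, map_mul] at ih ⊢
    rw [ih]
    cases c <;> simp

end abstract

/-! ### Words evaluated on points -/

/-- Evaluate a word at a point. -/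
def evalPt (a c : List ℕ) : List Bool → ℕ → ℕ
  | [], x => x
  | l :: w, x => lk (if l then c else a) (evalPt a c w x)

theorem idx_wordVal {a c : List ℕ} (ha : isPerm a = true) (hc : isPerm c = true) (w : List Bool)
    (p : GolayPt) : idx (wordVal (perm a) (perm c) w p) = evalPt a c w (idx p) := by
  induction w with
  | nil => simp [wordVal, evalPt]
  | cons l w ih =>
    simp only [wordVal, List.map_cons, List.prod_cons, Equiv.Perm.mul_apply, evalPt] at ih ⊢
    cases l
    · simp only [Bool.false_eq_true, if_false]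
      rw [idx_perm ha, ih]
    · simp only [if_true]
      rw [idx_perm hc, ih]

/-- The word is the identity, tested on points. -/
def relOK (a c : List ℕ) (w : List Bool) : Bool :=
  (List.range 24).all fun x => Nat.beq (evalPt a c w x) x

theorem relOK_of_eq_one {a c : List ℕ} (ha : isPerm a = true) (hc : isPerm c = true) {w : List Bool}
    (h : wordVal (perm a) (perm c) w = 1) : relOK a c w = true := by
  apply List.all_eq_true.mpr
  intro x hx
  have hx' := List.mem_range.mp hx
  have := idx_wordVal ha hc w (pt x)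
  rw [h, idx_pt hx'] at this
  simp only [Equiv.Perm.coe_one, id_eq, idx_pt hx'] at this
  rw [← this]
  simp

theorem eq_one_of_relOK {a c : List ℕ} (ha : isPerm a = true) (hc : isPerm c = true) {w : List Bool}
    (h : relOK a c w = true) : wordVal (perm a) (perm c) w = 1 := by
  ext1 p
  apply idx_injective
  rw [idx_wordVal ha hc]
  have := List.all_eq_true.mp h (idx p) (List.mem_range.mpr (idx_lt p))
  simpa using Nat.eq_of_beq_eq_true this

/-! ### Candidates -/

/-- The data of a representative octad: its mask, `h` carrying the base octad to it, and the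
inverse of `h`. -/
abbrev RepD := ℕ × List ℕ × List ℕ

def repsOK (reps : List RepD) : Bool :=
  reps.all fun d => isPerm d.2.1 && isPerm d.2.2 && autCheck d.2.1 && (mulL d.2.1 d.2.2 == idL) &&
    Nat.beq (pull d.2.2 O0) d.1

/-- Walk through the orbit of an octad under `a` until a representative is found. -/
def orbitHit (a : List ℕ) (reps : List RepD) : ℕ → ℕ → Bool
  | 0, _ => false
  | N + 1, m => reps.any (fun d => Nat.beq d.1 m) || orbitHit a reps N (pull a m)

def coverOK (cond : ℕ → Bool) (a : List ℕ) (N : ℕ) (reps : List RepD) : Bool :=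
  octadL.all fun m => !cond m || orbitHit a reps N m

def cands (reps : List RepD) : List (List ℕ) :=
  reps.flatMap fun d => E0L.map fun e => mulL (mulL d.2.1 e) d.2.2

theorem finOf_pull {l : List ℕ} (h : isPerm l = true) (m : ℕ) :
    finOf (pull l m) = (perm l)⁻¹ • finOf m := by
  ext p
  rw [mem_finOf_pull h, Finset.mem_inv_smul_finset_iff]
  rfl

theorem exists_of_orbitHit {a : List ℕ} (ha : isPerm a = true) {reps : List RepD} :
    ∀ (N m : ℕ), orbitHit a reps N m = true →
      ∃ (i : ℕ), ∃ d ∈ reps, finOf d.1 = ((perm a) ^ i)⁻¹ • finOf m := by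
  intro N
  induction N with
  | zero => simp [orbitHit]
  | succ N ih =>
    intro m hm
    simp only [orbitHit, Bool.or_eq_true, List.any_eq_true] at hm
    rcases hm with ⟨d, hd, hd2⟩ | hm
    · refine ⟨0, d, hd, ?_⟩
      rw [Nat.eq_of_beq_eq_true hd2]
      simp
    · obtain ⟨i, d, hd, h⟩ := ih _ hm
      refine ⟨i + 1, d, hd, ?_⟩
      rw [h, finOf_pull ha, pow_succ', mul_inv_rev, mul_smul]

/-- An involution with a fixed point is conjugate by a power of `a` into the candidate list. -/
theorem exists_cand {aL : List ℕ} (ha : isPerm aL = true) (haM : perm aL ∈ M24) {cond : ℕ → Bool}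
    {N : ℕ} {reps : List RepD} (hr : repsOK reps = true) (hc : coverOK cond aL N reps = true)
    {t : Equiv.Perm GolayPt} (ht : t ∈ M24) (h2 : t ^ 2 = 1) (hne : t ≠ 1) (hfix : ∃ p, t p = p)
    (hcond : ∀ m, fixF t = finOf m → cond m = true) :
    ∃ i : ℕ, ∃ c ∈ cands reps, ((perm aL) ^ i)⁻¹ * t * (perm aL) ^ i = perm c ∧ isPerm c = true := by
  have ho := fixF_octad ht h2 hne hfix
  obtain ⟨m, hm, hme⟩ := (mem_octads_iff _).mp ho
  have h1 : orbitHit aL reps N m = true := by
    have := List.all_eq_true.mp hc m hm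
    simp only [Bool.or_eq_true, Bool.not_eq_true'] at this
    rcases this with h | h
    · rw [hcond m hme] at h
      exact absurd h (by simp)
    · exact h
  obtain ⟨i, d, hd, hdm⟩ := exists_of_orbitHit ha N m h1
  have hdok := List.all_eq_true.mp hr d hd
  simp only [Bool.and_eq_true, beq_iff_eq] at hdok
  obtain ⟨⟨⟨⟨hh, hhi⟩, hauto⟩, hmul⟩, hpull⟩ := hdok
  have hpull' : pull d.2.2 O0 = d.1 := Nat.eq_of_beq_eq_true hpull
  have hhM : perm d.2.1 ∈ M24 := perm_mem_M24 hh hauto
  have hinv : perm d.2.2 = (perm d.2.1)⁻¹ := by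
    have : perm d.2.1 * perm d.2.2 = 1 := by
      rw [← perm_mulL' hh hhi, hmul, perm_idL]
    exact eq_inv_of_mul_eq_one_right this
  set A := (perm aL) ^ i with hA
  have hAM : A ∈ M24 := M24.pow_mem haM i
  set t1 := A⁻¹ * t * A with ht1
  have ht1M : t1 ∈ M24 := M24.mul_mem (M24.mul_mem (M24.inv_mem hAM) ht) hAM
  have hfix1 : fixF t1 = finOf d.1 := by
    have : t1 = A⁻¹ * t * (A⁻¹)⁻¹ := by rw [ht1, inv_inv]
    rw [this, fixF_conj, hme, hdm]
  -- conjugate into the base octad
  set h := perm d.2.1 with hh'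
  set x := h⁻¹ * t1 * h with hx
  have hxM : x ∈ M24 := M24.mul_mem (M24.mul_mem (M24.inv_mem hhM) ht1M) hhM
  have hxfix : ∀ p ∈ finOf O0, x p = p := by
    intro p hp
    have hmem : h p ∈ finOf d.1 := by
      rw [← hpull', mem_finOf_pull hhi, hinv]
      simpa using hp
    rw [← hfix1] at hmem
    have h3 := mem_fixF.mp hmem
    simp only [hx, Equiv.Perm.mul_apply, h3]
    simp
  have hxne : x ≠ 1 := by
    intro h4
    apply hne
    have h5 : t1 = 1 := by
      have : t1 = h * x * h⁻¹ := by rw [hx]; group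
      rw [this, h4]; group
    have : t = A * t1 * A⁻¹ := by rw [ht1]; group
    rw [this, h5]; group
  obtain ⟨e, he, hxe⟩ := mem_E0L hxM hxfix hxne
  have hep := E0L_perm he
  refine ⟨i, mulL (mulL d.2.1 e) d.2.2, ?_, ?_, isPerm_mulL (isPerm_mulL hh hep) hhi⟩
  · simp only [cands, List.mem_flatMap, List.mem_map]
    exact ⟨d, hd, e, he, rfl⟩
  · rw [perm_mulL' (isPerm_mulL hh hep) hhi, perm_mulL' hh hep, ← hxe, hinv, hx, ← hh']
    show t1 = _
    group

/-! ### The key step -/

/-- Test on a candidate, for `ψ a = a`. -/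
def candOKplus (aL bL : List ℕ) (rels : List (List Bool)) (f : List ℕ → Bool) (c : List ℕ) : Bool :=
  !(f c) || !(rels.all (relOK aL c)) || (c == bL)

/-- Test on a candidate, for `ψ a = a⁻¹`. -/
def candOKminus (ainvL : List ℕ) (rels : List (List Bool)) (f : List ℕ → Bool) (c : List ℕ) : Bool :=
  !(f c) || !(rels.all (relOK ainvL c))

theorem rel_transfer {H : Subgroup (Equiv.Perm GolayPt)} {x y : H} {w : List Bool}
    (h : wordVal (x : Equiv.Perm GolayPt) (y : Equiv.Perm GolayPt) w = 1) (ψ : MulAut H)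
    (g X T : Equiv.Perm GolayPt) (hX : g * (ψ x : Equiv.Perm GolayPt) * g⁻¹ = X)
    (hT : g * (ψ y : Equiv.Perm GolayPt) * g⁻¹ = T) : wordVal X T w = 1 := by
  have h1 : wordVal x y w = 1 := by
    apply Subtype.ext
    have := map_wordVal H.subtype x y w
    simp only [Subgroup.subtype_apply] at this
    rw [this, h]
    rfl
  have h2 : wordVal (ψ x) (ψ y) w = 1 := by
    have := map_wordVal ψ.toMonoidHom x y w
    simp only [MulEquiv.coe_toMonoidHom] at this
    rw [← this, h1, map_one]
  have h3 : wordVal ((ψ x : H) : Equiv.Perm GolayPt) ((ψ y : H) : Equiv.Perm GolayPt) w = 1 := by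
    have := map_wordVal H.subtype (ψ x) (ψ y) w
    simp only [Subgroup.subtype_apply] at this
    rw [← this, h2]
    rfl
  have h4 := map_wordVal (MulAut.conj g).toMonoidHom
    ((ψ x : H) : Equiv.Perm GolayPt) ((ψ y : H) : Equiv.Perm GolayPt) w
  rw [h3] at h4
  simp only [map_one, MulEquiv.coe_toMonoidHom, MulAut.conj_apply] at h4
  rw [hX, hT] at h4
  exact h4.symm

section keys

variable {H : Subgroup (Equiv.Perm GolayPt)} {aL bL : List ℕ} {cond : ℕ → Bool} {f : List ℕ → Bool}
  {N : ℕ} {reps : List RepD} {rels : List (List Bool)}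

/-- `ψ a = a`: the image of `b` is conjugate to `b` under a power of `a`. -/
theorem key_plus (hH : H ≤ M24) (ha : isPerm aL = true) (hb : isPerm bL = true) (haH : perm aL ∈ H)
    (hbH : perm bL ∈ H) (hr : repsOK reps = true) (hc : coverOK cond aL N reps = true)
    (hcond : ∀ t ∈ H, ∀ m, fixF t = finOf m → cond m = true)
    (hf : ∀ c, isPerm c = true → perm c ∈ H → f c = true)
    (hrels : rels.all (relOK aL bL) = true)
    (hcheck : (cands reps).all (candOKplus aL bL rels f) = true)
    (hb2 : perm bL ^ 2 = 1) (hbne : perm bL ≠ 1) (ψ : MulAut H)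
    (hψ : ψ ⟨perm aL, haH⟩ = ⟨perm aL, haH⟩)
    (hfix : ∃ q, (ψ ⟨perm bL, hbH⟩ : Equiv.Perm GolayPt) q = q) :
    ∃ i : ℕ, ((perm aL) ^ i)⁻¹ * (ψ ⟨perm bL, hbH⟩ : Equiv.Perm GolayPt) * (perm aL) ^ i = perm bL := by
  set y : H := ⟨perm bL, hbH⟩ with hy
  set t : Equiv.Perm GolayPt := (ψ y).1 with ht
  have htH : t ∈ H := (ψ y).2
  have ht2 : t ^ 2 = 1 := by
    have h1 : y ^ 2 = 1 := Subtype.ext hb2
    have h2 : (ψ y) ^ 2 = 1 := by rw [← map_pow, h1, map_one]
    have := congrArg Subtype.val h2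
    simpa using this
  have htne : t ≠ 1 := by
    intro h0
    have h1 : ψ y = 1 := Subtype.ext h0
    have h2 : y = 1 := by
      have := ψ.injective (h1.trans (map_one ψ).symm)
      exact this
    exact hbne (congrArg Subtype.val h2)
  obtain ⟨i, c, hc1, hci, hcp⟩ := exists_cand ha (hH haH) hr hc (hH htH) ht2 htne hfix
    (fun m hm => hcond t htH m hm)
  refine ⟨i, ?_⟩
  rw [hci]
  set A := (perm aL) ^ i with hA
  have hAH : A ∈ H := H.pow_mem haH i
  have hcH : perm c ∈ H := by
    rw [← hci]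
    exact H.mul_mem (H.mul_mem (H.inv_mem hAH) htH) hAH
  have hca : A⁻¹ * perm aL * A = perm aL := by
    have : Commute (perm aL) A := (Commute.refl _).pow_right i
    rw [mul_assoc, this.eq]; group
  have hall : rels.all (relOK aL c) = true := by
    apply List.all_eq_true.mpr
    intro w hw
    apply relOK_of_eq_one ha hcp
    have h1 := eq_one_of_relOK ha hb (List.all_eq_true.mp hrels w hw)
    refine rel_transfer (x := ⟨perm aL, haH⟩) (y := y) h1 ψ A⁻¹ _ _ ?_ ?_
    · rw [hψ, inv_inv]; exact hca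
    · rw [inv_inv]; exact hci
  have h2 := List.all_eq_true.mp hcheck c hc1
  simp only [candOKplus, hf c hcp hcH, hall, Bool.not_true, Bool.false_or, beq_iff_eq] at h2
  rw [h2]

/-- `ψ a = a⁻¹` is impossible when the test passes. -/
theorem key_minus {ainvL : List ℕ} (hH : H ≤ M24) (ha : isPerm aL = true) (hb : isPerm bL = true)
    (hai : isPerm ainvL = true) (hinv : perm ainvL = (perm aL)⁻¹) (haH : perm aL ∈ H)
    (hbH : perm bL ∈ H) (hr : repsOK reps = true) (hc : coverOK cond aL N reps = true)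
    (hcond : ∀ t ∈ H, ∀ m, fixF t = finOf m → cond m = true)
    (hf : ∀ c, isPerm c = true → perm c ∈ H → f c = true)
    (hrels : rels.all (relOK aL bL) = true)
    (hcheck : (cands reps).all (candOKminus ainvL rels f) = true)
    (hb2 : perm bL ^ 2 = 1) (hbne : perm bL ≠ 1) (ψ : MulAut H)
    (hψ : ψ ⟨perm aL, haH⟩ = (⟨perm aL, haH⟩ : H)⁻¹)
    (hfix : ∃ q, (ψ ⟨perm bL, hbH⟩ : Equiv.Perm GolayPt) q = q) : False := by
  set y : H := ⟨perm bL, hbH⟩ with hy
  set t : Equiv.Perm GolayPt := (ψ y).1 with ht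
  have htH : t ∈ H := (ψ y).2
  have ht2 : t ^ 2 = 1 := by
    have h1 : y ^ 2 = 1 := Subtype.ext hb2
    have h2 : (ψ y) ^ 2 = 1 := by rw [← map_pow, h1, map_one]
    have := congrArg Subtype.val h2
    simpa using this
  have htne : t ≠ 1 := by
    intro h0
    have h1 : ψ y = 1 := Subtype.ext h0
    have h2 : y = 1 := by
      have := ψ.injective (h1.trans (map_one ψ).symm)
      exact this
    exact hbne (congrArg Subtype.val h2)
  obtain ⟨i, c, hc1, hci, hcp⟩ := exists_cand ha (hH haH) hr hc (hH htH) ht2 htne hfix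
    (fun m hm => hcond t htH m hm)
  set A := (perm aL) ^ i with hA
  have hAH : A ∈ H := H.pow_mem haH i
  have hcH : perm c ∈ H := by
    rw [← hci]
    exact H.mul_mem (H.mul_mem (H.inv_mem hAH) htH) hAH
  have hca : A⁻¹ * (perm aL)⁻¹ * A = (perm aL)⁻¹ := by
    have : Commute (perm aL)⁻¹ A := ((Commute.refl _).pow_right i).inv_left
    rw [mul_assoc, this.eq]; group
  have hall : rels.all (relOK ainvL c) = true := by
    apply List.all_eq_true.mpr
    intro w hw
    apply relOK_of_eq_one hai hcp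
    have h1 := eq_one_of_relOK ha hb (List.all_eq_true.mp hrels w hw)
    refine rel_transfer (x := ⟨perm aL, haH⟩) (y := y) h1 ψ A⁻¹ _ _ ?_ ?_
    · rw [hψ, inv_inv, hinv]
      exact hca
    · rw [inv_inv]; exact hci
  have h2 := List.all_eq_true.mp hcheck c hc1
  simp [candOKminus, hf c hcp hcH, hall] at h2

end keys

/-- Generation transferred to the subgroup. -/
theorem closure_pair_eq_top {H : Subgroup (Equiv.Perm GolayPt)} {a b : Equiv.Perm GolayPt} (ha : a ∈ H)
    (hb : b ∈ H) (hgen : H ≤ Subgroup.closure {a, b}) :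
    Subgroup.closure {(⟨a, ha⟩ : H), ⟨b, hb⟩} = ⊤ := by
  rw [eq_top_iff]
  rintro ⟨x, hx⟩ -
  have h1 : x ∈ (Subgroup.closure {(⟨a, ha⟩ : H), ⟨b, hb⟩}).map H.subtype := by
    rw [MonoidHom.map_closure]
    have : (H.subtype '' {(⟨a, ha⟩ : H), ⟨b, hb⟩}) = {a, b} := by
      simp [Set.image_pair]
    rw [this]
    exact hgen hx
  obtain ⟨y, hy, hyx⟩ := Subgroup.mem_map.mp h1
  have : y = ⟨x, hx⟩ := Subtype.ext hyx
  rwa [← this]

section main

variable {H : Subgroup (Equiv.Perm GolayPt)} {aL ainvL bL nL : List ℕ} {cond : ℕ → Bool}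
  {f : List ℕ → Bool} {N p r : ℕ} {reps : List RepD} {rels : List (List Bool)}

/-- All automorphisms are inner. -/
theorem out_one [Fact p.Prime] [Finite H] (hH : H ≤ M24) (ha : isPerm aL = true) (hb : isPerm bL = true)
    (hai : isPerm ainvL = true) (hinv : perm ainvL = (perm aL)⁻¹) (haH : perm aL ∈ H)
    (hbH : perm bL ∈ H) (hnH : perm nL ∈ H) (hord : orderOf (perm aL) = p)
    (hpp : ¬ p ^ 2 ∣ Nat.card H) (hn : perm nL * perm aL * (perm nL)⁻¹ = perm aL ^ r)
    (hrk : ∀ k, 0 < k → k < p → ∃ j, (k * r ^ j) % p = 1 ∨ (k * r ^ j) % p = p - 1)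
    (hgen : H ≤ Subgroup.closure {perm aL, perm bL})
    (hr : repsOK reps = true) (hc : coverOK cond aL N reps = true)
    (hcond : ∀ t ∈ H, ∀ m, fixF t = finOf m → cond m = true)
    (hf : ∀ c, isPerm c = true → perm c ∈ H → f c = true)
    (hrels : rels.all (relOK aL bL) = true)
    (hplus : (cands reps).all (candOKplus aL bL rels f) = true)
    (hminus : (cands reps).all (candOKminus ainvL rels f) = true)
    (hb2 : perm bL ^ 2 = 1) (hbne : perm bL ≠ 1)
    (hfix : ∀ ψ : MulAut H, ∃ q, (ψ ⟨perm bL, hbH⟩ : Equiv.Perm GolayPt) q = q) :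
    Nat.card (Cfsg.Out H) = 1 := by
  apply card_out_eq_one
  intro φ
  set x : H := ⟨perm aL, haH⟩ with hx
  set y : H := ⟨perm bL, hbH⟩ with hy
  have hordx : orderOf x = p := by
    rw [← hord]
    exact (Subgroup.orderOf_mk _ _)
  have hnx : (⟨perm nL, hnH⟩ : H) * x * (⟨perm nL, hnH⟩ : H)⁻¹ = x ^ r := Subtype.ext hn
  obtain ⟨g, hg⟩ := exists_conj_normalize x ⟨perm nL, hnH⟩ r hordx hpp hnx hrk φ
  set ψ := MulAut.conj g * φ with hψ
  rcases hg with hg | hg
  · obtain ⟨i, hi⟩ := key_plus hH ha hb haH hbH hr hc hcond hf hrels hplus hb2 hbne ψ hg (hfix ψ)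
    have hgens := closure_pair_eq_top haH hbH hgen
    have h1 : MulAut.conj (x ^ i)⁻¹ * ψ = 1 := by
      apply eq_one_of_fix_gens x y hgens
      · simp only [MulAut.mul_apply, MulAut.conj_apply, hg]
        have : Commute (x ^ i)⁻¹ x := ((Commute.refl x).pow_left i).inv_left
        rw [this.eq]; group
      · simp only [MulAut.mul_apply, MulAut.conj_apply]
        apply Subtype.ext
        push_cast
        simp only [inv_inv]
        exact hi
    refine ⟨(MulAut.conj ((x ^ i)⁻¹ * g) : MulAut H)⁻¹ |> fun _ => ((x ^ i)⁻¹ * g)⁻¹, ?_⟩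
    have h2 : MulAut.conj ((x ^ i)⁻¹ * g) * φ = 1 := by
      rw [map_mul, mul_assoc]
      exact h1
    show MulAut.conj ((x ^ i)⁻¹ * g)⁻¹ = φ
    rw [map_inv]
    exact inv_eq_of_mul_eq_one_right h2
  · exact (key_minus hH ha hb hai hinv haH hbH hr hc hcond hf hrels hminus hb2 hbne ψ hg (hfix ψ)).elim

/-- The automorphisms are inner or inner times `τ`. -/
theorem out_two [Fact p.Prime] [Finite H] (hH : H ≤ M24) (ha : isPerm aL = true) (hb : isPerm bL = true)
    (haH : perm aL ∈ H)
    (hbH : perm bL ∈ H) (hnH : perm nL ∈ H) (hord : orderOf (perm aL) = p)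
    (hpp : ¬ p ^ 2 ∣ Nat.card H) (hn : perm nL * perm aL * (perm nL)⁻¹ = perm aL ^ r)
    (hrk : ∀ k, 0 < k → k < p → ∃ j, (k * r ^ j) % p = 1 ∨ (k * r ^ j) % p = p - 1)
    (hgen : H ≤ Subgroup.closure {perm aL, perm bL})
    (hr : repsOK reps = true) (hc : coverOK cond aL N reps = true)
    (hcond : ∀ t ∈ H, ∀ m, fixF t = finOf m → cond m = true)
    (hf : ∀ c, isPerm c = true → perm c ∈ H → f c = true)
    (hrels : rels.all (relOK aL bL) = true)
    (hplus : (cands reps).all (candOKplus aL bL rels f) = true)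
    (hb2 : perm bL ^ 2 = 1) (hbne : perm bL ≠ 1)
    (hfix : ∀ ψ : MulAut H, ∃ q, (ψ ⟨perm bL, hbH⟩ : Equiv.Perm GolayPt) q = q)
    (τ : MulAut H) (hτa : τ ⟨perm aL, haH⟩ = (⟨perm aL, haH⟩ : H)⁻¹) (hτ : τ ∉ Cfsg.Inn H) :
    Nat.card (Cfsg.Out H) = 2 := by
  apply card_out_eq_two τ hτ
  intro φ
  set x : H := ⟨perm aL, haH⟩ with hx
  set y : H := ⟨perm bL, hbH⟩ with hy
  have hordx : orderOf x = p := by
    rw [← hord]
    exact (Subgroup.orderOf_mk _ _)
  have hnx : (⟨perm nL, hnH⟩ : H) * x * (⟨perm nL, hnH⟩ : H)⁻¹ = x ^ r := Subtype.ext hn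
  obtain ⟨g, hg⟩ := exists_conj_normalize x ⟨perm nL, hnH⟩ r hordx hpp hnx hrk φ
  have hgens := closure_pair_eq_top haH hbH hgen
  -- the inner case
  have hinner : ∀ ψ : MulAut H, ψ x = x → ψ ∈ Cfsg.Inn H := by
    intro ψ hψ
    obtain ⟨i, hi⟩ := key_plus hH ha hb haH hbH hr hc hcond hf hrels hplus hb2 hbne ψ hψ (hfix ψ)
    have h1 : MulAut.conj (x ^ i)⁻¹ * ψ = 1 := by
      apply eq_one_of_fix_gens x y hgens
      · simp only [MulAut.mul_apply, MulAut.conj_apply, hψ]
        have : Commute (x ^ i)⁻¹ x := ((Commute.refl x).pow_left i).inv_left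
        rw [this.eq]; group
      · simp only [MulAut.mul_apply, MulAut.conj_apply]
        apply Subtype.ext
        push_cast
        simp only [inv_inv]
        exact hi
    refine ⟨x ^ i, ?_⟩
    show MulAut.conj (x ^ i) = ψ
    have h2 : (MulAut.conj (x ^ i))⁻¹ * ψ = 1 := by
      rw [← map_inv]; exact h1
    exact (inv_mul_eq_one.mp h2)
  have hgin : (MulAut.conj g : MulAut H) ∈ Cfsg.Inn H := ⟨g, rfl⟩
  rcases hg with hg | hg
  · left
    have h1 := hinner _ hg
    have h2 : φ = (MulAut.conj g)⁻¹ * (MulAut.conj g * φ) := by group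
    rw [h2]
    exact mul_mem (inv_mem hgin) h1
  · right
    have h3 : (τ * (MulAut.conj g * φ)) x = x := by
      rw [MulAut.mul_apply, hg, map_inv, hτa, inv_inv]
    have h1 := hinner _ h3
    have h4 : τ * φ = (τ * (MulAut.conj g)⁻¹ * τ⁻¹) * (τ * (MulAut.conj g * φ)) := by group
    rw [h4]
    exact mul_mem ((Cfsg.innNormal H).conj_mem _ (inv_mem hgin) _) h1

end main

/-! ### Straight line programs -/

/-- Run a straight line program on a table (most recent entry first). -/
def slpRun : List (List ℕ) → List (ℕ × ℕ) → List (List ℕ)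
  | tab, [] => tab
  | tab, s :: rest => slpRun (mulL (lkL tab s.1) (lkL tab s.2) :: tab) rest

/-- Range check of a straight line program. -/
def slpChk : ℕ → List (ℕ × ℕ) → Bool
  | _, [] => true
  | n, s :: rest => Nat.blt s.1 n && Nat.blt s.2 n && slpChk (n + 1) rest

theorem slp_mem (K : Subgroup (Equiv.Perm GolayPt)) (steps : List (ℕ × ℕ)) :
    ∀ (tab : List (List ℕ)), (∀ g ∈ tab, isPerm g = true ∧ perm g ∈ K) →
      slpChk tab.length steps = true → ∀ g ∈ slpRun tab steps, isPerm g = true ∧ perm g ∈ K := by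
  induction steps with
  | nil =>
    intro tab htab _ g hg
    exact htab g hg
  | cons s rest ih =>
    intro tab htab hchk g hg
    simp only [slpChk, Bool.and_eq_true, Nat.blt_eq] at hchk
    obtain ⟨⟨h1, h2⟩, h3⟩ := hchk
    refine ih _ ?_ (by simpa using h3) g hg
    intro g' hg'
    rcases List.mem_cons.mp hg' with rfl | hg'
    · obtain ⟨p1, m1⟩ := htab _ (lkL_mem h1)
      obtain ⟨p2, m2⟩ := htab _ (lkL_mem h2)
      refine ⟨isPerm_mulL p1 p2, ?_⟩
      rw [perm_mulL' p1 p2]
      exact K.mul_mem m1 m2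
    · exact htab g' hg'

/-! ### Powers and fixed points -/

/-- Powers of list permutations. -/
def powL (a : List ℕ) : ℕ → List ℕ
  | 0 => idL
  | i + 1 => mulL a (powL a i)

theorem isPerm_powL {a : List ℕ} (ha : isPerm a = true) (i : ℕ) : isPerm (powL a i) = true := by
  induction i with
  | zero => exact isPerm_idL
  | succ i ih => exact isPerm_mulL ha ih

theorem perm_powL {a : List ℕ} (ha : isPerm a = true) (i : ℕ) : perm (powL a i) = perm a ^ i := by
  induction i with
  | zero => exact perm_idL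
  | succ i ih =>
    show perm (mulL a (powL a i)) = _
    rw [perm_mulL' ha (isPerm_powL ha i), ih, pow_succ']

theorem orderOf_perm {a : List ℕ} {p : ℕ} [hp : Fact p.Prime] (ha : isPerm a = true)
    (h1 : powL a p = idL) (h2 : a ≠ idL) : orderOf (perm a) = p := by
  apply orderOf_eq_prime
  · rw [← perm_powL ha, h1, perm_idL]
  · intro h
    exact h2 (eq_idL_of_perm ha h)

theorem perm_inv_of_mul {a b : List ℕ} (ha : isPerm a = true) (hb : isPerm b = true)
    (h : mulL a b = idL) : perm b = (perm a)⁻¹ := by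
  have : perm a * perm b = 1 := by
    rw [← perm_mulL' ha hb, h, perm_idL]
  exact eq_inv_of_mul_eq_one_right this

/-- The check on the stabiliser of five base points. -/
theorem stab5_fix_check : m24T5.all (fun t5 => m24T6.all fun t6 =>
    (mulL t5 t6 == idL) || Nat.ble (pop (fixMaskL (mulL t5 t6))) 8) = true := by
  decide +kernel

theorem fixMaskL_lt (l : List ℕ) : fixMaskL l < 2 ^ 24 := Nat.ofBits_lt_two_pow _

/-- A non-identity element of `M24` fixes at most eight points. -/
theorem fix_le_eight {g : Equiv.Perm GolayPt} (hg : g ∈ M24) (hne : g ≠ 1) : (fixF g).card ≤ 8 := by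
  classical
  by_contra hc
  have h5 : 5 ≤ (fixF g).card := by omega
  obtain ⟨s, hs, hsc⟩ := Finset.exists_subset_card_eq h5
  let e := s.equivFinOfCardEq hsc
  let x : Fin 5 → GolayPt := fun i => (e.symm i : GolayPt)
  have hx : Function.Injective x := fun i j h => e.symm.injective (Subtype.ext h)
  obtain ⟨h, hh, hhx⟩ := exists_map_five x base5 hx (by decide)
  have hfx : ∀ i, g (x i) = x i := fun i => mem_fixF.mp (hs (e.symm i).2)
  set y := h * g * h⁻¹ with hy
  have hb : ∀ i, y (base5 i) = base5 i := by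
    intro i
    rw [← hhx i, hy]
    simp [hfx]
  have hmem : y ∈ stabL M24 [23, 0, 1, 2, 3] := by
    rw [mem_stabL]
    refine ⟨M24.mul_mem (M24.mul_mem hh hg) (M24.inv_mem hh), ?_⟩
    intro b hb'
    simp only [List.mem_cons, List.not_mem_nil, or_false] at hb'
    rcases hb' with rfl | rfl | rfl | rfl | rfl
    · exact hb 0
    · exact hb 1
    · exact hb 2
    · exact hb 3
    · exact hb 4
  obtain ⟨t5, h5', t6, h6, hye⟩ := mem_stab5 hmem
  have hp := isPerm_mulL (T5_perm _ h5') (T6_perm _ h6)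
  have hyp : y = perm (mulL t5 t6) := by rw [perm_mulL' (T5_perm _ h5') (T6_perm _ h6), hye]
  have hyne : y ≠ 1 := by
    intro h0
    apply hne
    have : g = h⁻¹ * y * h := by rw [hy]; group
    rw [this, h0]; group
  have hcheck := List.all_eq_true.mp (List.all_eq_true.mp stab5_fix_check t5 h5') t6 h6
  simp only [Bool.or_eq_true, beq_iff_eq, Nat.ble_eq] at hcheck
  have hcard : (fixF y).card = (fixF g).card := by
    rw [hy, fixF_conj, Finset.card_smul_finset]
  rcases hcheck with h1 | h1
  · apply hyne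
    rw [hyp, h1, perm_idL]
  · apply hc
    rw [← hcard, hyp, fixF_perm hp, card_finOf (fixMaskL_lt _)]
    exact h1

/-- An involution of a set of three elements has a fixed point. -/
theorem exists_fixed_of_three {t : Equiv.Perm GolayPt} (ht2 : t ^ 2 = 1) {F : Finset GolayPt}
    (hF : F.card = 3) (hmap : ∀ q ∈ F, t q ∈ F) : ∃ q, t q = q := by
  have hinv : ∀ q, t (t q) = q := by
    intro q
    have : (t ^ 2) q = q := by rw [ht2]; rfl
    simpa [pow_two] using this
  obtain ⟨x, y, z, hxy, hxz, hyz, rfl⟩ := Finset.card_eq_three.mp hF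
  have hx := hmap x (by simp)
  have hy := hmap y (by simp)
  have hz := hmap z (by simp)
  simp only [Finset.mem_insert, Finset.mem_singleton] at hx hy hz
  by_contra hno
  push Not at hno
  rcases hx with hx | hx | hx
  · exact hno x hx
  · rcases hz with hz | hz | hz
    · have := congrArg t hz
      rw [hinv, hx] at this
      exact hyz this.symm
    · have := congrArg t hz
      rw [hinv, ← hx, hinv] at this
      exact hxz this.symm
    · exact hno z hz
  · rcases hy with hy | hy | hy
    · have := congrArg t hy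
      rw [hinv, hx] at this
      exact hyz this
    · exact hno y hy
    · have := congrArg t hy
      rw [hinv, ← hx, hinv] at this
      exact hxy this.symm

/-- An involution commuting with an element of order seven of `M24` has a fixed point. -/
theorem exists_fixed_of_comm_seven {s t : Equiv.Perm GolayPt} (hs : s ∈ M24) (hs7 : s ^ 7 = 1)
    (hsne : s ≠ 1) (ht2 : t ^ 2 = 1) (hc : Commute s t) : ∃ q, t q = q := by
  have h7 : Fact (Nat.Prime 7) := ⟨by norm_num⟩
  have h1 : (fixF s).card ≡ 24 [MOD 7] := card_fixF_modEq (p := 7) (n := 1) (by simpa using hs7)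
  have h2 := fix_le_eight hs hsne
  have h3 : (fixF s).card = 3 := by
    unfold Nat.ModEq at h1
    omega
  refine exists_fixed_of_three ht2 h3 ?_
  intro q hq
  rw [mem_fixF] at hq ⊢
  have : s (t q) = t (s q) := by
    have := congrArg (fun f : Equiv.Perm GolayPt => f q) hc.eq
    simpa using this
  rw [this, hq]

end Cfsg.Agent.Lib.KnownSimple.MathieuOut
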