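import Mathlib
import Cfsg.Agent.S2061

/-!
# The double cover of `M12`, as a group of signed permutations preserving a Hadamard matrix
-/

set_option autoImplicit false

namespace Cfsg.Agent.Lib.KnownSimple.M12Cover

open Cfsg Cfsg.Agent.Lib.Golay Cfsg.Agent.Lib.KnownSimple.MathieuOut
open Cfsg.Agent.S2061 (aL bL ha hb haH hbH hgen)
open scoped Pointwise commutatorElement

def atL : List ℕ := [5,10,4,6,8,0,12,2,22,18,14,15,1,11,17,20,19,16,21,23,7,3,9,13]
def btL : List ℕ := [20,1,13,8,4,12,6,7,3,9,21,17,5,2,14,15,18,11,16,19,0,10,23,22]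
def atiL : List ℕ := [5,12,7,21,2,0,3,20,4,22,1,13,6,23,10,11,17,14,9,16,15,18,8,19]
def btiL : List ℕ := [20,1,13,8,4,12,6,7,3,9,21,17,5,2,14,15,18,11,16,19,0,10,23,22]
/-- The central involution: exchanges the two points of each block. -/
def zL : List ℕ := [5,7,10,11,14,0,15,1,17,19,2,3,20,21,4,6,22,8,23,9,12,13,16,18]
/-- The block map. -/
def betaL : List ℕ := [0,1,2,3,4,0,6,1,8,9,2,3,12,13,4,6,16,8,18,9,12,13,16,18]
/-- The signed rows of the Hadamard matrix, as sets of signed columns. -/
def Rl : List ℕ := [340862,16436353,8633875,8143340,7085395,9691820,14197023,2580192,14815965,1961250,3508121,13269094,5662283,11114932,9008585,7768630,2042069,14735146,4520837,12256378,3133455,13643760,11619143,5158072]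
def m0 : ℕ := 340862
def m0c : ℕ := 16436353

def mkW (exps : List ℕ) (m : ℕ) : List Bool :=
  (List.replicate m (exps.flatMap fun e => List.replicate e false ++ [true])).flatten

def w1 : List Bool := mkW [1, 5, 1] 5
def w2 : List Bool := mkW [5, 1, 6, 4, 5] 5

theorem hat : isPerm atL = true := by decide +kernel
theorem hbt : isPerm btL = true := by decide +kernel
theorem hati : isPerm atiL = true := by decide +kernel
theorem hbti : isPerm btiL = true := by decide +kernel
theorem hz : isPerm zL = true := by decide +kernel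
theorem atiE : perm atiL = (perm atL)⁻¹ := perm_inv_of_mul hat hati (by decide +kernel)
theorem btiE : perm btiL = (perm btL)⁻¹ := perm_inv_of_mul hbt hbti (by decide +kernel)

/-- The group in which the cover lives. -/
abbrev PP := ↥Spor.M12 × Equiv.Perm GolayPt

noncomputable def elA : PP := (⟨perm aL, haH⟩, perm atL)
noncomputable def elB : PP := (⟨perm bL, hbH⟩, perm btL)

/-- The cover. -/
noncomputable def Gam : Subgroup PP := Subgroup.closure {elA, elB}

noncomputable def beta (p : GolayPt) : GolayPt := pt (lk betaL (idx p))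

theorem beta_lt : ∀ i : Fin 24, lk betaL i < 24 := by decide +kernel

theorem beta_apply {l : List ℕ} (hl : isPerm l = true) (p : GolayPt) :
    perm l (beta p) = pt (lk l (lk betaL (idx p))) := by
  rw [beta, perm_pt hl (beta_lt ⟨_, idx_lt p⟩)]

theorem beta_perm {l : List ℕ} (hl : isPerm l = true) (p : GolayPt) :
    beta (perm l p) = pt (lk betaL (lk l (idx p))) := by
  rw [beta, idx_perm hl]

theorem beta_inj {i j : ℕ} (hi : i < 24) (hj : j < 24) (h : pt i = pt j) : i = j := by
  have := congrArg idx h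
  rwa [idx_pt hi, idx_pt hj] at this

/-- The subgroup respecting blocks. -/
noncomputable def Phi1 : Subgroup PP where
  carrier := {q | ∀ p, beta (q.2 p) = (q.1 : Equiv.Perm GolayPt) (beta p)}
  one_mem' := by intro p; rfl
  mul_mem' := by
    intro x y hx hy p
    show beta (x.2 (y.2 p)) = (x.1 : Equiv.Perm GolayPt) ((y.1 : Equiv.Perm GolayPt) (beta p))
    rw [hx, hy]
  inv_mem' := by
    intro x hx p
    show beta (x.2⁻¹ p) = ((x.1 : Equiv.Perm GolayPt))⁻¹ (beta p)
    rw [Equiv.Perm.eq_inv_iff_eq, ← hx]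
    simp

/-- The signed rows. -/
noncomputable def Rset : Finset (Finset GolayPt) := Rl.toFinset.image finOf

/-- The subgroup preserving the signed rows. -/
noncomputable def Phi2 : Subgroup PP :=
  (MulAction.stabilizer (Equiv.Perm GolayPt) Rset).comap (MonoidHom.snd _ _)

theorem smul_Rset {l li : List ℕ} (hli : isPerm li = true) (hE : perm li = (perm l)⁻¹)
    (h : ∀ m ∈ Rl, pull li m ∈ Rl) : perm l • Rset = Rset := by
  apply Finset.eq_of_subset_of_card_le
  · intro y hy
    obtain ⟨w, hw, rfl⟩ := Finset.mem_smul_finset.mp hy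
    obtain ⟨m, hm, rfl⟩ := Finset.mem_image.mp hw
    have hm' := List.mem_toFinset.mp hm
    refine Finset.mem_image.mpr ⟨pull li m, List.mem_toFinset.mpr (h m hm'), ?_⟩
    rw [finOf_pull hli, hE, inv_inv]
  · rw [Finset.card_smul_finset]

theorem hA1 : ∀ i : Fin 24, lk betaL (lk atL i) = lk aL (lk betaL i) := by decide +kernel
theorem hB1 : ∀ i : Fin 24, lk betaL (lk btL i) = lk bL (lk betaL i) := by decide +kernel
theorem hA2 : ∀ m ∈ Rl, pull atiL m ∈ Rl := by decide +kernel
theorem hB2 : ∀ m ∈ Rl, pull btiL m ∈ Rl := by decide +kernel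

theorem Gam_le : Gam ≤ Phi1 ⊓ Phi2 := by
  rw [Gam, Subgroup.closure_le]
  rintro q (rfl | hq)
  · refine ⟨?_, ?_⟩
    · intro p
      show beta (perm atL p) = perm aL (beta p)
      rw [beta_perm hat, beta_apply ha, hA1 ⟨_, idx_lt p⟩]
    · show perm atL ∈ MulAction.stabilizer (Equiv.Perm GolayPt) Rset
      rw [MulAction.mem_stabilizer_iff]
      exact smul_Rset hati atiE hA2
  · rw [Set.mem_singleton_iff.mp hq]
    refine ⟨?_, ?_⟩
    · intro p
      show beta (perm btL p) = perm bL (beta p)
      rw [beta_perm hbt, beta_apply hb, hB1 ⟨_, idx_lt p⟩]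
    · show perm btL ∈ MulAction.stabilizer (Equiv.Perm GolayPt) Rset
      rw [MulAction.mem_stabilizer_iff]
      exact smul_Rset hbti btiE hB2

/-! ### The block structure -/

theorem hblock_check : ∀ i j : Fin 24, lk betaL i = lk betaL j → (j : ℕ) = i ∨ (j : ℕ) = lk zL i := by
  decide +kernel

theorem hzz_check : ∀ i : Fin 24, lk zL (lk zL i) = i ∧ lk zL i ≠ i ∧ lk betaL (lk zL i) = lk betaL i := by
  decide +kernel

noncomputable def z : Equiv.Perm GolayPt := perm zL

theorem z_z (p : GolayPt) : z (z p) = p := by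
  apply idx_injective
  rw [z, idx_perm hz, idx_perm hz]
  exact (hzz_check ⟨_, idx_lt p⟩).1

theorem z_ne (p : GolayPt) : z p ≠ p := by
  intro h
  have := congrArg idx h
  rw [z, idx_perm hz] at this
  exact (hzz_check ⟨_, idx_lt p⟩).2.1 this

theorem beta_z (p : GolayPt) : beta (z p) = beta p := by
  rw [z, beta_perm hz]
  exact congrArg pt (hzz_check ⟨_, idx_lt p⟩).2.2

theorem hblock {p q : GolayPt} (h : beta p = beta q) : q = p ∨ q = z p := by
  have h1 := beta_inj (beta_lt ⟨_, idx_lt p⟩) (beta_lt ⟨_, idx_lt q⟩) h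
  rcases hblock_check ⟨_, idx_lt p⟩ ⟨_, idx_lt q⟩ h1 with h2 | h2
  · left; exact idx_injective h2
  · right
    apply idx_injective
    rw [z, idx_perm hz]
    exact h2

theorem htrans_check : ∀ m ∈ Rl, ∀ i : Fin 24, m.testBit i ≠ m.testBit (lk zL i) := by decide +kernel

theorem htrans {m : ℕ} (hm : m ∈ Rl) (p : GolayPt) : p ∈ finOf m ↔ z p ∉ finOf m := by
  have h1 := htrans_check m hm ⟨_, idx_lt p⟩
  rw [mem_finOf, mem_finOf, z, idx_perm hz]
  simp only at h1
  cases h2 : m.testBit (idx p) <;> cases h3 : m.testBit (lk zL (idx p)) <;> simp_all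

/-- `xi m i`: the image of `i` under the sign change carrying row `m0` to row `m`. -/
def xi (m i : ℕ) : ℕ := if m0.testBit i = m.testBit i then i else lk zL i

theorem R_check : Rl.all (fun m => Nat.beq m m0 || Nat.beq m m0c || Rl.any fun m1 => Rl.all fun m2 =>
    (List.range 24).any fun i => m1.testBit i && !(m2.testBit (xi m i))) = true := by decide +kernel

theorem m0_mem : m0 ∈ Rl := by decide +kernel
theorem m0c_ne : ∀ i : Fin 24, m0.testBit i ≠ m0c.testBit i := by decide +kernel

theorem xi_lt : ∀ i : Fin 24, ∀ m ∈ Rl, xi m i < 24 := by decide +kernel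

/-- An element acting trivially on blocks and preserving the rows is `1` or `z`. -/
theorem ker_cases {x : Equiv.Perm GolayPt} (h1 : ∀ p, beta (x p) = beta p) (h2 : x • Rset = Rset) :
    x = 1 ∨ x = z := by
  have hrow : ∀ m₁ ∈ Rl, ∃ m ∈ Rl, x • finOf m₁ = finOf m := by
    intro m₁ hm₁
    have h3 : x • finOf m₁ ∈ x • Rset :=
      Finset.smul_mem_smul_finset (Finset.mem_image.mpr ⟨m₁, List.mem_toFinset.mpr hm₁, rfl⟩)
    rw [h2] at h3
    obtain ⟨m, hm, hme⟩ := Finset.mem_image.mp h3
    exact ⟨m, List.mem_toFinset.mp hm, hme.symm⟩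
  have hcases : ∀ p, x p = p ∨ x p = z p := fun p => hblock (h1 p).symm
  obtain ⟨m, hm, hme⟩ := hrow m0 m0_mem
  have hin : ∀ q ∈ finOf m0, x q ∈ finOf m := by
    intro q hq
    rw [← hme]
    exact Finset.smul_mem_smul_finset hq
  -- the formula
  have hform1 : ∀ q ∈ finOf m0, x q = if q ∈ finOf m then q else z q := by
    intro q hq
    have h3 := hin q hq
    split_ifs with h4
    · rcases hcases q with h5 | h5
      · exact h5
      · exfalso
        rw [h5] at h3
        exact (htrans hm q).mp h4 h3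
    · rcases hcases q with h5 | h5
      · exfalso
        rw [h5] at h3
        exact h4 h3
      · exact h5
  have hform2 : ∀ q, q ∉ finOf m0 → x q = if q ∈ finOf m then z q else q := by
    intro q hq
    have h3 : z q ∈ finOf m0 := by
      by_contra h4
      have := (htrans m0_mem (z q))
      rw [z_z] at this
      exact hq (by
        by_contra h5
        exact h4 ((htrans m0_mem (z q)).mpr (by rw [z_z]; exact h5)))
    have h4 := hform1 _ h3
    have hne : x q ≠ x (z q) := fun h => z_ne q (x.injective h).symm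
    split_ifs with h5
    · -- `z q ∉ m`
      have h6 : z q ∉ finOf m := (htrans hm q).mp h5
      rw [if_neg h6, z_z] at h4
      rw [h4] at hne
      rcases hcases q with h7 | h7
      · exact absurd h7 hne
      · exact h7
    · have h6 : z q ∈ finOf m := by
        by_contra h7
        exact h5 ((htrans hm q).mpr h7)
      rw [if_pos h6] at h4
      rw [h4] at hne
      rcases hcases q with h7 | h7
      · exact h7
      · exact absurd h7 hne
  have hxi : ∀ q, idx (x q) = xi m (idx q) := by
    intro q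
    by_cases hq : q ∈ finOf m0
    · rw [hform1 q hq]
      have hq' := mem_finOf.mp hq
      rw [xi, hq']
      split_ifs with h4 h5 h5
      · rfl
      · exfalso
        exact h5 (mem_finOf.mp h4).symm
      · exfalso
        exact h4 (mem_finOf.mpr h5.symm)
      · rw [z, idx_perm hz]
    · rw [hform2 q hq]
      have hq' : m0.testBit (idx q) = false := by
        rw [mem_finOf] at hq
        simpa using hq
      rw [xi, hq']
      split_ifs with h4 h5 h5
      · exfalso
        have := mem_finOf.mp h4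
        rw [this] at h5
        exact absurd h5 (by simp)
      · rw [z, idx_perm hz]
      · rfl
      · exfalso
        apply h5
        rw [mem_finOf] at h4
        simpa using h4 |> fun h => (by simpa using h : m.testBit (idx q) = false)
  have hchk := List.all_eq_true.mp R_check m hm
  simp only [Bool.or_eq_true] at hchk
  rcases hchk with (h3 | h3) | h3
  · left
    have h4 : m = m0 := Nat.eq_of_beq_eq_true h3
    ext1 q
    apply idx_injective
    rw [hxi, xi, h4, if_pos rfl]
    rfl
  · right
    have h4 : m = m0c := Nat.eq_of_beq_eq_true h3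
    ext1 q
    apply idx_injective
    rw [hxi, xi, h4, if_neg (m0c_ne ⟨_, idx_lt q⟩), z, idx_perm hz]
  · exfalso
    obtain ⟨m1, hm1, h4⟩ := List.any_eq_true.mp h3
    obtain ⟨m2, hm2, hm2e⟩ := hrow m1 hm1
    have h5 := List.all_eq_true.mp h4 m2 hm2
    obtain ⟨i, hi, h6⟩ := List.any_eq_true.mp h5
    simp only [Bool.and_eq_true, Bool.not_eq_true'] at h6
    have hi24 := List.mem_range.mp hi
    have h7 : pt i ∈ finOf m1 := by
      rw [mem_finOf, idx_pt hi24]
      exact h6.1
    have h8 : x (pt i) ∈ finOf m2 := by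
      rw [← hm2e]
      exact Finset.smul_mem_smul_finset h7
    rw [mem_finOf, hxi, idx_pt hi24, h6.2] at h8
    exact absurd h8 (by simp)


/-! ### The central element is a commutator -/

theorem wordVal_append {G : Type*} [Group G] (x y : G) (w₁ w₂ : List Bool) :
    wordVal x y (w₁ ++ w₂) = wordVal x y w₁ * wordVal x y w₂ := by
  simp [wordVal, List.prod_append]

theorem wordVal_mem {G : Type*} [Group G] (K : Subgroup G) {x y : G} (hx : x ∈ K) (hy : y ∈ K)
    (w : List Bool) : wordVal x y w ∈ K := by
  induction w with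
  | nil => simpa [wordVal] using K.one_mem
  | cons c w ih =>
    simp only [wordVal, List.map_cons, List.prod_cons] at ih ⊢
    refine K.mul_mem ?_ ih
    cases c <;> simp [hx, hy]

theorem elA_mem : elA ∈ Gam := Subgroup.subset_closure (by simp)
theorem elB_mem : elB ∈ Gam := Subgroup.subset_closure (by simp)

/-- Projection to permutations of the first component. -/
noncomputable def fstP : PP →* Equiv.Perm GolayPt := Spor.M12.subtype.comp (MonoidHom.fst _ _)

theorem fstP_word (w : List Bool) : fstP (wordVal elA elB w) = wordVal (perm aL) (perm bL) w := by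
  rw [map_wordVal]; rfl

theorem snd_word (w : List Bool) : (wordVal elA elB w).2 = wordVal (perm atL) (perm btL) w :=
  map_wordVal (MonoidHom.snd _ _) elA elB w

theorem comm_check1 : ∀ i : Fin 24, evalPt aL bL (w1 ++ w2) i = evalPt aL bL (w2 ++ w1) i := by
  decide +kernel

theorem comm_check2 : ∀ i : Fin 24, evalPt atL btL (w1 ++ w2) i = lk zL (evalPt atL btL (w2 ++ w1) i) := by
  decide +kernel

noncomputable def u : PP := wordVal elA elB w1
noncomputable def v : PP := wordVal elA elB w2
noncomputable def Z : PP := (1, z)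

theorem u_mem : u ∈ Gam := wordVal_mem _ elA_mem elB_mem _
theorem v_mem : v ∈ Gam := wordVal_mem _ elA_mem elB_mem _

theorem fst_comm {w w' : List Bool} (h : ∀ i : Fin 24, evalPt aL bL w i = evalPt aL bL w' i) :
    (wordVal elA elB w).1 = (wordVal elA elB w').1 := by
  apply Subtype.ext
  show fstP _ = fstP _
  rw [fstP_word, fstP_word]
  ext1 p
  apply idx_injective
  rw [idx_wordVal ha hb, idx_wordVal ha hb]
  exact h ⟨_, idx_lt p⟩

theorem snd_comm {w w' : List Bool}
    (h : ∀ i : Fin 24, evalPt atL btL w i = lk zL (evalPt atL btL w' i)) :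
    (wordVal elA elB w).2 = z * (wordVal elA elB w').2 := by
  rw [snd_word, snd_word]
  ext1 p
  apply idx_injective
  show idx (wordVal (perm atL) (perm btL) w p) = idx (z (wordVal (perm atL) (perm btL) w' p))
  rw [z, idx_perm hz, idx_wordVal hat hbt, idx_wordVal hat hbt]
  exact h ⟨_, idx_lt p⟩

theorem uv_eq : u * v = Z * (v * u) := by
  have e1 : u * v = wordVal elA elB (w1 ++ w2) := (wordVal_append _ _ _ _).symm
  have e2 : v * u = wordVal elA elB (w2 ++ w1) := (wordVal_append _ _ _ _).symm
  rw [e1, e2]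
  refine Prod.ext ?_ ?_
  · rw [Prod.fst_mul, show Z.1 = 1 from rfl, one_mul]
    exact fst_comm comm_check1
  · rw [Prod.snd_mul, show Z.2 = z from rfl]
    exact snd_comm comm_check2

theorem Z_eq : Z = ⁅u, v⁆ := by
  rw [commutatorElement_def]
  have h := uv_eq
  have : u * v * u⁻¹ * v⁻¹ = (u * v) * (v * u)⁻¹ := by group
  rw [this, h]; group

theorem Z_mem : Z ∈ Gam := by
  rw [Z_eq]
  exact Gam.mul_mem (Gam.mul_mem (Gam.mul_mem u_mem v_mem) (Gam.inv_mem u_mem)) (Gam.inv_mem v_mem)

theorem Z_ne : Z ≠ 1 := by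
  intro h
  have h1 : z = 1 := congrArg Prod.snd h
  have h2 := z_ne none
  rw [h1] at h2
  exact h2 rfl

theorem Z_central {q : PP} (hq : q ∈ Gam) : q * Z = Z * q := by
  have hq' := (Gam_le hq).1
  refine Prod.ext ?_ ?_
  · show q.1 * 1 = 1 * q.1
    simp
  · show q.2 * z = z * q.2
    ext1 p
    show q.2 (z p) = z (q.2 p)
    have h1 : beta (q.2 (z p)) = beta (q.2 p) := by
      rw [hq' (z p), hq' p, beta_z]
    rcases hblock h1.symm with h2 | h2
    · exfalso
      exact z_ne p (q.2.injective h2)
    · exact h2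

/-- The covering map. -/
noncomputable def sigma : ↥Gam →* ↥Spor.M12 := (MonoidHom.fst _ _).comp Gam.subtype

theorem sigma_surj : Function.Surjective sigma := by
  intro g
  have hK : Subgroup.closure {perm aL, perm bL} ≤ Gam.map fstP := by
    rw [Subgroup.closure_le]
    rintro q (rfl | hq)
    · exact ⟨elA, elA_mem, rfl⟩
    · rw [Set.mem_singleton_iff.mp hq]
      exact ⟨elB, elB_mem, rfl⟩
  obtain ⟨q, hq, hqe⟩ := hK (hgen g.2)
  exact ⟨⟨q, hq⟩, Subtype.ext hqe⟩

theorem mem_ker_cases {q : ↥Gam} (hq : q ∈ sigma.ker) : q.1 = 1 ∨ q.1 = Z := by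
  have h1 : q.1.1 = 1 := MonoidHom.mem_ker.mp hq
  have h2 := Gam_le q.2
  have h3 : ∀ p, beta (q.1.2 p) = beta p := by
    intro p
    rw [h2.1 p, h1]
    rfl
  have h4 : q.1.2 • Rset = Rset := MulAction.mem_stabilizer_iff.mp h2.2
  rcases ker_cases h3 h4 with h5 | h5
  · left
    exact Prod.ext h1 h5
  · right
    exact Prod.ext h1 h5

theorem sigma_stem : Cfsg.IsStemExtension sigma := by
  refine ⟨sigma_surj, ?_, ?_⟩
  · intro q hq
    rw [Subgroup.mem_center_iff]
    intro y
    apply Subtype.ext
    rcases mem_ker_cases hq with h | h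
    · show y.1 * q.1 = q.1 * y.1
      rw [h]; simp
    · show y.1 * q.1 = q.1 * y.1
      rw [h]
      exact Z_central y.2
  · intro q hq
    rcases mem_ker_cases hq with h | h
    · have : q = 1 := Subtype.ext h
      rw [this]; exact one_mem _
    · have : q = ⁅(⟨u, u_mem⟩ : ↥Gam), (⟨v, v_mem⟩ : ↥Gam)⁆ := by
        apply Subtype.ext
        rw [h, Z_eq]
        rfl
      rw [this]
      exact Subgroup.commutator_mem_commutator (Subgroup.mem_top _) (Subgroup.mem_top _)

theorem card_ker : Nat.card sigma.ker = 2 := by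
  rw [Nat.card_eq_two_iff]
  have hZ : (⟨Z, Z_mem⟩ : ↥Gam) ∈ sigma.ker := by
    rw [MonoidHom.mem_ker]
    rfl
  refine ⟨1, ⟨⟨Z, Z_mem⟩, hZ⟩, ?_, ?_⟩
  · intro h
    exact Z_ne (congrArg (fun q : sigma.ker => (q.1 : PP)) h).symm
  · ext q
    simp only [Set.mem_insert_iff, Set.mem_singleton_iff, Set.mem_univ, iff_true]
    rcases mem_ker_cases q.2 with h | h
    · left
      exact Subtype.ext (Subtype.ext h)
    · right
      exact Subtype.ext (Subtype.ext h)

theorem exists_cover : ∃ (Γ : Type) (_ : Group Γ) (_ : Finite Γ) (σ : Γ →* ↥Spor.M12),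
    Cfsg.IsStemExtension σ ∧ Nonempty (σ.ker ≃* Multiplicative (ZMod 2)) := by
  refine ⟨↥Gam, inferInstance, inferInstance, sigma, sigma_stem, ?_⟩
  have : Fact (Nat.Prime 2) := ⟨Nat.prime_two⟩
  exact ⟨mulEquivOfPrimeCardEq card_ker (by simp)⟩

end Cfsg.Agent.Lib.KnownSimple.M12Cover
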