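import Cfsg.Agent.S2034
import Cfsg.Agent.S2038
import Cfsg.Agent.S2060
import Cfsg.Agent.Lib.KnownSimple.SchurFlat
import Cfsg.Agent.Lib.KnownSimple.MathieuList
import Cfsg.Agent.Lib.Golay.Simple

/-!
# The kernel of a stem extension of `M12` has at most two elements
-/

set_option autoImplicit false

namespace Cfsg.Agent.Lib.KnownSimple.M12Upper

open Cfsg Cfsg.Agent.Lib.Golay Cfsg.Agent.Lib.KnownSimple.MathieuOut Cfsg.Agent.Lib.KnownSimple.MathieuList
open Cfsg.Agent.Lib.KnownSimple.SchurFlat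
open Cfsg.Agent.S2038 (commutator_eq_top_of_equiv le_commutator_of_perfect ker_bot_of_multiplier stem_transfer)
open Cfsg.Agent.S2061 (apply_mem_D0)
open scoped commutatorElement

def tL : List ℕ := [23,1,11,7,6,10,4,3,8,9,5,2,12,15,22,13,16,17,18,19,21,20,14,0]
def x1L : List ℕ := [0,19,9,8,21,1,13,7,2,3,5,11,16,20,22,6,12,14,17,10,15,4,18,23]
def y1L : List ℕ := [0,8,1,2,21,11,13,10,19,7,5,9,22,20,12,15,16,18,14,3,4,6,17,23]
def u1L : List ℕ := [0,11,5,9,17,1,14,7,10,8,3,2,4,12,21,22,20,13,6,19,16,18,15,23]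
def v1L : List ℕ := [0,9,2,1,18,10,22,5,8,11,19,3,4,14,20,17,13,15,21,7,16,12,6,23]
def u1iL : List ℕ := [0,5,11,10,12,2,18,7,9,3,8,1,13,17,6,22,20,4,21,19,16,14,15,23]
def v1iL : List ℕ := [0,3,2,11,12,7,22,19,8,1,5,9,21,16,13,17,20,15,4,10,14,18,6,23]
def u2L : List ℕ := [0,11,5,1,17,9,18,19,2,3,8,10,6,12,13,16,20,21,4,7,22,14,15,23]
def v2L : List ℕ := [0,8,1,7,17,5,14,9,10,11,2,3,13,16,15,18,20,4,6,19,12,22,21,23]
def u2iL : List ℕ := [0,3,8,9,18,2,12,19,10,5,11,1,13,14,21,22,15,4,6,7,16,17,20,23]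
def v2iL : List ℕ := [0,2,10,11,17,5,18,3,1,7,8,9,20,12,6,14,13,4,15,19,16,22,21,23]
def dL : List ℕ := [0,10,3,8,17,1,14,11,7,19,2,5,20,16,13,22,15,6,21,9,18,12,4,23]
def stepsA : List (ℕ × ℕ) := [
  (0,1),(2,2),(2,2),(4,3),(4,3),(6,4),(6,4),(8,5),(8,5),(10,6),(10,6),(12,7),(12,7),(14,8),(14,8),(16,9),(16,9),(18,10),(18,10),(20,11),
  (20,11),(22,12),(22,12),(24,13),(24,13),(26,14),(26,14),(28,15),(29,15),(29,15),(31,16),(31,16),(33,17),(33,17),(35,18),(35,18),(37,19),(37,19),(39,20),(39,20),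
  (41,21),(41,21),(42,20),(44,21),(44,21),(46,22),(46,22),(48,23),(48,23),(50,24),(50,24),(52,25),(52,25),(54,26),(54,26),(56,27),(56,27),(58,28),(58,28),(60,29),
  (60,29),(62,30),(62,30),(64,31),(64,31),(66,32),(66,32),(68,33),(68,33),(70,34),(71,34),(71,34),(73,35),(73,35),(75,36),(75,36),(77,37),(77,37),(79,38),(79,38),
  (81,39),(81,39),(83,40),(83,40),(85,41),(85,41),(87,42),(87,42),(88,42),(89,42),(90,42),(92,42),(92,42),(94,43),(94,43),(96,44),(96,44),(98,45),(98,45),(100,46),
  (100,46),(102,47),(102,47),(104,48),(104,47),(106,48),(106,48),(108,49),(108,48),(110,49),(110,49),(112,50),(112,50),(114,51),(115,51),(115,51),(117,52),(117,52),(118,52),(120,53),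
  (120,53),(122,54),(122,54),(124,55),(124,55),(126,56),(126,55),(128,55),(129,55),(129,55),(131,56),(131,56),(133,57),(134,57),(134,57),(136,58),(137,58),(137,58),(139,59),(140,59),
  (140,59),(142,60),(142,60),(144,61),(144,61),(146,62),(146,62),(147,62),(149,63),(149,63),(151,64),(151,64),(153,65),(154,65),(154,65),(156,66),(156,66),(158,67),(158,67),(160,68),
  (161,68),(162,68),(162,68),(163,68),(165,69),(165,69),(167,70),(168,70),(168,70),(170,71),(171,71),(171,71),(173,71),(174,71),(174,71),(176,72),(176,72),(178,73),(178,72),(180,73),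
  (180,73),(182,74),(182,74),(184,75),(185,75),(185,75),(187,76),(187,76),(188,76),(190,74),(191,74),(191,74),(193,75),(193,75),(195,76),(196,76),(196,76),(198,77),(199,77),(199,77),
  (201,77),(201,77),(203,78),(203,78),(204,78),(206,79),(206,79),(208,80),(208,80),(210,81),(210,81),(212,82),(213,82),(213,82),(215,83),(215,83),(216,83),(217,83),(219,84),(219,84),
  (220,83),(222,83),(223,83),(223,83),(225,83),(226,83),(227,83),(228,83),(229,83),(229,83),(231,84),(231,83),(233,84),(233,84),(235,85),(236,85),(237,85),(237,85),(239,86),(240,85),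
  (240,85),(241,85),(243,86),(244,86),(244,86),(245,86),(247,86),(248,86),(248,86),(250,87),(250,87),(252,87),(252,87),(254,88),(254,88),(255,88),(257,89),(257,89),(258,85),(260,86),
  (261,86),(262,86),(263,85),(263,84),(265,85),(266,85),(267,85),(268,84),(268,83),(270,84),(271,84),(271,84),(273,85),(274,85),(275,84),(276,84),(277,84),(277,84),(279,85),(280,85),
  (280,85),(282,86),(282,86),(284,87),(285,84),(286,84),(286,83),(288,84),(289,84),(289,83),(290,82),(292,83),(293,83),(293,83),(295,84),(296,81),(296,80),(298,81),(299,81),(300,81),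
  (301,81),(301,80),(302,78),(304,78),(304,77),(306,77),(306,77),(308,77),(308,76),(310,76),(310,75),(312,76),(312,76),(314,73),(315,73),(315,73),(316,73),(317,70),(319,70),(319,69),
  (321,70),(321,70),(323,67),(323,64),(324,60),(325,60),(326,60),(327,57),(329,58),(330,54),(330,53),(331,47),(333,48),(333,46),(335,44),(335,42),(337,43),(338,39),(339,39),(340,39),
  (340,39),(341,38),(343,39),(343,33),(345,34),(346,27),(347,23),(347,23),(349,24),(349,20),(351,17),(351,14),(353,15),(353,14),(355,15),(355,14),(357,13),(357,12)]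

/-- The dodecad as a set with an action of `M12B`. -/
abbrev Om : Type := {q : GolayPt // q ∈ D0}

instance actOm : MulAction ↥M12B Om where
  smul g q := ⟨g.1 q.1, apply_mem_D0 g.2 q.2⟩
  one_smul _ := rfl
  mul_smul _ _ _ := rfl

theorem smul_val (g : ↥M12B) (q : Om) : (g • q).1 = g.1 q.1 := rfl

theorem exists_base_three {x y z : GolayPt} (hx : x ∈ D0) (hy : y ∈ D0) (hz : z ∈ D0) (n1 : x ≠ y) (n2 : x ≠ z)
    (n3 : y ≠ z) : ∃ g ∈ M12B, g (pt 23) = x ∧ g (pt 0) = y ∧ g (pt 1) = z := by
  have h6 : D0.card = 12 := by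
    rw [D0, card_finOf (by decide +kernel)]
    decide +kernel
  obtain ⟨w, hw, hw1⟩ : ∃ w ∈ D0, w ∉ ({x, y, z} : Finset GolayPt) := by
    apply Finset.exists_mem_notMem_of_card_lt_card
    have h5 : ({x, y, z} : Finset GolayPt).card ≤ 3 := Finset.card_le_three
    omega
  simp only [Finset.mem_insert, Finset.mem_singleton, not_or] at hw1
  obtain ⟨w1, w2, w3⟩ := hw1
  obtain ⟨s, hs, hs1⟩ : ∃ s ∈ D0, s ∉ ({x, y, z, w} : Finset GolayPt) := by
    apply Finset.exists_mem_notMem_of_card_lt_card
    have h5 : ({x, y, z, w} : Finset GolayPt).card ≤ 4 := Finset.card_le_four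
    omega
  simp only [Finset.mem_insert, Finset.mem_singleton, not_or] at hs1
  obtain ⟨s1, s2, s3, s4⟩ := hs1
  let p : Fin 5 → GolayPt := ![x, y, z, w, s]
  have hp : Function.Injective p := by
    intro i j hij
    fin_cases i <;> fin_cases j <;> first
      | rfl
      | exact absurd hij n1
      | exact absurd hij (Ne.symm n1)
      | exact absurd hij n2
      | exact absurd hij (Ne.symm n2)
      | exact absurd hij n3
      | exact absurd hij (Ne.symm n3)
      | exact absurd hij w1
      | exact absurd hij (Ne.symm w1)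
      | exact absurd hij w2
      | exact absurd hij (Ne.symm w2)
      | exact absurd hij w3
      | exact absurd hij (Ne.symm w3)
      | exact absurd hij s1
      | exact absurd hij (Ne.symm s1)
      | exact absurd hij s2
      | exact absurd hij (Ne.symm s2)
      | exact absurd hij s3
      | exact absurd hij (Ne.symm s3)
      | exact absurd hij s4
      | exact absurd hij (Ne.symm s4)
  have hD : ∀ i, p i ∈ D0 := by
    intro i
    fin_cases i
    · exact hx
    · exact hy
    · exact hz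
    · exact hw
    · exact hs
  obtain ⟨g, hg, h0, h1, h2, -, -⟩ := exists_base12_to p hp hD
  exact ⟨g, hg, h0, h1, h2⟩

theorem three_trans (x y z x' y' z' : Om) (h1 : x ≠ y) (h2 : x ≠ z) (h3 : y ≠ z)
    (h4 : x' ≠ y') (h5 : x' ≠ z') (h6 : y' ≠ z') : ∃ g : ↥M12B, g • x = x' ∧ g • y = y' ∧ g • z = z' := by
  obtain ⟨g, hg, a1, a2, a3⟩ := exists_base_three x.2 y.2 z.2 (fun h => h1 (Subtype.ext h))
    (fun h => h2 (Subtype.ext h)) (fun h => h3 (Subtype.ext h))
  obtain ⟨g', hg', b1, b2, b3⟩ := exists_base_three x'.2 y'.2 z'.2 (fun h => h4 (Subtype.ext h))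
    (fun h => h5 (Subtype.ext h)) (fun h => h6 (Subtype.ext h))
  refine ⟨⟨g' * g⁻¹, M12B.mul_mem hg' (M12B.inv_mem hg)⟩, ?_, ?_, ?_⟩
  · apply Subtype.ext
    rw [smul_val]
    show g' (g⁻¹ x.1) = x'.1
    have e : g⁻¹ x.1 = pt 23 := by rw [← a1]; simp
    rw [e, b1]
  · apply Subtype.ext
    rw [smul_val]
    show g' (g⁻¹ y.1) = y'.1
    have e : g⁻¹ y.1 = pt 0 := by rw [← a2]; simp
    rw [e, b2]
  · apply Subtype.ext
    rw [smul_val]
    show g' (g⁻¹ z.1) = z'.1
    have e : g⁻¹ z.1 = pt 1 := by rw [← a3]; simp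
    rw [e, b3]

def a0 : Om := ⟨pt 23, by show pt 23 ∈ finOf d0; rw [mem_finOf]; decide +kernel⟩
def b0 : Om := ⟨pt 0, by show pt 0 ∈ finOf d0; rw [mem_finOf]; decide +kernel⟩
def c0 : Om := ⟨pt 1, by show pt 1 ∈ finOf d0; rw [mem_finOf]; decide +kernel⟩

theorem htp : isPerm tL = true := by decide +kernel
theorem htM : perm tL ∈ M12B := perm_mem_M12B htp (by decide +kernel) (by decide +kernel)

noncomputable def t : ↥M12B := ⟨perm tL, htM⟩

/-- The stabiliser of a point, inside `M12B`. -/
noncomputable def HH : Subgroup ↥M12B := (stabL M12B [23]).subgroupOf M12B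
/-- The stabiliser of two points, inside `M12B`. -/
noncomputable def PP : Subgroup ↥M12B := (stabL M12B [23, 0]).subgroupOf M12B

theorem mem_HH (g : ↥M12B) : g ∈ HH ↔ g • a0 = a0 := by
  rw [HH, Subgroup.mem_subgroupOf, mem_stabL]
  constructor
  · rintro ⟨-, h⟩
    exact Subtype.ext (h 23 (by simp))
  · intro h
    refine ⟨g.2, ?_⟩
    intro b hb
    simp only [List.mem_cons, List.not_mem_nil, or_false] at hb
    subst hb
    exact congrArg Subtype.val h

theorem mem_PP (g : ↥M12B) : g ∈ PP ↔ g • a0 = a0 ∧ g • b0 = b0 := by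
  rw [PP, Subgroup.mem_subgroupOf, mem_stabL]
  constructor
  · rintro ⟨-, h⟩
    exact ⟨Subtype.ext (h 23 (by simp)), Subtype.ext (h 0 (by simp))⟩
  · rintro ⟨h1, h2⟩
    refine ⟨g.2, ?_⟩
    intro b hb
    simp only [List.mem_cons, List.not_mem_nil, or_false] at hb
    rcases hb with rfl | rfl
    · exact congrArg Subtype.val h1
    · exact congrArg Subtype.val h2

/-! ### The two-point stabiliser -/

theorem hx1 : isPerm x1L = true := by decide +kernel
theorem hy1 : isPerm y1L = true := by decide +kernel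
theorem hu1 : isPerm u1L = true := by decide +kernel
theorem hv1 : isPerm v1L = true := by decide +kernel
theorem hu1i : isPerm u1iL = true := by decide +kernel
theorem hv1i : isPerm v1iL = true := by decide +kernel
theorem hu2 : isPerm u2L = true := by decide +kernel
theorem hv2 : isPerm v2L = true := by decide +kernel
theorem hu2i : isPerm u2iL = true := by decide +kernel
theorem hv2i : isPerm v2iL = true := by decide +kernel
theorem hd : isPerm dL = true := by decide +kernel

theorem mem_P_of {l : List ℕ} (h : isPerm l = true) (hu : autCheck l = true) (hD : pull l d0 = d0)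
    (h1 : lk l 23 = 23) (h2 : lk l 0 = 0) : perm l ∈ stabL M12B [23, 0] := by
  rw [mem_stabL]
  refine ⟨perm_mem_M12B h hu hD, ?_⟩
  intro b hb
  simp only [List.mem_cons, List.not_mem_nil, or_false] at hb
  rcases hb with rfl | rfl
  · rw [perm_pt h (by norm_num), h1]
  · rw [perm_pt h (by norm_num), h2]

abbrev Phat : Subgroup (Equiv.Perm GolayPt) := stabL M12B [23, 0]

theorem hu1P : perm u1L ∈ Phat := mem_P_of hu1 (by decide +kernel) (by decide +kernel) (by decide +kernel) (by decide +kernel)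
theorem hv1P : perm v1L ∈ Phat := mem_P_of hv1 (by decide +kernel) (by decide +kernel) (by decide +kernel) (by decide +kernel)
theorem hu2P : perm u2L ∈ Phat := mem_P_of hu2 (by decide +kernel) (by decide +kernel) (by decide +kernel) (by decide +kernel)
theorem hv2P : perm v2L ∈ Phat := mem_P_of hv2 (by decide +kernel) (by decide +kernel) (by decide +kernel) (by decide +kernel)
theorem hdP : perm dL ∈ Phat := mem_P_of hd (by decide +kernel) (by decide +kernel) (by decide +kernel) (by decide +kernel)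

theorem comm_eq {a b ai bi c : List ℕ} (ha : isPerm a = true) (hb : isPerm b = true) (hai : isPerm ai = true)
    (hbi : isPerm bi = true) (h1 : mulL a ai = idL) (h2 : mulL b bi = idL)
    (h3 : mulL (mulL (mulL a b) ai) bi = c) : perm c = ⁅perm a, perm b⁆ := by
  have ea := perm_inv_of_mul ha hai h1
  have eb := perm_inv_of_mul hb hbi h2
  have h4 : isPerm (mulL a b) = true := isPerm_mulL ha hb
  have h5 : isPerm (mulL (mulL a b) ai) = true := isPerm_mulL h4 hai
  rw [← h3, perm_mulL' h5 hbi, perm_mulL' h4 hai, perm_mulL' ha hb, ea, eb, commutatorElement_def]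

theorem x1_comm : perm x1L = ⁅perm u1L, perm v1L⁆ :=
  comm_eq hu1 hv1 hu1i hv1i (by decide +kernel) (by decide +kernel) (by decide +kernel)
theorem y1_comm : perm y1L = ⁅perm u2L, perm v2L⁆ :=
  comm_eq hu2 hv2 hu2i hv2i (by decide +kernel) (by decide +kernel) (by decide +kernel)

/-- The subgroup of order `360`. -/
noncomputable def AA : Subgroup (Equiv.Perm GolayPt) := Subgroup.closure (genSet [x1L, y1L])

theorem gensA : ∀ g ∈ [x1L, y1L], isPerm g = true := by decide +kernel

theorem chkA : slpChk ([x1L, y1L] : List (List ℕ)).length stepsA = true := by decide +kernel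
theorem idA : idL ∈ slpRun [x1L, y1L] stepsA := by decide +kernel
theorem clA : ∀ g ∈ [x1L, y1L], ∀ e ∈ slpRun [x1L, y1L] stepsA, mulL g e ∈ slpRun [x1L, y1L] stepsA := by
  decide +kernel
theorem ndA : (slpRun [x1L, y1L] stepsA).Nodup := by decide +kernel

theorem AA_spec : (∀ x, x ∈ AA ↔ ∃ e ∈ slpRun [x1L, y1L] stepsA, perm e = x) ∧
    Nat.card AA = (slpRun [x1L, y1L] stepsA).length :=
  table_spec gensA chkA idA clA ndA

theorem AA_card : Nat.card AA = 360 := by
  rw [AA_spec.2]
  decide +kernel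

theorem AA_le : AA ≤ ⁅Phat, Phat⁆ := by
  rw [AA, Subgroup.closure_le]
  rintro x ⟨g, hg, rfl⟩
  simp only [List.mem_cons, List.not_mem_nil, or_false] at hg
  rcases hg with rfl | rfl
  · rw [x1_comm]
    exact Subgroup.commutator_mem_commutator hu1P hv1P
  · rw [y1_comm]
    exact Subgroup.commutator_mem_commutator hu2P hv2P

theorem Phat_card : Nat.card Phat = 720 := by
  have h := card_of_chainOK _ _ m12_chainOK.2.2.2.2.2.2
  have e : Nat.card ↥Phat = _ := h
  rw [e]
  simp only [chainCard, List.map_cons, List.length_map, List.map_nil, List.prod_cons, List.prod_nil]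
  decide +kernel

theorem allPermA : (slpRun [x1L, y1L] stepsA).all isPerm = true := by decide +kernel
theorem dL_notMem : dL ∉ slpRun [x1L, y1L] stepsA := by decide +kernel

theorem d_notMem : perm dL ∉ AA := by
  rw [AA_spec.1]
  rintro ⟨e, he, hee⟩
  have h1 : isPerm e = true := by
    exact List.all_eq_true.mp allPermA e he
  have h2 := perm_injective h1 hd hee
  subst h2
  exact dL_notMem he

theorem AA_le_Phat : AA ≤ Phat := AA_le.trans (Subgroup.commutator_le.mpr fun _ ha _ hb =>
  Phat.mul_mem (Phat.mul_mem (Phat.mul_mem ha hb) (Phat.inv_mem ha)) (Phat.inv_mem hb))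

theorem index_two : (AA.subgroupOf Phat).index = 2 := by
  have h1 := Subgroup.card_mul_index (AA.subgroupOf Phat)
  have h2 : Nat.card (AA.subgroupOf Phat) = 360 := by
    rw [Nat.card_congr (Subgroup.subgroupOfEquivOfLe AA_le_Phat).toEquiv]
    exact AA_card
  rw [h2, Phat_card] at h1
  omega

/-- Elements of the two-point stabiliser are commutators or a commutator times a fixed element. -/
theorem P2_hat {g : Equiv.Perm GolayPt} (hg : g ∈ Phat) : g ∈ AA ∨ g * (perm dL)⁻¹ ∈ AA := by
  by_cases hgA : g ∈ AA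
  · exact Or.inl hgA
  · right
    have h1 := Subgroup.mul_mem_iff_of_index_two index_two (a := ⟨g, hg⟩)
      (b := ⟨perm dL, hdP⟩⁻¹)
    have h2 : ((⟨g, hg⟩ : ↥Phat) * (⟨perm dL, hdP⟩ : ↥Phat)⁻¹) ∈ AA.subgroupOf Phat := by
      rw [h1]
      constructor
      · intro h3
        exact absurd (Subgroup.mem_subgroupOf.mp h3) hgA
      · intro h3
        have h4 := (AA.subgroupOf Phat).inv_mem h3
        rw [inv_inv] at h4
        exact absurd (Subgroup.mem_subgroupOf.mp h4) d_notMem
    exact Subgroup.mem_subgroupOf.mp h2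

theorem PP_map : PP.map M12B.subtype = Phat := by
  rw [PP]
  exact Subgroup.map_subgroupOf_eq_of_le (stabL_le _ _)

theorem comm_PP_map : (⁅PP, PP⁆).map M12B.subtype = ⁅Phat, Phat⁆ := by
  rw [Subgroup.map_commutator, PP_map]

theorem mem_comm_PP {g : ↥M12B} (h : g.1 ∈ AA) : g ∈ ⁅PP, PP⁆ := by
  have h1 := AA_le h
  rw [← comm_PP_map] at h1
  obtain ⟨y, hy, hye⟩ := h1
  have : y = g := Subtype.ext hye
  rwa [← this]

/-! ### The one-point stabiliser -/

theorem stab_le : stabL M12B [23] ≤ M12B := stabL_le _ _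

theorem HH_perfect : commutator HH = ⊤ :=
  commutator_eq_top_of_equiv (Subgroup.subgroupOfEquivOfLe stab_le) M11B_perfect

/-- The one-point stabiliser is `Spor.M11`. -/
noncomputable def equivM11 : ↥(stabL M12B [23]) ≃* ↥Spor.M11 :=
  ((stabL M12B [23]).equivMapOfInjective _ (MulEquiv.injective (MulAut.conj (Cfsg.Agent.S2061.cL |> perm)))).trans
    (MulEquiv.subgroupCongr Cfsg.Agent.S2060.M11_eq_map.symm)

theorem HH_mult (Λ : Type) [Group Λ] [Finite Λ] (ρ : Λ →* HH) (hρ : Cfsg.IsStemExtension ρ) : ρ.ker = ⊥ :=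
  stem_transfer ((Subgroup.subgroupOfEquivOfLe stab_le).trans equivM11)
    (fun Λ _ _ ρ hρ => ker_bot_of_multiplier Cfsg.Agent.S2034.result Λ ρ hρ) Λ ρ hρ

/-- The main bound. -/
theorem main {Γ : Type} [Group Γ] [Finite Γ] {σ : Γ →* ↥M12B} (hσ : Cfsg.IsStemExtension σ) :
    ∃ z ∈ σ.ker, z * z = 1 ∧ ∀ k ∈ σ.ker, k = 1 ∨ k = z := by
  refine ker_le_two_of_three_trans hσ a0 b0 c0 (by decide +kernel) (by decide +kernel) (by decide +kernel) three_trans
    t ?_ ?_ ?_ HH PP mem_HH mem_PP ⟨perm dL, stabL_le _ _ hdP⟩ ?_ ?_ HH_perfect HH_mult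
  · apply Subtype.ext
    show perm tL * perm tL = 1
    rw [← perm_mulL' htp htp, show mulL tL tL = idL by decide +kernel, perm_idL]
  · apply Subtype.ext
    show perm tL (pt 23) = pt 0
    rw [perm_pt htp (by norm_num), show lk tL 23 = 0 by decide +kernel]
  · apply Subtype.ext
    show perm tL (pt 1) = pt 1
    rw [perm_pt htp (by norm_num), show lk tL 1 = 1 by decide +kernel]
  · exact Subgroup.mem_subgroupOf.mpr hdP
  · intro g hg
    have hg' : g.1 ∈ Phat := Subgroup.mem_subgroupOf.mp hg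
    rcases P2_hat hg' with h | h
    · exact Or.inl (mem_comm_PP h)
    · exact Or.inr (mem_comm_PP h)

end Cfsg.Agent.Lib.KnownSimple.M12Upper
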