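import Cfsg.Agent.Lib.Golay.Transfer
import Cfsg.Agent.Lib.Golay.PermWords

/-!
# Involutions of `M24` with a fixed point

Such an involution fixes an octad pointwise; the pointwise stabiliser of an octad is described by
an explicit list.
-/

set_option autoImplicit false

namespace Cfsg.Agent.Lib.KnownSimple.MathieuOut

open Cfsg Cfsg.Agent.Lib.Golay MulAction
open scoped Pointwise

theorem isPerm_mulL {a b : List ℕ} (ha : isPerm a = true) (hb : isPerm b = true) :
    isPerm (mulL a b) = true := by
  have hla := isPerm_length ha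
  have hlb := isPerm_length hb
  have ha' := ha
  have hb' := hb
  simp only [isPerm, Bool.and_eq_true, List.all_eq_true] at ha' hb'
  simp only [isPerm, Bool.and_eq_true, List.all_eq_true]
  refine ⟨⟨?_, ?_⟩, ?_⟩
  · simp [mulL, hlb]
  · intro x hx
    obtain ⟨y, hy, rfl⟩ := List.mem_map.mp hx
    have hy2 := hb'.1.2 y hy
    simp only [Nat.blt_eq] at hy2 ⊢
    exact isPerm_lt ha hy2
  · intro i hi
    have h1 := ha'.2 i hi
    obtain ⟨k, hk, rfl⟩ := exists_lk_of_mem (memB_iff.mp h1)
    rw [hla] at hk
    have h2 := hb'.2 k (List.mem_range.mpr hk)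
    exact memB_iff.mpr (List.mem_map.mpr ⟨k, memB_iff.mp h2, rfl⟩)

theorem perm_mulL' {a b : List ℕ} (ha : isPerm a = true) (hb : isPerm b = true) :
    perm (mulL a b) = perm a * perm b :=
  (perm_mulL ha hb (isPerm_mulL ha hb)).symm

theorem list_eq_of_lk : ∀ {l m : List ℕ}, l.length = m.length →
    (∀ k < l.length, lk l k = lk m k) → l = m := by
  intro l
  induction l with
  | nil =>
    intro m h _
    cases m with
    | nil => rfl
    | cons _ _ => simp at h
  | cons a as ih =>
    intro m h hk
    cases m with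
    | nil => simp at h
    | cons b bs =>
      have h0 := hk 0 (by simp)
      simp only [lk] at h0
      subst h0
      congr 1
      apply ih (by simpa using h)
      intro k hk'
      exact hk (k + 1) (by simpa using hk')

theorem perm_injective {l m : List ℕ} (hl : isPerm l = true) (hm : isPerm m = true)
    (h : perm l = perm m) : l = m := by
  apply list_eq_of_lk (by rw [isPerm_length hl, isPerm_length hm])
  intro k hk
  rw [isPerm_length hl] at hk
  have h1 := idx_perm hl (pt k)
  have h2 := idx_perm hm (pt k)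
  rw [idx_pt hk] at h1 h2
  rw [← h1, ← h2, h]

theorem isPerm_idL : isPerm idL = true := by decide +kernel

theorem eq_idL_of_perm {l : List ℕ} (hl : isPerm l = true) (h : perm l = 1) : l = idL :=
  perm_injective hl isPerm_idL (by rw [h, perm_idL])

/-- The set of fixed points. -/
def fixF (g : Equiv.Perm GolayPt) : Finset GolayPt := Finset.univ.filter fun p => g p = p

theorem mem_fixF {g : Equiv.Perm GolayPt} {p : GolayPt} : p ∈ fixF g ↔ g p = p := by
  simp [fixF]

theorem fixF_conj (h t : Equiv.Perm GolayPt) : fixF (h * t * h⁻¹) = h • fixF t := by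
  ext p
  rw [← Finset.inv_smul_mem_iff, mem_fixF, mem_fixF]
  simp only [Equiv.Perm.mul_apply, Equiv.Perm.smul_def]
  constructor
  · intro h1
    have := congrArg (fun q => h⁻¹ q) h1
    simpa using this
  · intro h1
    rw [h1]
    simp

/-- The mask of fixed points of a list permutation. -/
def fixMaskL (l : List ℕ) : ℕ := Nat.ofBits fun i : Fin 24 => Nat.beq (lk l i) i

theorem fixF_perm {l : List ℕ} (h : isPerm l = true) : fixF (perm l) = finOf (fixMaskL l) := by
  ext p
  rw [mem_fixF, mem_finOf, fixMaskL, Nat.testBit_ofBits_lt _ _ (idx_lt p)]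
  simp only
  constructor
  · intro h1
    have := idx_perm h p
    rw [h1] at this
    rw [← this]
    simp
  · intro h1
    apply idx_injective
    rw [idx_perm h]
    exact Nat.eq_of_beq_eq_true h1

/-- Parity-type congruence for the number of fixed points. -/
theorem card_fixF_modEq {g : Equiv.Perm GolayPt} {p n : ℕ} [Fact p.Prime] (h : g ^ p ^ n = 1) :
    (fixF g).card ≡ 24 [MOD p] := by
  have h1 := Equiv.Perm.card_compl_support_modEq (σ := g) h
  have h2 : g.supportᶜ = fixF g := by
    ext q
    simp [fixF]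
  rw [h2] at h1
  have h3 : Fintype.card GolayPt = 24 := by simp [ZMod.card]
  rwa [h3] at h1

/-! ### The stabiliser of four base points -/

theorem hup4 : ∀ g ∈ stabL M24 [23, 0, 1, 2], idx (g (pt 3)) ∈ orbitL 3 m24T4 :=
  hup_of_cand (by decide) (by norm_num) (by simp) _ cand4 (by decide +kernel)

theorem T2_perm : ∀ t ∈ m24T2, isPerm t = true := by decide +kernel
theorem T3_perm : ∀ t ∈ m24T3, isPerm t = true := by decide +kernel
theorem T4_perm : ∀ t ∈ m24T4, isPerm t = true := by decide +kernel

/-- The 960 elements of the stabiliser of four points. -/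
def stab4L : List (List ℕ) :=
  m24T4.flatMap fun t4 => m24T5.flatMap fun t5 => m24T6.map fun t6 => mulL t4 (mulL t5 t6)

theorem stab4L_perm {z : List ℕ} (hz : z ∈ stab4L) : isPerm z = true := by
  simp only [stab4L, List.mem_flatMap, List.mem_map] at hz
  obtain ⟨t4, h4, t5, h5, t6, h6, rfl⟩ := hz
  exact isPerm_mulL (T4_perm _ h4) (isPerm_mulL (T5_perm _ h5) (T6_perm _ h6))

theorem mem_stab4 {g : Equiv.Perm GolayPt} (hg : g ∈ stabL M24 [23, 0, 1, 2]) :
    ∃ z ∈ stab4L, g = perm z := by
  obtain ⟨t4, ht4, h4⟩ := List.mem_map.mp (hup4 g hg)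
  have ht4m := perm_mem_stabL T4_check (by decide) ht4
  have h4' : g (pt 3) = perm t4 (pt 3) := by
    rw [perm_pt (T4_perm t4 ht4) (by norm_num), h4, pt_idx]
  have h1 := inv_mul_mem_stabL_append hg ht4m h4'
  obtain ⟨t5, ht5, t6, ht6, h56⟩ := mem_stab5 h1
  refine ⟨mulL t4 (mulL t5 t6), ?_, ?_⟩
  · simp only [stab4L, List.mem_flatMap, List.mem_map]
    exact ⟨t4, ht4, t5, ht5, t6, ht6, rfl⟩
  · rw [perm_mulL' (T4_perm _ ht4) (isPerm_mulL (T5_perm _ ht5) (T6_perm _ ht6)),
      perm_mulL' (T5_perm _ ht5) (T6_perm _ ht6), ← h56]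
    group

/-- The test: an involution among a list has an octad as fixed point set. -/
def involOK (y : List ℕ) : Bool :=
  !(mulL y y == idL) || (y == idL) || memB (fixMaskL y) octadL

theorem check_A : stab4L.all involOK = true := by decide +kernel

def t2B : List ℕ := [0, 2, 18, 3, 1, 10, 4, 20, 9, 16, 21, 14, 13, 8, 19, 15, 12, 22, 6, 17, 5, 7, 11, 23]
def t3B : List ℕ := [0, 1, 4, 18, 13, 21, 20, 11, 5, 12, 6, 15, 7, 22, 10, 9, 2, 14, 8, 19, 17, 3, 16, 23]

theorem t2B_mem : t2B ∈ m24T2 := by decide +kernel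
theorem t3B_mem : t3B ∈ m24T3 := by decide +kernel
theorem t2B_perm : isPerm t2B = true := T2_perm _ t2B_mem
theorem t3B_perm : isPerm t3B = true := T3_perm _ t3B_mem

theorem check_B : stab4L.all (fun z => involOK (mulL (mulL t2B t3B) z)) = true := by decide +kernel

/-- An element given by a list passing `involOK` which is a nontrivial involution has an octad of
fixed points. -/
theorem fixF_mem_octads_of_involOK {y : Equiv.Perm GolayPt} {z : List ℕ} (hz : isPerm z = true)
    (hy : y = perm z) (hok : involOK z = true) (h2 : y ^ 2 = 1) (hne : y ≠ 1) : fixF y ∈ octads := by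
  subst hy
  have h1 : mulL z z = idL := by
    apply eq_idL_of_perm (isPerm_mulL hz hz)
    rw [perm_mulL' hz hz, ← pow_two, h2]
  have h3 : z ≠ idL := by
    rintro rfl
    exact hne perm_idL
  simp only [involOK, Bool.or_eq_true, beq_iff_eq, Bool.not_eq_true'] at hok
  rcases hok with (h | h) | h
  · have : (mulL z z == idL) = true := by simp [h1]
    rw [this] at h
    exact absurd h (by simp)
  · exact absurd h h3
  · rw [fixF_perm hz]
    exact (mem_octads_iff _).mpr ⟨_, memB_iff.mp h, rfl⟩

/-- Four base points. -/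
def base4 : Fin 4 ↪ GolayPt := ⟨![pt 23, pt 0, pt 1, pt 2], by decide⟩

theorem exists_to_base4 (x : Fin 4 ↪ GolayPt) : ∃ g ∈ M24, ∀ i, g (x i) = base4 i := by
  have h := M24_k_transitive (k := 4) (by norm_num)
  obtain ⟨⟨g, hg⟩, hgx⟩ := h.exists_smul_eq x base4
  exact ⟨g, hg, fun i => DFunLike.congr_fun hgx i⟩

/-- An involution of `M24` with a fixed point has an octad as its fixed point set. -/
theorem fixF_octad {t : Equiv.Perm GolayPt} (ht : t ∈ M24) (h2 : t ^ 2 = 1) (hne : t ≠ 1)
    (hfix : ∃ p, t p = p) : fixF t ∈ octads := by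
  classical
  have hinv : ∀ q, t (t q) = q := by
    intro q
    have : (t ^ 2) q = q := by rw [h2]; rfl
    simpa [pow_two] using this
  have hpar : (fixF t).card ≡ 24 [MOD 2] := by
    have : Fact (Nat.Prime 2) := ⟨Nat.prime_two⟩
    exact card_fixF_modEq (p := 2) (n := 1) (by simpa using h2)
  have hpar' : (fixF t).card % 2 = 0 := by
    have := hpar
    unfold Nat.ModEq at this
    omega
  obtain ⟨p, hp⟩ := hfix
  have hpos : 0 < (fixF t).card := Finset.card_pos.mpr ⟨p, mem_fixF.mpr hp⟩
  have htrans : ∀ (g : Equiv.Perm GolayPt), g ∈ M24 → fixF (g * t * g⁻¹) ∈ octads → fixF t ∈ octads := by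
    intro g hg h
    rw [fixF_conj] at h
    have := smul_octad (M24.inv_mem hg) h
    simpa using this
  have hconjinv : ∀ (g : Equiv.Perm GolayPt), (g * t * g⁻¹) ^ 2 = 1 := by
    intro g
    rw [conj_pow, h2]
    group
  have hconjne : ∀ (g : Equiv.Perm GolayPt), g * t * g⁻¹ ≠ 1 := by
    intro g h
    apply hne
    have : t = g⁻¹ * (g * t * g⁻¹) * g := by group
    rw [this, h]
    group
  by_cases h3 : 3 ≤ (fixF t).card
  · -- at least four fixed points
    have h4 : 4 ≤ (fixF t).card := by omega
    obtain ⟨s, hs, hsc⟩ := Finset.exists_subset_card_eq h4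
    let e := s.equivFinOfCardEq hsc
    let x : Fin 4 ↪ GolayPt := ⟨fun i => (e.symm i : GolayPt), fun i j h => by
      exact e.symm.injective (Subtype.ext h)⟩
    obtain ⟨g, hg, hgx⟩ := exists_to_base4 x
    apply htrans g hg
    have hfx : ∀ i, t (x i) = x i := fun i => mem_fixF.mp (hs (e.symm i).2)
    have hb : ∀ i, (g * t * g⁻¹) (base4 i) = base4 i := by
      intro i
      rw [← hgx i]
      simp [hfx]
    have hmem : g * t * g⁻¹ ∈ stabL M24 [23, 0, 1, 2] := by
      rw [mem_stabL]
      refine ⟨M24.mul_mem (M24.mul_mem hg ht) (M24.inv_mem hg), ?_⟩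
      intro b hb'
      simp only [List.mem_cons, List.not_mem_nil, or_false] at hb'
      rcases hb' with rfl | rfl | rfl | rfl
      · exact hb 0
      · exact hb 1
      · exact hb 2
      · exact hb 3
    obtain ⟨z, hz, hyz⟩ := mem_stab4 hmem
    exact fixF_mem_octads_of_involOK (stab4L_perm hz) hyz (List.all_eq_true.mp check_A z hz)
      (hconjinv g) (hconjne g)
  · -- exactly two fixed points
    have hc2 : (fixF t).card = 2 := by omega
    obtain ⟨p0, p1, hne01, heq⟩ := Finset.card_eq_two.mp hc2
    have h0 : t p0 = p0 := mem_fixF.mp (by rw [heq]; simp)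
    have h1 : t p1 = p1 := mem_fixF.mp (by rw [heq]; simp)
    obtain ⟨q, hq⟩ : ∃ q, q ∉ fixF t := by
      by_contra hall
      push Not at hall
      have : (fixF t) = Finset.univ := Finset.eq_univ_iff_forall.mpr hall
      rw [this, Finset.card_univ] at hc2
      have h3 : Fintype.card GolayPt = 24 := by simp [ZMod.card]
      omega
    have hq1 : t q ≠ q := fun h => hq (mem_fixF.mpr h)
    have hq2 : t q ∉ fixF t := by
      intro h
      have := mem_fixF.mp h
      rw [hinv] at this
      exact hq1 this.symm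
    have hq0 : q ≠ p0 := by
      rintro rfl
      exact hq (mem_fixF.mpr h0)
    have hq0' : q ≠ p1 := by
      rintro rfl
      exact hq (mem_fixF.mpr h1)
    have hq3 : t q ≠ p0 := by
      intro h
      exact hq2 (h ▸ mem_fixF.mpr h0)
    have hq3' : t q ≠ p1 := by
      intro h
      exact hq2 (h ▸ mem_fixF.mpr h1)
    let x : Fin 4 ↪ GolayPt := ⟨![p0, p1, q, t q], by
      intro i j hij
      fin_cases i <;> fin_cases j <;> first
        | rfl
        | exact absurd hij hne01
        | exact absurd hij hne01.symm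
        | exact absurd hij hq0
        | exact absurd hij hq0.symm
        | exact absurd hij hq0'
        | exact absurd hij hq0'.symm
        | exact absurd hij hq3
        | exact absurd hij hq3.symm
        | exact absurd hij hq3'
        | exact absurd hij hq3'.symm
        | exact absurd hij hq1
        | exact absurd hij hq1.symm⟩
    obtain ⟨g, hg, hgx⟩ := exists_to_base4 x
    apply htrans g hg
    have e0 : g p0 = pt 23 := hgx 0
    have e1 : g p1 = pt 0 := hgx 1
    have e2 : g q = pt 1 := hgx 2
    have e3 : g (t q) = pt 2 := hgx 3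
    set y := g * t * g⁻¹ with hy
    have y0 : y (pt 23) = pt 23 := by
      rw [← e0, hy]; simp [h0]
    have y1 : y (pt 0) = pt 0 := by
      rw [← e1, hy]; simp [h1]
    have y2 : y (pt 1) = pt 2 := by
      rw [← e2, hy]; simp [e3]
    have y3 : y (pt 2) = pt 1 := by
      rw [← e3, hy]; simp [hinv, e2]
    have hyM : y ∈ M24 := M24.mul_mem (M24.mul_mem hg ht) (M24.inv_mem hg)
    have hm2 : y ∈ stabL M24 [23, 0] := by
      rw [mem_stabL]
      refine ⟨hyM, ?_⟩
      intro b hb'
      simp only [List.mem_cons, List.not_mem_nil, or_false] at hb'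
      rcases hb' with rfl | rfl
      · exact y0
      · exact y1
    have ht2m := perm_mem_stabL T2_check (by decide) t2B_mem
    have ht3m := perm_mem_stabL T3_check (by decide) t3B_mem
    have e2' : perm t2B (pt 1) = pt 2 := by
      rw [perm_pt t2B_perm (by norm_num)]
      rfl
    have hm3 := inv_mul_mem_stabL_append hm2 ht2m (show y (pt 1) = perm t2B (pt 1) by rw [y2, e2'])
    have e3' : perm t2B (perm t3B (pt 2)) = pt 1 := by
      rw [perm_pt t3B_perm (by norm_num), perm_pt t2B_perm (by decide +kernel)]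
      rfl
    have e4 : ((perm t2B)⁻¹ * y) (pt 2) = perm t3B (pt 2) := by
      rw [Equiv.Perm.mul_apply, y3, ← e3']
      simp
    have hm4 := inv_mul_mem_stabL_append hm3 ht3m e4
    obtain ⟨z, hz, hyz⟩ := mem_stab4 hm4
    have hyz' : y = perm (mulL (mulL t2B t3B) z) := by
      rw [perm_mulL' (isPerm_mulL t2B_perm t3B_perm) (stab4L_perm hz), perm_mulL' t2B_perm t3B_perm,
        ← hyz]
      group
    exact fixF_mem_octads_of_involOK (isPerm_mulL (isPerm_mulL t2B_perm t3B_perm) (stab4L_perm hz))
      hyz' (List.all_eq_true.mp check_B z hz) (hconjinv g) (hconjne g)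

/-! ### The pointwise stabiliser of the base octad -/

/-- The octad through the five base points. -/
def O0 : ℕ := 8536111

theorem O0_mem : O0 ∈ octadL := by decide +kernel

/-- Nontrivial elements fixing the base octad pointwise. -/
def E0L : List (List ℕ) :=
  (m24T5.flatMap fun t5 => m24T6.map fun t6 => mulL t5 t6).filter fun z =>
    !(z == idL) && Nat.beq (Nat.land (fixMaskL z) O0) O0

theorem E0L_perm {z : List ℕ} (hz : z ∈ E0L) : isPerm z = true := by
  simp only [E0L, List.mem_filter, List.mem_flatMap, List.mem_map] at hz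
  obtain ⟨⟨t5, h5, t6, h6, rfl⟩, _⟩ := hz
  exact isPerm_mulL (T5_perm _ h5) (T6_perm _ h6)

theorem E0L_length : E0L.length = 15 := by decide +kernel

theorem base5_mem_O0 : ∀ b ∈ [23, 0, 1, 2, 3], pt b ∈ finOf O0 := by
  intro b hb
  simp only [List.mem_cons, List.not_mem_nil, or_false] at hb
  rcases hb with rfl | rfl | rfl | rfl | rfl <;> (rw [mem_finOf]; decide +kernel)

/-- An element of `M24` fixing the base octad pointwise and not the identity is in `E0L`. -/
theorem mem_E0L {x : Equiv.Perm GolayPt} (hx : x ∈ M24) (hfix : ∀ p ∈ finOf O0, x p = p) (hne : x ≠ 1) :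
    ∃ z ∈ E0L, x = perm z := by
  have hm : x ∈ stabL M24 [23, 0, 1, 2, 3] := by
    rw [mem_stabL]
    exact ⟨hx, fun b hb => hfix _ (base5_mem_O0 b hb)⟩
  obtain ⟨t5, h5, t6, h6, hxe⟩ := mem_stab5 hm
  have hp := isPerm_mulL (T5_perm _ h5) (T6_perm _ h6)
  have hxp : x = perm (mulL t5 t6) := by rw [perm_mulL' (T5_perm _ h5) (T6_perm _ h6), hxe]
  refine ⟨mulL t5 t6, ?_, hxp⟩
  simp only [E0L, List.mem_filter, List.mem_flatMap, List.mem_map, Bool.and_eq_true,
    Bool.not_eq_true', beq_eq_false_iff_ne, ne_eq]
  refine ⟨⟨t5, h5, t6, h6, rfl⟩, ?_, ?_⟩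
  · intro h
    apply hne
    rw [hxp, h, perm_idL]
  · have h1 : ∀ i : ℕ, O0.testBit i = true → (fixMaskL (mulL t5 t6)).testBit i = true := by
      intro i hi
      have hi24 : i < 24 := by
        by_contra hc
        have : O0 < 2 ^ i := lt_of_lt_of_le (by decide) (Nat.pow_le_pow_right (by norm_num) (by omega : 24 ≤ i))
        rw [Nat.testBit_lt_two_pow this] at hi
        exact absurd hi (by simp)
      have hmem : pt i ∈ finOf O0 := by
        rw [mem_finOf, idx_pt hi24]
        exact hi
      have h2 := hfix _ hmem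
      have h3 : pt i ∈ fixF (perm (mulL t5 t6)) := by
        rw [mem_fixF, ← hxp]; exact h2
      rw [fixF_perm hp, mem_finOf, idx_pt hi24] at h3
      exact h3
    rw [Nat.beq_eq]
    apply Nat.eq_of_testBit_eq
    intro i
    show ((fixMaskL (mulL t5 t6)) &&& O0).testBit i = _
    rw [Nat.testBit_and]
    cases h : O0.testBit i with
    | false => simp
    | true => simp [h1 i h]

end Cfsg.Agent.Lib.KnownSimple.MathieuOut
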