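/-
Combinatorics of 3-cycles: the adjacency relation (x*y)^2 = 1 on 3-cycles and the generation of the
alternating group by the cycles (a b i).
-/
import Mathlib

set_option autoImplicit false

namespace Cfsg.Agent.Lib.KnownSimple.ThreeCycles

open Equiv Equiv.Perm

variable {α : Type*} [DecidableEq α]

/-- The cycle `a ↦ b ↦ c ↦ a`. -/
def cyc (a b c : α) : Perm α := swap a b * swap b c

lemma cyc_left {a b c : α} (ab : a ≠ b) (ac : a ≠ c) : cyc a b c a = b := by
  simp [cyc, swap_apply_of_ne_of_ne ab ac]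

lemma cyc_mid {a b c : α} (ac : a ≠ c) (bc : b ≠ c) : cyc a b c b = c := by
  simp [cyc, swap_apply_of_ne_of_ne ac.symm bc.symm]

lemma cyc_right {a b c : α} (_ab : a ≠ b) : cyc a b c c = a := by
  simp [cyc]

lemma cyc_of_ne {a b c t : α} (ta : t ≠ a) (tb : t ≠ b) (tc : t ≠ c) : cyc a b c t = t := by
  simp [cyc, swap_apply_of_ne_of_ne tb tc, swap_apply_of_ne_of_ne ta tb]

lemma isThreeCycle_cyc [Fintype α] {a b c : α} (ab : a ≠ b) (ac : a ≠ c) (bc : b ≠ c) :
    (cyc a b c).IsThreeCycle := by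
  have h : cyc a b c = swap b a * swap b c := by rw [cyc, swap_comm a b]
  rw [h]
  exact isThreeCycle_swap_mul_swap_same ab.symm bc ac

lemma conj_cyc (g : Perm α) (a b c : α) : g * cyc a b c * g⁻¹ = cyc (g a) (g b) (g c) := by
  rw [cyc, cyc]
  have h1 := mul_swap_eq_swap_mul g a b
  have h2 := mul_swap_eq_swap_mul g b c
  calc g * (swap a b * swap b c) * g⁻¹ = (g * swap a b) * swap b c * g⁻¹ := by simp only [mul_assoc]
    _ = (swap (g a) (g b) * g) * swap b c * g⁻¹ := by rw [h1]
    _ = swap (g a) (g b) * (g * swap b c) * g⁻¹ := by simp only [mul_assoc]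
    _ = swap (g a) (g b) * (swap (g b) (g c) * g) * g⁻¹ := by rw [h2]
    _ = swap (g a) (g b) * swap (g b) (g c) := by simp only [mul_assoc, mul_inv_cancel, mul_one]

lemma cyc_inv (a b c : α) : (cyc a b c)⁻¹ = cyc c b a := by
  rw [cyc, cyc, mul_inv_rev, swap_inv, swap_inv, swap_comm c b, swap_comm b a]

lemma cyc_rot {a b c : α} (ab : a ≠ b) (ac : a ≠ c) (bc : b ≠ c) : cyc a b c = cyc b c a := by
  ext t
  by_cases ta : t = a
  · subst ta
    rw [cyc_left ab ac, cyc_right bc]
  by_cases tb : t = b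
  · subst tb
    rw [cyc_mid ac bc, cyc_left bc ab.symm]
  by_cases tc : t = c
  · subst tc
    rw [cyc_right ab, cyc_mid ab.symm ac.symm]
  rw [cyc_of_ne ta tb tc, cyc_of_ne tb tc ta]

variable [Fintype α]

lemma IsThreeCycle_pow_three {x : Perm α} (hx : x.IsThreeCycle) (t : α) : x (x (x t)) = t := by
  have h := pow_orderOf_eq_one x
  rw [hx.orderOf] at h
  have := congrArg (fun f : Perm α => f t) h
  simpa [pow_succ] using this

lemma IsThreeCycle_eq_cyc {x : Perm α} (hx : x.IsThreeCycle) {a : α} (ha : x a ≠ a) :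
    x = cyc a (x a) (x (x a)) :=
  hx.eq_swap_mul_swap_iff_mem_support.mpr (mem_support.mpr ha)

lemma IsThreeCycle_nodup {x : Perm α} (hx : x.IsThreeCycle) {a : α} (ha : x a ≠ a) :
    a ≠ x a ∧ a ≠ x (x a) ∧ x a ≠ x (x a) := by
  have := hx.nodup_iff_mem_support.mpr (mem_support.mpr ha)
  simp at this
  exact ⟨ha.symm, this.1.2, fun e => ha (x.injective e).symm⟩

lemma IsThreeCycle_support {x : Perm α} (hx : x.IsThreeCycle) {a t : α} (ha : x a ≠ a)
    (ht : x t ≠ t) : t = a ∨ t = x a ∨ t = x (x a) := by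
  have h := hx.support_eq_iff_mem_support.mpr (mem_support.mpr ha)
  have ht' : t ∈ x.support := mem_support.mpr ht
  rw [h] at ht'
  simpa using ht'

/-- The basic chase: adjacent `x, z`, `z` fixing `p`. -/
lemma chase {x z : Perm α} (hx : x.IsThreeCycle) (h : (x * z) ^ 2 = 1) {p : α} (hz : z p = p) :
    z (x p) = x (x p) := by
  have h1 : x (z (x (z p))) = p := by
    have := congrArg (fun f : Perm α => f p) h
    simpa [pow_two] using this
  rw [hz] at h1
  have h2 := IsThreeCycle_pow_three hx (z (x p))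
  rw [h1] at h2
  exact h2.symm

lemma exists_moved {x z : Perm α} (hx : x.IsThreeCycle) (hz : z.IsThreeCycle)
    (h : (x * z) ^ 2 = 1) (h1 : x * z ≠ 1) : ∃ p, x p ≠ p ∧ z p = p := by
  by_contra hcon
  push Not at hcon
  obtain ⟨a, ha⟩ : ∃ a, x a ≠ a := by
    by_contra hno
    push Not at hno
    exact hx.ne_one (Equiv.ext hno)
  have hza := hcon a ha
  have hsub : x.support ⊆ z.support := fun t ht =>
    mem_support.mpr (hcon t (mem_support.mp ht))
  have hsupp : x.support = z.support :=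
    Finset.eq_of_subset_of_card_le hsub (by rw [hx.card_support, hz.card_support])
  have hmem : ∀ t, z t ≠ t → t = a ∨ t = x a ∨ t = x (x a) := fun t ht => by
    have : t ∈ x.support := hsupp ▸ mem_support.mpr ht
    exact IsThreeCycle_support hx ha (mem_support.mp this)
  obtain ⟨n1, n2, n3⟩ := IsThreeCycle_nodup hx ha
  obtain ⟨m1, m2, m3⟩ := IsThreeCycle_nodup hz hza
  have hzza : z (z a) ≠ z a := fun e => hza (z.injective e)
  have hzzz : z (z (z a)) ≠ z (z a) := fun e' => hzza (z.injective e')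
  rcases hmem (z a) hzza with e | e | e
  · exact absurd e hza
  · -- `z a = x a`, so `z = x`
    have e2 : z (z a) = x (x a) := by
      rcases hmem (z (z a)) hzzz with e' | e' | e'
      · exact absurd e'.symm m2
      · exact absurd (e'.trans e.symm).symm m3
      · exact e'
    have hzx : z = x := by
      rw [IsThreeCycle_eq_cyc hz hza, e2, e]
      exact (IsThreeCycle_eq_cyc hx ha).symm
    subst hzx
    have h4 : z ^ 4 = 1 := by
      rw [← h, ← pow_two, ← pow_mul]
    have := orderOf_dvd_of_pow_eq_one h4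
    rw [hz.orderOf] at this
    omega
  · -- `z a = x (x a)`, so `z = x⁻¹`
    have e2 : z (z a) = x a := by
      rcases hmem (z (z a)) hzzz with e' | e' | e'
      · exact absurd e'.symm m2
      · exact e'
      · exact absurd (e'.trans e.symm).symm m3
    apply h1
    ext t
    have hxa3 : x (x (x a)) = a := IsThreeCycle_pow_three hx a
    have hza3 : z (z (z a)) = a := IsThreeCycle_pow_three hz a
    simp only [Perm.mul_apply, Perm.one_apply]
    by_cases ht : x t = t
    · have hzt : z t = t := by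
        by_contra hne
        rcases hmem t hne with e' | e' | e'
        · exact ha (e' ▸ ht)
        · subst e'
          exact ha (x.injective ht)
        · subst e'
          exact ha (x.injective (x.injective ht))
      rw [hzt, ht]
    · rcases IsThreeCycle_support hx ha ht with e' | e' | e'
      · subst e'
        rw [e, hxa3]
      · subst e'
        have : z (x a) = a := by rw [← e2, hza3]
        rw [this]
      · subst e'
        have : z (x (x a)) = x a := by rw [← e, e2]
        rw [this]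

/-- Adjacent 3-cycles share an arrow. -/
lemma adj_form {x z : Perm α} (hx : x.IsThreeCycle) (hz : z.IsThreeCycle)
    (h : (x * z) ^ 2 = 1) (h1 : x * z ≠ 1) :
    ∃ a b c d : α, a ≠ b ∧ a ≠ c ∧ a ≠ d ∧ b ≠ c ∧ b ≠ d ∧ c ≠ d ∧ x = cyc a b c ∧ z = cyc a b d := by
  obtain ⟨p, hp, hzp⟩ := exists_moved hx hz h h1
  have hc := chase hx h hzp
  obtain ⟨n1, n2, n3⟩ := IsThreeCycle_nodup hx hp
  have hxx : x (x p) ≠ x p := n3.symm
  have hb : x (x (x p)) = p := IsThreeCycle_pow_three hx p
  have hzb : z (x p) ≠ x p := by rw [hc]; exact hxx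
  obtain ⟨m1, m2, m3⟩ := IsThreeCycle_nodup hz hzb
  rw [hc] at m1 m2 m3
  refine ⟨x p, x (x p), p, z (x (x p)), n3, n1.symm, m2, n2.symm, m3, ?_, ?_, ?_⟩
  · intro e
    have : z p = z (x (x p)) := by rw [hzp]; exact e
    exact n2 (z.injective this)
  · have := IsThreeCycle_eq_cyc hx (a := x p) hxx
    rw [hb] at this
    exact this
  · have := IsThreeCycle_eq_cyc hz (a := x p) hzb
    rw [hc] at this
    exact this

/-- A 3-cycle adjacent to `(a b c)` and `(a b d)` has the form `(a b e)`. -/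
lemma triangle {a b c d : α} {z : Perm α} (ab : a ≠ b) (ac : a ≠ c) (ad : a ≠ d) (bc : b ≠ c)
    (bd : b ≠ d) (cd : c ≠ d) (hz : z.IsThreeCycle)
    (h : (cyc a b c * z) ^ 2 = 1) (h1 : cyc a b c * z ≠ 1)
    (h' : (cyc a b d * z) ^ 2 = 1) :
    ∃ e, z = cyc a b e ∧ a ≠ e ∧ b ≠ e ∧ c ≠ e ∧ d ≠ e := by
  have hx := isThreeCycle_cyc ab ac bc
  have hy := isThreeCycle_cyc ab ad bd
  obtain ⟨p, hp, hzp⟩ := exists_moved hx hz h h1
  have hpc : p = a ∨ p = b ∨ p = c := by
    by_contra hne
    push Not at hne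
    exact hp (cyc_of_ne hne.1 hne.2.1 hne.2.2)
  rcases hpc with rfl | rfl | rfl
  · exfalso
    have e1 := chase hx h hzp
    rw [cyc_left ab ac, cyc_mid ac bc] at e1
    have e2 := chase hy h' hzp
    rw [cyc_left ab ad, cyc_mid ad bd] at e2
    exact cd (e1.symm.trans e2)
  · exfalso
    have e1 := chase hx h hzp
    rw [cyc_mid ac bc, cyc_right ab] at e1
    have e2 := chase hy h' hzp
    rw [cyc_mid ad bd, cyc_right ab] at e2
    exact cd (z.injective (e1.trans e2.symm))
  · have e1 := chase hx h hzp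
    rw [cyc_right ab, cyc_left ab ac] at e1
    have hza : z a ≠ a := by rw [e1]; exact ab.symm
    have hform := IsThreeCycle_eq_cyc hz hza
    rw [e1] at hform
    obtain ⟨m1, m2, m3⟩ := IsThreeCycle_nodup hz hza
    rw [e1] at m1 m2 m3
    refine ⟨z b, hform, m2, m3, ?_, ?_⟩
    · intro e
      have : z p = z b := by rw [hzp]; exact e
      exact bc (z.injective this).symm
    · intro e
      have hzy : z = cyc a b d := by rw [hform, ← e]
      have h4 : (cyc a b d) ^ 4 = 1 := by
        rw [← h', hzy, ← pow_two, ← pow_mul]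
      have := orderOf_dvd_of_pow_eq_one h4
      rw [hy.orderOf] at this
      omega

/-- Adjacency of `(a b c)` and `(a b d)`. -/
lemma cyc_adj {a b c d : α} (ab : a ≠ b) (ac : a ≠ c) (ad : a ≠ d) (bc : b ≠ c)
    (bd : b ≠ d) (cd : c ≠ d) : (cyc a b c * cyc a b d) ^ 2 = 1 := by
  have key : cyc a b c * cyc a b d = swap a c * swap b d := by
    ext t
    simp only [Perm.mul_apply]
    by_cases ta : t = a
    · rw [ta, cyc_left ab ad, cyc_mid ac bc, swap_apply_of_ne_of_ne ab.symm.symm ad, swap_apply_left]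
    by_cases tb : t = b
    · rw [tb, cyc_mid ad bd, cyc_of_ne ad.symm bd.symm cd.symm, swap_apply_left,
        swap_apply_of_ne_of_ne ad.symm cd.symm]
    by_cases tc : t = c
    · rw [tc, cyc_of_ne ac.symm bc.symm cd, cyc_right ab, swap_apply_of_ne_of_ne bc.symm cd,
        swap_apply_right]
    by_cases td : t = d
    · rw [td, cyc_right ab, cyc_left ab ac, swap_apply_right, swap_apply_of_ne_of_ne ab.symm bc]
    rw [cyc_of_ne ta tb td, cyc_of_ne ta tb tc, swap_apply_of_ne_of_ne tb td,
      swap_apply_of_ne_of_ne ta tc]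
  have hcomm : Commute (swap a c) (swap b d) := by
    apply Disjoint.commute
    intro t
    by_cases h : t = a ∨ t = c
    · right
      rcases h with rfl | rfl
      · exact swap_apply_of_ne_of_ne ab ad
      · exact swap_apply_of_ne_of_ne bc.symm cd
    · left
      push Not at h
      exact swap_apply_of_ne_of_ne h.1 h.2
  rw [key, hcomm.mul_pow, pow_two, pow_two, swap_mul_self, swap_mul_self, one_mul]

lemma cyc_adj_ne {a b c d : α} (ab : a ≠ b) (ac : a ≠ c) (ad : a ≠ d) (bc : b ≠ c) :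
    cyc a b c * cyc a b d ≠ 1 := by
  intro e
  have := congrArg (fun f : Perm α => f a) e
  simp only [Perm.mul_apply, Perm.one_apply] at this
  rw [cyc_left ab ad, cyc_mid ac bc] at this
  exact ac this.symm

/-- The cycles `(a b i)` generate all 3-cycles. -/
lemma mem_closure_cyc {a b : α} (ab : a ≠ b) {x : Perm α} (hx : x.IsThreeCycle) :
    x ∈ Subgroup.closure {g : Perm α | ∃ i, a ≠ i ∧ b ≠ i ∧ g = cyc a b i} := by
  set K := Subgroup.closure {g : Perm α | ∃ i, a ≠ i ∧ b ≠ i ∧ g = cyc a b i} with hK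
  have s1 : ∀ i, a ≠ i → b ≠ i → cyc a b i ∈ K := fun i hi hi' =>
    Subgroup.subset_closure ⟨i, hi, hi', rfl⟩
  have s2 : ∀ i j, a ≠ i → b ≠ i → a ≠ j → b ≠ j → i ≠ j → cyc a i j ∈ K := by
    intro i j ai bi aj bj ij
    have hg : (cyc a b j)⁻¹ ∈ K := K.inv_mem (s1 j aj bj)
    have := K.mul_mem (K.mul_mem hg (s1 i ai bi)) (K.inv_mem hg)
    rw [conj_cyc, cyc_inv a b j, cyc_right bj.symm, cyc_mid aj.symm ab.symm,
      cyc_of_ne ij bi.symm ai.symm] at this
    rwa [cyc_rot aj.symm ij.symm ai] at this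
  have s3 : ∀ i j, a ≠ i → b ≠ i → a ≠ j → b ≠ j → i ≠ j → cyc b i j ∈ K := by
    intro i j ai bi aj bj ij
    have hg : cyc a b j ∈ K := s1 j aj bj
    have := K.inv_mem (K.mul_mem (K.mul_mem hg (s1 i ai bi)) (K.inv_mem hg))
    rw [conj_cyc, cyc_left ab aj, cyc_mid aj bj, cyc_of_ne ai.symm bi.symm ij, cyc_inv] at this
    rwa [← cyc_rot bi bj ij] at this
  have s4 : ∀ i j k, a ≠ i → b ≠ i → a ≠ j → b ≠ j → a ≠ k → b ≠ k → i ≠ j → i ≠ k → j ≠ k →
      cyc k i j ∈ K := by
    intro i j k ai bi aj bj ak bk ij ik jk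
    have hg : cyc a b k ∈ K := s1 k ak bk
    have := K.mul_mem (K.mul_mem hg (s3 i j ai bi aj bj ij)) (K.inv_mem hg)
    rwa [conj_cyc, cyc_mid ak bk, cyc_of_ne ai.symm bi.symm ik, cyc_of_ne aj.symm bj.symm jk] at this
  have main0 : ∀ q r, a ≠ q → a ≠ r → q ≠ r → cyc a q r ∈ K := by
    intro q r aq ar qr
    by_cases hq : q = b
    · subst hq
      exact s1 r ar qr
    by_cases hr : r = b
    · subst hr
      have := K.inv_mem (s1 q aq (Ne.symm hq))
      rw [cyc_inv] at this
      rwa [cyc_rot aq ar qr]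
    · exact s2 q r aq (Ne.symm hq) ar (Ne.symm hr) qr
  have main1 : ∀ q r, a ≠ q → a ≠ r → b ≠ q → b ≠ r → q ≠ r → cyc b q r ∈ K :=
    fun q r aq ar bq br qr => s3 q r aq bq ar br qr
  have main : ∀ p q r, p ≠ q → p ≠ r → q ≠ r → cyc p q r ∈ K := by
    intro p q r pq pr qr
    have rot1 : cyc p q r = cyc q r p := cyc_rot pq pr qr
    have rot2 : cyc p q r = cyc r p q := (cyc_rot pr.symm qr.symm pq).symm
    by_cases hpa : a = p
    · subst hpa; exact main0 q r pq pr qr
    by_cases hqa : a = q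
    · subst hqa
      rw [rot1]
      exact main0 r p qr pq.symm pr.symm
    by_cases hra : a = r
    · subst hra
      rw [rot2]
      exact main0 p q pr.symm qr.symm pq
    by_cases hpb : b = p
    · subst hpb; exact main1 q r hqa hra pq pr qr
    by_cases hqb : b = q
    · subst hqb
      rw [rot1]
      exact main1 r p hra hpa qr pq.symm pr.symm
    by_cases hrb : b = r
    · subst hrb
      rw [rot2]
      exact main1 p q hpa hqa pr.symm qr.symm pq
    exact s4 q r p hqa hqb hra hrb hpa hpb qr pq.symm pr.symm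
  obtain ⟨t, ht⟩ : ∃ t, x t ≠ t := by
    by_contra hno
    push Not at hno
    exact hx.ne_one (Equiv.ext hno)
  obtain ⟨n1, n2, n3⟩ := IsThreeCycle_nodup hx ht
  rw [IsThreeCycle_eq_cyc hx ht]
  exact main _ _ _ n1 n2 n3

end Cfsg.Agent.Lib.KnownSimple.ThreeCycles
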